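import Groth.Agent.RB70.SerreVanish
import Groth.Agent.S9710
import Groth.Agent.Csa25.ProjLin
import Groth.Agent.EGA73.TwistBaseChange
import Groth.Agent.EGA73.AmpleBaseImmersion
import Groth.Agent.Amp73.Powers
import Groth.Agent.Amp73.GlobGen
import Groth.Agent.Approx60.Segre

/-! Serre vanishing for ample invertible modules on proper schemes over Noetherian rings. -/

set_option autoImplicit false
set_option backward.isDefEq.respectTransparency.types false
set_option linter.style.haveILetI false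
set_option synthInstance.maxHeartbeats 200000
set_option maxHeartbeats 1000000

universe u

open CategoryTheory CategoryTheory.Limits AlgebraicGeometry Opposite TopologicalSpace

noncomputable section

namespace Groth.Agent.RB70

/-- `P^n` over an affine scheme as `Proj`, with its twisting sheaves. -/
theorem exists_projSpaceOver_iso (A : Type u) [CommRing A] (n : ℕ) :
    ∃ e : CohB1.ProjSpaceOver n (Spec (CommRingCat.of A)) ≅ CohB1.ProjSpace n A,
      e.hom ≫ CohB1.ProjSpace.toSpec n A = CohB1.ProjSpaceOver.toBase n _ ∧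
      ∀ d : ℤ, Nonempty ((Scheme.Modules.pullback e.hom).obj (Twist.twistProjSpace n A d) ≅
        Twist.twistOver n (Spec (CommRingCat.of A)) d) := by
  let Z := ULift.{u} ℤ
  algebraize [((Int.castRingHom A).comp (ULift.ringEquiv (R := ℤ)).toRingHom)]
  let l := Csa25.linMap (n := n) (algebraMap Z A) 1 isUnit_one
  have hpb : IsPullback l (CohB1.ProjSpace.toSpec n A)
      (CohB1.ProjSpace.toSpec n Z) (specULiftZIsTerminal.from (Spec (CommRingCat.of A))) := by
    rw [specULiftZIsTerminal.hom_ext (specULiftZIsTerminal.from (Spec (CommRingCat.of A)))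
      (Spec.map (CommRingCat.ofHom (algebraMap Z A)))]
    exact Csa25.isPullback_linMap_one
  let e : CohB1.ProjSpaceOver n (Spec (CommRingCat.of A)) ≅ CohB1.ProjSpace n A :=
    (IsPullback.of_hasPullback _ _).isoIsPullback _ _ hpb
  have h1 : e.hom ≫ l = pullback.fst _ _ := (IsPullback.of_hasPullback _ _).isoIsPullback_hom_fst _ _ hpb
  refine ⟨e, (IsPullback.of_hasPullback _ _).isoIsPullback_hom_snd _ _ hpb, fun d => ?_⟩
  letI : Algebra (MvPolynomial (Fin (n + 1)) Z) (MvPolynomial (Fin (n + 1)) A) :=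
    MvPolynomial.algebraMvPolynomial
  have hf : ∀ b, (Csa25.linHom (n := n) (algebraMap Z A) 1) b =
      algebraMap (MvPolynomial (Fin (n + 1)) Z) (MvPolynomial (Fin (n + 1)) A) b := fun b => by
    refine RingHom.congr_fun (MvPolynomial.ringHom_ext (f := (Csa25.linHom (n := n) (algebraMap Z A) 1 :
      MvPolynomial (Fin (n + 1)) Z →+* MvPolynomial (Fin (n + 1)) A)) (fun r => ?_) (fun j => ?_)) b
    · exact (Csa25.linHom_C _ _ r).trans (MvPolynomial.map_C _ r).symm
    · exact ((Csa25.linHom_X _ _ j).trans (Csa25.linForm_one j)).trans (MvPolynomial.map_X _ j).symm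
  obtain ⟨t⟩ := EGA73.TwistBaseChange.nonempty_pullback_twist_iso (R := A) (R' := Z)
    (Csa25.linHom (n := n) (algebraMap Z A) 1) hf (Csa25.irrelevant_le_map_linHom _ isUnit_one) d
  exact ⟨(Scheme.Modules.pullback e.hom).mapIso t.symm ≪≫
    (Scheme.Modules.pullbackComp e.hom l).app _ ≪≫ (Scheme.Modules.pullbackCongr h1).app _⟩

/-- Serre vanishing: high powers of an ample invertible module kill higher cohomology. -/
theorem exists_vanishing_ample {A : Type u} [CommRing A] [IsNoetherianRing A] {X : Scheme.{u}}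
    (f : X ⟶ Spec (CommRingCat.of A)) [IsProper f] {L : X.Modules} (hL : CohB1.IsAmple L)
    (F : X.Modules) (hF : Coh.IsCoh F) :
    ∃ n₀ : ℕ, ∀ n, n₀ ≤ n → ∀ q : ℕ, 1 ≤ q →
      Subsingleton (Coh.HH X (CohB1.tensorMod F (CohB1.tensorPow L n)) q) := by
  haveI : IsLocallyNoetherian X := LocallyOfFiniteType.isLocallyNoetherian f
  classical
  obtain ⟨d₀, hd₀, hd⟩ := S9710.result f L hL
  obtain ⟨N, j, hj, hjf, ⟨t⟩⟩ := hd d₀ le_rfl
  obtain ⟨e, he, htw⟩ := exists_projSpaceOver_iso A N
  haveI := hj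
  haveI : IsProper (j ≫ CohB1.ProjSpaceOver.toBase N (Spec (CommRingCat.of A))) := by
    rw [show j ≫ CohB1.ProjSpaceOver.toBase N _ = f from hjf]
    infer_instance
  haveI := Approx60.Segre.isProper_toBase N (Spec (CommRingCat.of A))
  haveI : IsProper j := IsProper.of_comp j (CohB1.ProjSpaceOver.toBase N _)
  haveI : IsClosedImmersion j := EGA73.AmpleBaseImmersion.isClosedImmersion_of_isImmersion_of_isProper j
  let ι := j ≫ e.hom
  have hgen := Amp73.span_degree_one _ (fun f hf => by
    obtain ⟨i, -, rfl⟩ := Finset.mem_image.1 hf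
    exact MvPolynomial.isHomogeneous_X A i) (ValVan29.generated (R := A) (N := N))
  have hO1 : PicF.IsInvertible (Twist.twistProjSpace N A 1) := EGA73.isInvertible_twist hgen 1
  obtain ⟨w⟩ := htw 1
  let t' : (Scheme.Modules.pullback ι).obj (Twist.twistProjSpace N A 1) ≅ CohB1.tensorPow L d₀ :=
    ((Scheme.Modules.pullbackComp j e.hom).app _).symm ≪≫ (Scheme.Modules.pullback j).mapIso w ≪≫ t.symm
  have hLinv : ∀ k, PicF.IsInvertible (CohB1.tensorPow L k) := fun k => EGA73.isInvertible_tensorPow hL.1 k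
  have hcoh : ∀ s : Fin d₀, Coh.IsCoh (CohB1.tensorMod F (CohB1.tensorPow L s)) := fun s =>
    Amp73.isCoh_tensorMod hF (CD47.isCoh_of_isFinLocFree
      fun x => ((Mero90.isFinLocFreeOfRank_of_isInvertible (hLinv s)) x).imp fun U hU => ⟨1, hU⟩)
  choose n₁ hn₁ using fun s : Fin d₀ => exists_vanishing_twist ι _ (hcoh s)
  refine ⟨d₀ * (Finset.univ.sup fun s => (n₁ s).toNat) + d₀, fun n hn q hq => ?_⟩
  let s : Fin d₀ := ⟨n % d₀, Nat.mod_lt _ hd₀⟩
  let k := n / d₀
  have hk : (n₁ s).toNat ≤ k := by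
    refine (Finset.le_sup (f := fun s => (n₁ s).toNat) (Finset.mem_univ s)).trans ?_
    exact (Nat.le_div_iff_mul_le hd₀).2 (by rw [mul_comm]; omega)
  obtain ⟨i⟩ := EGA73.nonempty_twist_iso_tensorPow hgen k
  let P : (Scheme.Modules.pullback ι).obj (Twist.twistProjSpace N A (k : ℤ)) ≅ CohB1.tensorPow L (d₀ * k) :=
    (Scheme.Modules.pullback ι).mapIso i ≪≫ Amp73.pullPowIso ι hO1 k ≪≫ Amp73.powIso t' k ≪≫ Amp73.powMul L d₀ k
  let R : CohB1.tensorMod (CohB1.tensorMod F (CohB1.tensorPow L s))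
      ((Scheme.Modules.pullback ι).obj (Twist.twistProjSpace N A (k : ℤ))) ≅
      CohB1.tensorMod F (CohB1.tensorPow L n) :=
    EGA73.tensIso (Iso.refl _) P ≪≫ EGA73.tensAssoc' F _ _ ≪≫
      EGA73.tensIso (Iso.refl F) (Amp73.powAdd L s (d₀ * k) ≪≫ eqToIso (by
        rw [show (s : ℕ) + d₀ * k = n from Nat.mod_add_div n d₀]))
  exact ValVan29.subsingleton_hh_of_iso R q (hn₁ s k (by omega) q hq)

end Groth.Agent.RB70

end
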