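import Groth.Agent.RB70.AffBase
import Groth.Agent.Serre71.Finite
import Groth.Agent.QC70.FiniteType
import Groth.Agent.QCPull72.Sections

/-! Coherence of higher direct images along proper morphisms. -/

set_option autoImplicit false
set_option maxSynthPendingDepth 6
set_option synthInstance.maxHeartbeats 200000
set_option linter.style.haveILetI false
set_option backward.isDefEq.respectTransparency.types false

universe u

open CategoryTheory AlgebraicGeometry TopologicalSpace

namespace Groth.Agent.RB70

variable {X S : Scheme.{u}} (f : X ⟶ S) [IsProper f] [IsLocallyNoetherian S]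
  [HasInjectiveResolutions X.Modules] (M : X.Modules)

theorem finite_rpush_sections (hM : Coh.IsCoh M) {V : S.Opens} (hV : IsAffineOpen V) (p : ℕ) :
    Module.Finite Γ(S, V) Γ((Coh.Rpush f p).obj M, V) := by
  haveI : IsNoetherianRing Γ(S, V) := IsLocallyNoetherian.component_noetherian ⟨V, hV⟩
  haveI := hM.1
  let W := f ⁻¹ᵁ V
  letI ov : W.toScheme.Over (Spec (CommRingCat.of Γ(S, V))) := ⟨RB70.affBase f hV⟩
  haveI : IsProper (W.toScheme ↘ Spec (CommRingCat.of Γ(S, V))) :=
    inferInstanceAs (IsProper ((f ∣_ V) ≫ hV.isoSpec.hom))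
  haveI := Serre71.finite_hh_of_isProper Γ(S, V) (M.restrict W.ι) (haveI := hM.2; QC70.isCoh_of_iso
    ((Scheme.Modules.restrictFunctorIsoPullback W.ι).app M).symm
    ⟨QCPull72.isQuasicoherent_pullback W.ι M, QCPull72.isFiniteType_pullback W.ι M⟩) p
  obtain ⟨e, he⟩ := Mum71.exists_rpush_equiv f M hV p
  let e' : Γ((Coh.Rpush f p).obj M, V) ≃ₗ[Γ(S, V)] Coh.HH W.toScheme (M.restrict W.ι) p :=
    { e with
      map_smul' := fun a x => by
        refine (he a x).trans ?_
        exact congrArg (· • e x) (RB70.toGlobal_affBase f hV a).symm }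
  exact Module.Finite.equiv e'.symm

theorem isCoh_rpush (hM : Coh.IsCoh M) (p : ℕ) : Coh.IsCoh ((Coh.Rpush f p).obj M) := by
  haveI := hM.1
  haveI := Coh69.isQuasicoherent_rpush f M p
  choose V hV hxV _ using fun x : S =>
    exists_isAffineOpen_mem_and_subset (X := S) (x := x) (U := ⊤) trivial
  exact ⟨inferInstance, QC70.isFiniteType_of_finite_sections _ V
    (IsOpenCover.mk (top_le_iff.mp fun x _ => Opens.mem_iSup.mpr ⟨x, hxV x⟩)) hV
    fun x => finite_rpush_sections f M hM (hV x) p⟩

end Groth.Agent.RB70
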