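import Groth.Agent.QC70.HomMod
import Groth.Agent.SiteMod.PullTensorIso
import Groth.Prelude.Def_FSch6

/-! `g_* 𝓗om(g^*F, N) ≅ 𝓗om(F, g_* N)`. -/

set_option autoImplicit false
set_option backward.isDefEq.respectTransparency false
set_option maxHeartbeats 1000000

noncomputable section

universe u

open CategoryTheory Limits AlgebraicGeometry TopologicalSpace Opposite MonoidalCategory

namespace Groth.Agent.RB70

variable {X P : Scheme.{u}} (g : X ⟶ P)

/-- Inverse images commute with tensor products. -/
def pullTensR (N : P.Modules) :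
    Mod48.tR (O := P.sheaf) N ⋙ Scheme.Modules.pullback g ≅
      Scheme.Modules.pullback g ⋙ Mod48.tR (O := X.sheaf) ((Scheme.Modules.pullback g).obj N) :=
  let e := ModSite.RMor.ofSchemePull g
  let r : X.Modules ⥤ X.Modules := Mod48.tR (O := X.sheaf) ((ModSite.RMor.ofScheme g).pull.obj N)
  Functor.isoWhiskerLeft (Mod48.tR (O := P.sheaf) N) e.symm ≪≫
    SiteMod.pullTensIso (ModSite.RMor.ofScheme g) N ≪≫
    Functor.isoWhiskerRight e r ≪≫
    Functor.isoWhiskerLeft (Scheme.Modules.pullback g)
      ((ModSite.tensorBi X.sheaf).flip.mapIso (e.app N))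

/-- `g_* 𝓗om(g^*F, N) ≅ 𝓗om(F, g_* N)`, naturally in `N`. -/
def pushHom (F : P.Modules) :
    QC70.homFunctor ((Scheme.Modules.pullback g).obj F) ⋙ Scheme.Modules.pushforward g ≅
      Scheme.Modules.pushforward g ⋙ QC70.homFunctor F :=
  let a := (Scheme.Modules.pullbackPushforwardAdjunction g).comp
    (QC70.homModAdjR ((Scheme.Modules.pullback g).obj F))
  let b := (QC70.homModAdjR F).comp (Scheme.Modules.pullbackPushforwardAdjunction g)
  a.rightAdjointUniq (b.ofNatIsoLeft (pullTensR g F))

end Groth.Agent.RB70
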