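import Groth.Agent.ValVan29.PushTwist
import Groth.Agent.ValVan29.Vanish
import Groth.Agent.CD47.Resolution
import Groth.Agent.QC70.PushClosed
import Groth.Agent.S9514

/-! Serre vanishing on closed subschemes of projective space over a Noetherian ring. -/

set_option autoImplicit false
set_option linter.style.haveILetI false

universe u

open CategoryTheory CategoryTheory.Limits AlgebraicGeometry Opposite TopologicalSpace CategoryTheory.Abelian

noncomputable section

open scoped Classical

namespace Groth.Agent.RB70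

open ValVan29

variable {R : Type u} [CommRing R] [IsNoetherianRing R] {N : ℕ}

theorem exists_vanishing_proj : ∀ (j : ℕ) (G : (CohB1.ProjSpace N R).Modules), Coh.IsCoh G → ∀ q : ℕ, 1 ≤ q →
    N + 1 ≤ q + j → ∃ n₀ : ℕ, ∀ n, n₀ ≤ n →
      Subsingleton (Coh.HH _ (CohB1.tensorMod G (CohB1.tensorPow (O1 R N) n)) q) := by
  have hgen := Amp73.span_degree_one _ (fun f hf => by
    obtain ⟨i, -, rfl⟩ := Finset.mem_image.1 hf
    exact MvPolynomial.isHomogeneous_X R i) (generated (R := R) (N := N))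
  have hinv : ∀ n, PicF.IsInvertible (CohB1.tensorPow (O1 R N) n) := isInvertible_O1_pow
  haveI := Serre71.isProper_projSpace N R
  haveI : IsLocallyNoetherian (CohB1.ProjSpace N R) :=
    LocallyOfFiniteType.isLocallyNoetherian (CohB1.ProjSpace.toSpec N R)
  intro j
  induction j with
  | zero =>
    exact fun G hG q _ hq => ⟨0, fun n _ => subsingleton_hh_twist_above hG.1 n q hq⟩
  | succ j ih =>
    intro G hG q hq hqj
    obtain ⟨a, ha⟩ := Amp73.exists_epi_negative_twists (𝒜 := CohB1.polyGrading N R) _ (fun f hf => by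
      obtain ⟨i, -, rfl⟩ := Finset.mem_image.1 hf
      exact MvPolynomial.isHomogeneous_X R i) generated G hG
    obtain ⟨k, p, hp⟩ := ha a le_rfl
    let O : (CohB1.ProjSpace N R).Modules := Twist.twist (CohB1.polyGrading N R) (-(a : ℤ))
    let e : (⨁ fun _ : Fin k => O) ≅ (∐ fun _ : Fin k => O) := biproduct.isoCoproduct _
    let p' : (⨁ fun _ : Fin k => O) ⟶ G := e.hom ≫ p
    haveI : Epi p' := @epi_comp _ _ _ _ _ e.hom inferInstance p hp
    have hO : Coh.IsCoh O := CD47.isCoh_of_isFinLocFree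
      fun x => ((Mero90.isFinLocFreeOfRank_of_isInvertible (EGA73.isInvertible_twist hgen _)) x).imp
        fun U hU => ⟨1, hU⟩
    have hK : Coh.IsCoh (kernel p') :=
      (S9514.result _ (QC70.isCoh_biproduct (fun _ : Fin k => O) fun _ => hO) hG p').1
    obtain ⟨n₁, hn₁⟩ := ih (kernel p') hK (q + 1) (by omega) (by omega)
    refine ⟨max n₁ a, fun n hn => ?_⟩
    let S := ShortComplex.mk (kernel.ι p') p' (kernel.condition p')
    have hS : S.ShortExact :=
      { exact := ShortComplex.exact_of_f_is_kernel _ (kernelIsKernel p')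
        mono_f := (inferInstance : Mono (kernel.ι p'))
        epi_g := (inferInstance : Epi p') }
    have hfl := Mero90.isFinLocFreeOfRank_of_isInvertible (hinv n)
    obtain ⟨T, hT, h1, h2, h3⟩ := Crv77.shortExact_twist hfl hS
    rw [← h3]
    refine subsingleton_hh_X₃ hT q ?_ (h1 ▸ hn₁ n (le_of_max_le_left hn))
    rw [h2]
    refine QC70.biproduct_induction
      (fun M => Subsingleton (Coh.HH _ (CohB1.tensorMod M (CohB1.tensorPow (O1 R N) n)) q))
      (fun M h => subsingleton_hh_of_isZero (isZero_tensorMod h (hinv n)) q)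
      (fun S hS h₁ h₃ => ?_) _ fun _ => ?_
    · obtain ⟨T, hT, h1, h2, h3⟩ := Crv77.shortExact_twist hfl hS
      rw [← h2]
      exact subsingleton_hh_X₂ hT q (h1 ▸ h₁) (h3 ▸ h₃)
    · obtain ⟨i⟩ := EGA73.nonempty_twist_iso_tensorPow hgen n
      obtain ⟨t⟩ := EGA73.nonempty_twist_tensor_iso hgen (-(a : ℤ)) (n : ℤ)
      refine subsingleton_hh_of_iso (t.symm ≪≫ EGA73.tensIso (Iso.refl _) i) q ?_
      exact Pn71.subsingleton_hh N R (-(a : ℤ) + n) q (fun h => by omega) (fun h => by omega)

/-- Serre vanishing on projective space over a Noetherian ring. -/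
theorem exists_vanishing_proj_all (G : (CohB1.ProjSpace N R).Modules) (hG : Coh.IsCoh G) :
    ∃ n₀ : ℕ, ∀ n, n₀ ≤ n → ∀ q : ℕ, 1 ≤ q →
      Subsingleton (Coh.HH _ (CohB1.tensorMod G (CohB1.tensorPow (O1 R N) n)) q) := by
  choose n₀ hn₀ using fun q : Fin (N + 1) =>
    exists_vanishing_proj (N + 1) G hG (q + 1) (by omega) (by omega)
  refine ⟨Finset.univ.sup n₀, fun n hn q hq => ?_⟩
  by_cases h : q ≤ N + 1
  · obtain ⟨i, rfl⟩ : ∃ i, q = i + 1 := ⟨q - 1, by omega⟩
    exact hn₀ ⟨i, by omega⟩ n ((Finset.le_sup (Finset.mem_univ _)).trans hn)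
  · exact subsingleton_hh_twist_above hG.1 n q (by omega)

variable {X : Scheme.{u}} (ι : X ⟶ CohB1.ProjSpace N R) [IsClosedImmersion ι]

/-- Serre vanishing for the integral twists on a closed subscheme of projective space. -/
theorem exists_vanishing_twist (F : X.Modules) (hF : Coh.IsCoh F) :
    ∃ n₀ : ℤ, ∀ n : ℤ, n₀ ≤ n → ∀ q : ℕ, 1 ≤ q →
      Subsingleton (Coh.HH X (CohB1.tensorMod F
        ((Scheme.Modules.pullback ι).obj (Twist.twistProjSpace N R n))) q) := by
  have hgen := Amp73.span_degree_one _ (fun f hf => by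
    obtain ⟨i, -, rfl⟩ := Finset.mem_image.1 hf
    exact MvPolynomial.isHomogeneous_X R i) (generated (R := R) (N := N))
  haveI := Serre71.isProper_projSpace N R
  haveI : IsLocallyNoetherian (CohB1.ProjSpace N R) :=
    LocallyOfFiniteType.isLocallyNoetherian (CohB1.ProjSpace.toSpec N R)
  haveI : F.IsQuasicoherent := hF.1
  obtain ⟨n₀, hn₀⟩ := exists_vanishing_proj_all _ (QC70.isCoh_pushforward ι F hF)
  refine ⟨n₀, fun n hn q hq => ?_⟩
  lift n to ℕ using (Int.natCast_nonneg n₀).trans hn
  obtain ⟨i⟩ := EGA73.nonempty_twist_iso_tensorPow hgen n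
  have hL := EGA73.isInvertible_twist hgen (n : ℤ)
  let M := CohB1.tensorMod F ((Scheme.Modules.pullback ι).obj (Twist.twistProjSpace N R n))
  haveI : M.IsQuasicoherent := Amp73.isQCoh_tensorMod hF.1
    (Mero90.isQCoh_of_isInvertible (Amp73.isInvertible_pullback ι hL))
  obtain ⟨e⟩ := Coh69.nonempty_hh_push ι M q
  haveI : Subsingleton (Coh.HH _ ((Coh.push ι).obj M) q) := subsingleton_hh_of_iso
    (EGA73.tensIso (Iso.refl _) i.symm ≪≫ projIso ι F _ hL) q (hn₀ n (by omega) q hq)
  exact e.toEquiv.subsingleton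

end Groth.Agent.RB70

end
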