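import Groth.Agent.Mod48.SectOn
import Groth.Agent.QC70.ExtCoh
import Groth.Agent.QC70.HomCoh
import Groth.Agent.QC70.InjEnvelope
import Groth.Agent.QC70.Colim
import Groth.Agent.RD97.LES

/-! Quasi-coherence of the local Ext sheaves with supports. -/

set_option autoImplicit false
set_option synthInstance.maxHeartbeats 200000
set_option maxHeartbeats 1000000
set_option linter.style.haveILetI false
set_option backward.isDefEq.respectTransparency.types false

noncomputable section

universe u

open CategoryTheory Limits AlgebraicGeometry TopologicalSpace Opposite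
open Groth.Agent.QC70

namespace Groth.Agent.RB70

variable {X : Scheme.{u}} [IsLocallyNoetherian X] (U : X.Opens)

/-- Sections with supports, on modules over a scheme. -/
abbrev supp : X.Modules ⥤ X.Modules := ModSite.sectOn X.sheaf U

/-- The inclusion of the sections with supports. -/
abbrev suppι : supp U ⟶ 𝟭 X.Modules := ModSite.sectOnι X.sheaf U

omit [IsLocallyNoetherian X] in
theorem supp_image_iff (N : X.Modules) (W : X.Opens) (s : Γ(N, W)) :
    (∃ a, ((suppι U).app N).app W a = s) ↔
      ∀ V (h : V ≤ W), V ≤ U → res N h s = 0 := by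
  refine (Mod48.sectOn_image_iff X.sheaf U N W s).trans ⟨fun h V hVW hVU => ?_, fun h V g hV => ?_⟩
  · exact h (homOfLE hVW) ⟨homOfLE hVU⟩
  · exact h V (leOfHom g) (leOfHom hV.some)

omit [IsLocallyNoetherian X] in
theorem supp_app_injective (N : X.Modules) (W : X.Opens) :
    Function.Injective (((suppι U).app N).app W) :=
  Mod48.ev_injective ((ModSite.sectOnι X.sheaf U).app N) W

instance additive_supp : (supp U).Additive := ModSite.sectOn_additive X.sheaf U

instance preservesFiniteLimits_supp : PreservesFiniteLimits (supp U) :=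
  Mod48.sectOn_preservesFiniteLimits (O := X.sheaf) U

/-- Sections with supports of a quasi-coherent module form a quasi-coherent module. -/
theorem isQuasicoherent_supp (N : X.Modules) [N.IsQuasicoherent] :
    ((supp U).obj N).IsQuasicoherent := by
  classical
  let ι := (suppι U).app N
  refine isQuasicoherent_of_forall_isLocAt _ fun W hW => ?_
  haveI := IsLocallyNoetherian.component_noetherian (⟨W, hW⟩ : X.affineOpens)
  have hN := isLocAt_of_isQuasicoherent N hW
  refine ⟨fun f s => ?_, fun f t ht => ?_⟩
  · obtain ⟨n, t, ht⟩ := hN.exists_of f (ι.app _ s)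
    have hsupp := (supp_image_iff U N _ (ι.app _ s)).1 ⟨s, rfl⟩
    -- finitely many basic opens cover the part of `W` inside `U`
    let gs : Set Γ(X, W) := {g | X.basicOpen g ≤ U}
    obtain ⟨S, hSgs, hS⟩ : ∃ S : Set Γ(X, W), S ⊆ gs ∧ S.Finite ∧ Ideal.span gs = Ideal.span S := by
      obtain ⟨S, hS, hS'⟩ := Submodule.fg_span_iff_fg_span_finset_subset gs |>.1
        (IsNoetherian.noetherian (Ideal.span gs))
      exact ⟨S, hS, S.finite_toSet, hS'⟩
    have hvan : ∀ g ∈ S, ∃ m : ℕ, res N (X.basicOpen_le g) (f ^ m • t) = 0 := by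
      intro g hg
      have hgW := X.basicOpen_le g
      obtain ⟨m, hm⟩ := (isLocAt_of_isQuasicoherent N (hW.basicOpen g)).eq_zero_of (resO X hgW f)
        (res N hgW t) (by
          have hle : X.basicOpen (resO X hgW f) ≤ X.basicOpen f := by
            rw [resO, Scheme.basicOpen_res]; exact inf_le_right
          rw [res_res, ← res_res (X.basicOpen_le f) hle, ht, res_smul,
            hsupp _ hle ((X.basicOpen_le _).trans (hSgs hg)), smul_zero])
      exact ⟨m, by rw [res_smul, resO_pow]; exact hm⟩
    choose! m hm using hvan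
    let M := hS.1.toFinset.sup m
    have key : ∀ V (h : V ≤ W), V ≤ U → res N h (f ^ M • t) = 0 := fun V h hVU => by
      refine section_ext N _ _ fun p hp => ?_
      obtain ⟨g, hgU, hpg⟩ := hW.exists_basicOpen_le (⟨p, hVU hp⟩ : U) (h hp)
      have hpS : ∃ g' ∈ S, p ∈ X.basicOpen g' := by
        by_contra! hcon
        have hle : Ideal.span S ≤ (hW.primeIdealOf ⟨p, h hp⟩).asIdeal := Ideal.span_le.2 fun g' hg' => by
          by_contra hmem
          refine hcon g' hg' ?_
          have : hW.primeIdealOf ⟨p, h hp⟩ ∈ hW.fromSpec ⁻¹ᵁ X.basicOpen g' := by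
            rw [hW.fromSpec_preimage_basicOpen]
            exact hmem
          rw [SetLike.mem_coe] at *
          have e : hW.fromSpec (hW.primeIdealOf ⟨p, h hp⟩) = p := hW.fromSpec_primeIdealOf ⟨p, h hp⟩
          have h' : hW.fromSpec (hW.primeIdealOf ⟨p, h hp⟩) ∈ X.basicOpen g' := this
          rwa [e] at h'
        have hg : g ∈ (hW.primeIdealOf ⟨p, h hp⟩).asIdeal :=
          hle (hS.2 ▸ Ideal.subset_span (show g ∈ gs from hgU))
        have : hW.primeIdealOf ⟨p, h hp⟩ ∈ hW.fromSpec ⁻¹ᵁ X.basicOpen g := by
          show hW.fromSpec (hW.primeIdealOf ⟨p, h hp⟩) ∈ X.basicOpen g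
          rw [hW.fromSpec_primeIdealOf]
          exact hpg
        rw [hW.fromSpec_preimage_basicOpen] at this
        exact this hg
      obtain ⟨g', hg', hpg'⟩ := hpS
      refine ⟨V ⊓ X.basicOpen g', inf_le_left, ⟨hp, hpg'⟩, ?_⟩
      rw [res_zero, res_res, ← res_res (X.basicOpen_le g') inf_le_right]
      obtain ⟨d, hd⟩ := Nat.exists_eq_add_of_le
        (Finset.le_sup (f := m) (hS.1.mem_toFinset.2 hg'))
      rw [show f ^ M • t = f ^ d • (f ^ m g' • t) by rw [smul_smul, ← pow_add, add_comm, ← hd],
        res_smul _ (f ^ d), hm g' hg', smul_zero, res_zero]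
    obtain ⟨a, ha⟩ := (supp_image_iff U N W (f ^ M • t)).2 key
    refine ⟨M + n, a, supp_app_injective U N _ ?_⟩
    show ι.app _ (res _ _ a) = ι.app _ _
    refine (app_res ι _ a).trans ?_
    rw [Scheme.Modules.Hom.app_smul, pow_add, mul_smul]
    refine (congrArg _ ha).trans ((res_pow_smul (M := N) _ f M t).trans ?_)
    exact congrArg (resO X (X.basicOpen_le f) f ^ M • ·) ht
  · have : res N (X.basicOpen_le f) (ι.app W t) = 0 := by
      rw [← app_res, ht, map_zero]
    obtain ⟨n, hn⟩ := hN.eq_zero_of f _ this
    refine ⟨n, supp_app_injective U N W ?_⟩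
    rw [map_zero, Scheme.Modules.Hom.app_smul]
    exact hn

/-- Internal Hom out of a coherent module preserves quasi-coherence. -/
theorem isQuasicoherent_homMod {F N : X.Modules} (hF : Coh.IsCoh F) [N.IsQuasicoherent] :
    (homMod F N).IsQuasicoherent := by
  haveI := hF.1
  haveI := hF.2
  refine isQuasicoherent_of_forall_isLocAt _ fun W hW => ?_
  haveI := IsLocallyNoetherian.component_noetherian (⟨W, hW⟩ : X.affineOpens)
  haveI := finite_sections_of_isFiniteType F hW
  haveI : Module.FinitePresentation Γ(X, W) Γ(F, W) := Module.finitePresentation_of_finite _ _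
  exact isLocAt_homMod (isLocAt_of_isQuasicoherent N hW) hW

attribute [local instance] additive_homFunctor

/-- The local Ext sheaves with supports of a coherent and a quasi-coherent module are quasi-coherent. -/
theorem isQuasicoherent_rightDerived_supp_hom {F : X.Modules} (hF : Coh.IsCoh F)
    [HasInjectiveResolutions X.Modules] (i : ℕ) :
    ∀ (G : X.Modules), G.IsQuasicoherent →
      (((homFunctor F ⋙ supp U).rightDerived i).obj G).IsQuasicoherent := by
  haveI := preservesFiniteLimits_homFunctor F
  let D := homFunctor F ⋙ supp U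
  haveI : PreservesFiniteLimits D := comp_preservesFiniteLimits _ _
  have h0 : ∀ G : X.Modules, G.IsQuasicoherent → ((D.rightDerived 0).obj G).IsQuasicoherent :=
    fun G hG => by
      haveI := isQuasicoherent_homMod (N := G) hF
      exact isQuasicoherent_of_iso (D.rightDerivedZeroIsoSelf.app G).symm
        (isQuasicoherent_supp U (homMod F G))
  induction i with
  | zero => exact h0
  | succ n ih =>
    intro G hG
    haveI := hG
    obtain ⟨H, e, he, hH, hHinj⟩ := exists_qcoh_injective_hull G
    haveI := he
    haveI := hHinj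
    let S : ShortComplex X.Modules := ShortComplex.mk e (cokernel.π e) (cokernel.condition e)
    have hS : S.ShortExact :=
      { exact := ShortComplex.exact_of_g_is_cokernel _ (cokernelIsCokernel e) }
    obtain ⟨Δ⟩ := RD97.nonempty_derivedLES D
    haveI : S.X₂.IsQuasicoherent := hH
    haveI : S.X₃.IsQuasicoherent := isQuasicoherent_cokernel e
    haveI h2 := ih S.X₂ hH
    haveI h3 := ih S.X₃ inferInstance
    have hex := Δ.exact₃ S hS n (n + 1) rfl
    haveI : Epi (Δ.δ S hS n (n + 1) rfl) := (Δ.exact₁ S hS n (n + 1) rfl).epi_f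
      ((D.isZero_rightDerived_obj_injective_succ n S.X₂).eq_of_tgt _ _)
    haveI := isQuasicoherent_cokernel ((D.rightDerived n).map S.g)
    exact isQuasicoherent_of_iso
      ((cokernelIsCokernel _).coconePointUniqueUpToIso hex.gIsCokernel) ‹_›

end Groth.Agent.RB70
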