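import Groth.Agent.RB70.AmpleVanish
import Groth.Agent.Mum71.RpushLin
import Groth.Agent.Mum71.SchemeModel
import Groth.Agent.Amp73.CounitIff
import Groth.Agent.Coh69.RpushQCoh
import Groth.Agent.GSS45.SchemeSS

/-! Relative Serre vanishing: high twists by a relatively ample module have no higher direct images. -/

set_option autoImplicit false
set_option backward.isDefEq.respectTransparency.types false
set_option linter.style.haveILetI false
set_option maxHeartbeats 1000000
set_option synthInstance.maxHeartbeats 200000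

universe u

open CategoryTheory CategoryTheory.Limits AlgebraicGeometry Opposite TopologicalSpace

noncomputable section

namespace Groth.Agent.RB70

open QC70

theorem isZero_of_subsingleton_cover {X : Scheme.{u}} {ι : Type*} (U : ι → X.affineOpens)
    (hU : ∀ p : X, ∃ i, p ∈ (U i).1) (N : X.Modules) [N.IsQuasicoherent]
    (h : ∀ i, Subsingleton Γ(N, (U i).1)) : IsZero N := by
  refine isZero_of_support_eq_empty (Set.eq_empty_iff_forall_notMem.mpr fun p hp => hp ?_)
  obtain ⟨i, hi⟩ := hU p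
  haveI := h i
  refine subsingleton_of_forall_eq 0 fun e => ?_
  obtain ⟨f, t, hf, hft⟩ := stalk_exists_smul (isLocAt_of_isQuasicoherent N (U i).2) (U i).2 hi e
  rw [← (isUnit_germ hf).smul_eq_zero, hft, Subsingleton.elim t 0, germM_zero]

/-- Serre vanishing for a proper morphism to a Noetherian scheme. -/
theorem exists_isZero_rpush {X Y : Scheme.{u}} (f : X ⟶ Y) [AlgebraicGeometry.IsNoetherian Y] [IsProper f]
    [HasInjectiveResolutions X.Modules] {L : X.Modules} (hamp : RelAmple.IsRelAmple f L) {F : X.Modules}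
    (hF : Coh.IsCoh F) :
    ∃ N : ℕ, ∀ n, N ≤ n → ∀ p : ℕ, 1 ≤ p →
      IsZero ((Coh.Rpush f p).obj (CohB1.tensorMod F (CohB1.tensorPow L n))) := by
  classical
  have hLinv := Amp73.isInvertible_of_isRelAmple hamp
  have key : ∀ V : Y.affineOpens, ∃ N : ℕ, ∀ n, N ≤ n → ∀ p : ℕ, 1 ≤ p → Subsingleton
      (Coh.HH (f ⁻¹ᵁ V.1).toScheme ((CohB1.tensorMod F (CohB1.tensorPow L n)).restrict (f ⁻¹ᵁ V.1).ι) p) := by
    intro V
    haveI : IsNoetherianRing Γ(Y, V.1) := IsLocallyNoetherian.component_noetherian V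
    haveI : IsProper (Mum71.affBase f V.2) :=
      MorphismProperty.of_isPullback (Mum71.isPullback_affBase f V.2) (inferInstance : IsProper f)
    obtain ⟨N, hN⟩ := exists_vanishing_ample (Mum71.affBase f V.2) (hamp.2 V) _
      (Amp73.isCoh_restrict hF (f ⁻¹ᵁ V.1))
    exact ⟨N, fun n hn p hp => ValVan29.subsingleton_hh_of_iso
      (EGA73.tensIso (Iso.refl _) (Amp73.powRestrict (f ⁻¹ᵁ V.1).ι L n) ≪≫
        EGA73.tensorRestrictIso (f ⁻¹ᵁ V.1).ι F (CohB1.tensorPow L n)) p (hN n hn p hp)⟩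
  choose N hN using key
  let C := Y.affineCover.finiteSubcover
  let V : C.I₀ → Y.affineOpens := fun j => ⟨_, isAffineOpen_opensRange (C.f j)⟩
  refine ⟨Finset.univ.sup fun j => N (V j), fun n hn p hp => ?_⟩
  haveI : (CohB1.tensorMod F (CohB1.tensorPow L n)).IsQuasicoherent :=
    (Amp73.isCoh_tensorMod hF (Amp73.isCoh_of_isInvertible (EGA73.isInvertible_tensorPow hLinv n))).1
  haveI := Coh69.isQuasicoherent_rpush f (CohB1.tensorMod F (CohB1.tensorPow L n)) p
  refine isZero_of_subsingleton_cover V (fun y => ?_) _ fun j => ?_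
  · obtain ⟨j, z, hz⟩ := C.exists_eq y
    exact ⟨j, ⟨z, hz⟩⟩
  · obtain ⟨e, -⟩ := Mum71.exists_rpush_equiv f (CohB1.tensorMod F (CohB1.tensorPow L n)) (V j).2 p
    haveI := hN (V j) n ((Finset.le_sup (f := fun j => N (V j)) (Finset.mem_univ j)).trans hn) p hp
    exact e.toEquiv.subsingleton

/-- The same for higher direct images of abelian sheaves. -/
theorem exists_isZero_rpushAb {X Y : Scheme.{u}} (f : X ⟶ Y) [AlgebraicGeometry.IsNoetherian Y] [IsProper f]
    [HasInjectiveResolutions X.Modules] {L : X.Modules} (hamp : RelAmple.IsRelAmple f L) {F : X.Modules}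
    (hF : Coh.IsCoh F) :
    ∃ N : ℕ, ∀ n, N ≤ n → ∀ p : ℕ, 1 ≤ p →
      IsZero ((Coh.RpushAb f p).obj (Coh.toAb (CohB1.tensorMod F (CohB1.tensorPow L n)))) := by
  obtain ⟨N, hN⟩ := exists_isZero_rpush f hamp hF
  refine ⟨N, fun n hn p hp => ?_⟩
  obtain ⟨e⟩ := GSS45.nonempty_toAb_Rpush f (CohB1.tensorMod F (CohB1.tensorPow L n)) p
  exact ((SheafOfModules.toSheaf Y.ringCatSheaf).map_isZero (hN n hn p hp)).of_iso e.symm

end Groth.Agent.RB70

end
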