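import Groth.Agent.Mum71.RpushLin

/-! The preimage of an affine open as a scheme over its coordinate ring. -/

set_option autoImplicit false
set_option maxSynthPendingDepth 6
set_option synthInstance.maxHeartbeats 200000
set_option linter.style.haveILetI false
set_option backward.isDefEq.respectTransparency.types false

universe u

noncomputable section

open CategoryTheory CategoryTheory.Limits AlgebraicGeometry TopologicalSpace Opposite

namespace Groth.Agent.RB70

variable {X Y : Scheme.{u}} (f : X ⟶ Y) {V : Y.Opens} (hV : IsAffineOpen V)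

/-- The preimage of an affine open over its coordinate ring. -/
abbrev affBase : (f ⁻¹ᵁ V).toScheme ⟶ Spec Γ(Y, V) := (f ∣_ V) ≫ hV.isoSpec.hom

theorem isPullback_affBase : IsPullback (f ⁻¹ᵁ V).ι (affBase f hV) f hV.fromSpec := by
  refine (isPullback_morphismRestrict f V).flip.of_iso (Iso.refl _) (Iso.refl _) hV.isoSpec (Iso.refl _) ?_ ?_ ?_ ?_
  · simp
  · simp
  · simp
  · simp

theorem toGlobal_affBase (a : Γ(Y, V)) :
    Coh.toGlobal (X := (f ⁻¹ᵁ V).toScheme) (A := Γ(Y, V)) (affBase f hV) a =
      Coh69.gRes (f ⁻¹ᵁ V) (f.app V a) := by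
  have h : (Scheme.ΓSpecIso Γ(Y, V)).inv ≫ (affBase f hV).appTop =
      f.app V ≫ X.presheaf.map (homOfLE (f ⁻¹ᵁ V).ι_image_top.le).op := by
    rw [Scheme.Hom.comp_appTop, hV.isoSpec_hom_appTop, Category.assoc, Iso.inv_hom_id_assoc]
    rw [Scheme.Hom.appTop, morphismRestrict_app', Scheme.Opens.topIso_inv, Scheme.Hom.app_eq_appLE,
      Scheme.Hom.appLE_map]
    exact Scheme.Hom.map_appLE (f := f) _ _
  exact congr($h a)

end Groth.Agent.RB70
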