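import Groth.Agent.RB70.HHLocalize
import Groth.Agent.RB70.AffBase
import Groth.Agent.QC70.StalkLoc
import Groth.Agent.Coh69.RpushQCoh

/-! Stalks of higher direct images as cohomology over the local ring of the base. -/

set_option autoImplicit false
set_option maxSynthPendingDepth 6
set_option synthInstance.maxHeartbeats 200000
set_option maxHeartbeats 800000
set_option linter.style.haveILetI false
set_option backward.isDefEq.respectTransparency.types false

universe u

noncomputable section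

open CategoryTheory CategoryTheory.Limits AlgebraicGeometry TopologicalSpace Opposite

namespace Groth.Agent.RB70

open Coh69 QC70

theorem exists_affine_cover (X : Scheme.{u}) [CompactSpace X] [X.IsSeparated] :
    ∃ (ι : Type u) (_ : Finite ι) (U : ι → X.Opens), (⨆ i, U i = ⊤) ∧
      ∀ (n : ℕ) (i : Fin (n + 1) → ι), IsAffineOpen (cOpen (X := X.toTopCat) U i) := by
  obtain ⟨T, hT⟩ := isCompact_univ.elim_finite_subcover
    (fun U : X.affineOpens => (U.1 : Set X)) (fun U => U.1.isOpen) (fun x _ => by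
      obtain ⟨_, ⟨V, hV, rfl⟩, hxV, -⟩ :=
        X.isBasis_affineOpens.exists_subset_of_mem_open (Set.mem_univ x) isOpen_univ
      exact Set.mem_iUnion.2 ⟨⟨V, hV⟩, hxV⟩)
  refine ⟨T, inferInstance, fun U => U.1.1, top_le_iff.mp fun x _ => ?_, fun n => ?_⟩
  · obtain ⟨U, hU, hxU⟩ := Set.mem_iUnion₂.1 (hT (Set.mem_univ x))
    exact Opens.mem_iSup.mpr ⟨⟨U, hU⟩, hxU⟩
  induction n with
  | zero =>
    intro i
    rw [show cOpen (X := X.toTopCat) (fun U : T => U.1.1) i = (i 0).1.1 from le_antisymm (cOpen_le _ i 0)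
      (le_cOpen _ fun j => by rw [Fin.fin_one_eq_zero j])]
    exact (i 0).1.2
  | succ n ih =>
    intro i
    rw [← Fin.cons_self_tail i, cOpen_cons]
    exact IsAffineOpen.inf (i 0).1.2 (ih _)

variable {X Y : Scheme.{u}} (f : X ⟶ Y) [QuasiCompact f] [IsSeparated f] [HasInjectiveResolutions X.Modules]

/-- The stalk of a higher direct image is the cohomology over the local ring of the base. -/
theorem nonempty_stalk_rpush_equiv (F : X.Modules) [F.IsQuasicoherent] (y : Y) (p : ℕ)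
    (X₁ : Scheme.{u}) [X₁.Over (Spec (CommRingCat.of (Y.presheaf.stalk y)))] (g : X₁ ⟶ X)
    (hsq : IsPullback g (X₁ ↘ Spec (CommRingCat.of (Y.presheaf.stalk y))) f (Y.fromSpecStalk y)) :
    Nonempty (((Coh.Rpush f p).obj F).presheaf.stalk y ≃ₗ[Y.presheaf.stalk y]
      Coh.HH X₁ ((Scheme.Modules.pullback g).obj F) p) := by
  obtain ⟨V, hV, hy, -⟩ := exists_isAffineOpen_mem_and_subset (X := Y) (x := y) (U := ⊤) trivial
  let W := f ⁻¹ᵁ V
  letI ov : W.toScheme.Over (Spec (CommRingCat.of Γ(Y, V))) := ⟨RB70.affBase f hV⟩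
  haveI : IsSeparated (W.toScheme ↘ Spec (CommRingCat.of Γ(Y, V))) :=
    inferInstanceAs (IsSeparated ((f ∣_ V) ≫ hV.isoSpec.hom))
  haveI : W.toScheme.IsSeparated :=
    ⟨(terminal.comp_from (W.toScheme ↘ Spec (CommRingCat.of Γ(Y, V)))) ▸ inferInstance⟩
  haveI : CompactSpace W.toScheme := isCompact_iff_compactSpace.1 (f.isCompact_preimage hV.isCompact)
  obtain ⟨ι, hι, U, hU, hU'⟩ := exists_affine_cover W.toScheme
  letI : Algebra Γ(Y, V) (Y.presheaf.stalk y) := (Y.presheaf.germ V y hy).hom.toAlgebra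
  let S := (hV.primeIdealOf ⟨y, hy⟩).asIdeal.primeCompl
  haveI : IsLocalization S (Y.presheaf.stalk y) := hV.isLocalization_stalk ⟨y, hy⟩
  have hη : Spec.map (Y.presheaf.germ V y hy) ≫ hV.fromSpec = Y.fromSpecStalk y := by
    rw [← hV.fromSpecStalk_eq_fromSpecStalk hy, IsAffineOpen.fromSpecStalk]
  have outer : IsPullback g (X₁ ↘ Spec (CommRingCat.of (Y.presheaf.stalk y))) f
      (Spec.map (Y.presheaf.germ V y hy) ≫ hV.fromSpec) := hη.symm ▸ hsq
  let g₁ := (RB70.isPullback_affBase f hV).lift g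
    ((X₁ ↘ Spec (CommRingCat.of (Y.presheaf.stalk y))) ≫ Spec.map (Y.presheaf.germ V y hy))
    (by rw [outer.w, Category.assoc])
  have hsq₁ : IsPullback g₁ (X₁ ↘ Spec (CommRingCat.of (Y.presheaf.stalk y)))
      (W.toScheme ↘ Spec (CommRingCat.of Γ(Y, V)))
      (Spec.map (CommRingCat.ofHom (algebraMap Γ(Y, V) (Y.presheaf.stalk y)))) :=
    outer.of_right' (RB70.isPullback_affBase f hV)
  obtain ⟨f₁, hf₁⟩ := exists_hh_localization (F := F.restrict W.ι) hsq₁ hU hU' S p
  obtain ⟨e₄, he₄⟩ := Mum71.exists_hh_iso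
    ((Scheme.Modules.pullback g₁).mapIso ((Scheme.Modules.restrictFunctorIsoPullback W.ι).app F) ≪≫
      (Scheme.Modules.pullbackComp g₁ W.ι).app F ≪≫
      (Scheme.Modules.pullbackCongr ((RB70.isPullback_affBase f hV).lift_fst _ _ _)).app F) p
  obtain ⟨e, he⟩ := Mum71.exists_rpush_equiv f F hV p
  haveI := isQuasicoherent_rpush f F p
  let R := (Coh.Rpush f p).obj F
  letI : Module Γ(Y, V) (R.presheaf.stalk y) := stalkModule R hy
  haveI : IsScalarTower Γ(Y, V) (Y.presheaf.stalk y) (R.presheaf.stalk y) :=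
    IsScalarTower.of_algebraMap_smul fun _ _ => rfl
  letI : Module Γ(Y, V) (Coh.HH X₁ ((Scheme.Modules.pullback g₁).obj (F.restrict W.ι)) p) :=
    Module.compHom _ (algebraMap Γ(Y, V) (Y.presheaf.stalk y))
  letI : Module Γ(Y, V) (Coh.HH X₁ ((Scheme.Modules.pullback g).obj F) p) :=
    Module.compHom _ (algebraMap Γ(Y, V) (Y.presheaf.stalk y))
  haveI : IsScalarTower Γ(Y, V) (Y.presheaf.stalk y) (Coh.HH X₁ ((Scheme.Modules.pullback g).obj F) p) :=
    IsScalarTower.of_algebraMap_smul fun _ _ => rfl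
  let e' : Γ(R, V) ≃ₗ[Γ(Y, V)] Coh.HH W.toScheme (F.restrict W.ι) p :=
    { e with
      map_smul' := fun a x => by
        refine (he a x).trans ?_
        exact congrArg (· • e x) (RB70.toGlobal_affBase f hV a).symm }
  let e₄' : Coh.HH X₁ ((Scheme.Modules.pullback g₁).obj (F.restrict W.ι)) p ≃ₗ[Γ(Y, V)]
      Coh.HH X₁ ((Scheme.Modules.pullback g).obj F) p :=
    { e₄ with map_smul' := fun a x => he₄ _ x }
  haveI := hf₁
  haveI := isLocalizedModule_germ (isLocAt_of_isQuasicoherent R hV) hV hy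
  haveI := IsLocalizedModule.of_linearEquiv_right S f₁ e'
  haveI := IsLocalizedModule.of_linearEquiv S (f₁ ∘ₗ e'.toLinearMap) e₄'
  let ψ := IsLocalizedModule.linearEquiv S (germLinear R hy) (e₄'.toLinearMap ∘ₗ (f₁ ∘ₗ e'.toLinearMap))
  exact ⟨ψ.extendScalarsOfIsLocalization S (Y.presheaf.stalk y)⟩

end Groth.Agent.RB70
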