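import Groth.Agent.RB70.GrSys
import Groth.Agent.GSS45.ClosedRight
import Groth.Agent.GGDesc24.Basic
import Groth.Agent.ValVan29.PushTwist
import Groth.Agent.Hilb90F24.Basic
import Groth.Agent.Coh69.AffinePush

/-! Global generation along extensions, closed immersions and graded systems. -/

set_option autoImplicit false
set_option backward.isDefEq.respectTransparency.types false
set_option linter.style.haveILetI false
set_option maxHeartbeats 1000000
set_option synthInstance.maxHeartbeats 200000

universe u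

open CategoryTheory CategoryTheory.Limits AlgebraicGeometry Opposite TopologicalSpace

noncomputable section

namespace Groth.Agent.RB70

open QC70

variable {X : Scheme.{u}}

theorem gg_of_iso {F G : X.Modules} (e : F ≅ G) (h : Curv2.IsGloballyGenerated F) :
    Curv2.IsGloballyGenerated G := by
  obtain ⟨ι, p, hp⟩ := h
  haveI := hp
  exact ⟨ι, p ≫ e.hom, epi_comp _ _⟩

theorem gg_push {Y : Scheme.{u}} (j : Y ⟶ X) [IsClosedImmersion j] {G : Y.Modules}
    (h : Curv2.IsGloballyGenerated G) :
    Curv2.IsGloballyGenerated ((Scheme.Modules.pushforward j).obj G) := by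
  rw [GGDesc24.isGloballyGenerated_iff] at h ⊢
  intro T q hq
  have hev : ∀ s, (GSS45.ClosedRight.ev j T).app ⊤ s = 0 → s = 0 := by
    haveI : Mono (GSS45.ClosedRight.ev j T) := by
      unfold GSS45.ClosedRight.ev
      infer_instance
    intro s hs
    exact app_injective_of_mono (GSS45.ClosedRight.ev j T) ⊤ (hs.trans (map_zero _).symm)
  have e := (GSS45.ClosedRight.rightEquiv j G T).symm_apply_apply q
  rw [← e]
  show (Scheme.Modules.pushforward j).map (GSS45.ClosedRight.rightEquiv j G T q) ≫ _ = 0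
  rw [h _ (GSS45.ClosedRight.rightEquiv j G T q) (fun t => ?_), Functor.map_zero, zero_comp]
  refine hev _ ?_
  exact (congr(Scheme.Modules.Hom.app $e ⊤ t)).trans (hq t)

/-- An extension whose quotient sections lift is generated when both ends are. -/
theorem gg_extension {S : ShortComplex X.Modules} (hS : S.ShortExact) (hH : Subsingleton (Coh.HH X S.X₁ 1))
    (h₁ : Curv2.IsGloballyGenerated S.X₁) (h₃ : Curv2.IsGloballyGenerated S.X₃) :
    Curv2.IsGloballyGenerated S.X₂ := by
  rw [GGDesc24.isGloballyGenerated_iff] at h₁ h₃ ⊢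
  intro T q hq
  haveI := hS.epi_g
  have h0 : S.f ≫ q = 0 := h₁ _ _ fun t => hq (S.f.app ⊤ t)
  have hsur : Function.Surjective (S.g.app ⊤) := by
    haveI : Subsingleton (Sheaf.H (Crv77.abComplex S).X₁ 1) := hH
    exact Hilb90F24.surjective_of_H1 (Crv77.abComplex_shortExact hS) isTerminalTop
  rw [← hS.exact.g_desc q h0, h₃ _ (hS.exact.desc q h0) fun t => ?_, comp_zero]
  obtain ⟨s, rfl⟩ := hsur t
  exact (congr(Scheme.Modules.Hom.app $(hS.exact.g_desc q h0) ⊤ s)).trans (hq s)

/-- Maps which jointly generate on every affine open detect morphisms. -/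
theorem hom_ext_of_genAt {r : ℕ} {M N P : X.Modules} {T : Fin r → (M ⟶ N)}
    (hT : GenAt (fun U : X.affineOpens => U) T) {a b : N ⟶ P} (h : ∀ j, T j ≫ a = T j ≫ b) : a = b := by
  refine Scheme.Modules.hom_ext _ _ fun W => ?_
  ext s
  refine section_ext P _ _ fun p hp => ?_
  obtain ⟨_, ⟨U, hU, rfl⟩, hpU, hUW⟩ := X.isBasis_affineOpens.exists_subset_of_mem_open hp W.2
  refine ⟨U, hUW, hpU, ?_⟩
  rw [← app_res a hUW, ← app_res b hUW]
  have hy : res N hUW s ∈ ⨆ j, LinearMap.range (E4O.Sep.appL (T j) U) := by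
    rw [hT ⟨U, hU⟩]; trivial
  generalize res N hUW s = y at hy ⊢
  induction hy using Submodule.iSup_induction' with
  | mem j y hy =>
    obtain ⟨z, rfl⟩ := hy
    exact congr(Scheme.Modules.Hom.app $(h j) U z)
  | zero => rw [map_zero, map_zero]
  | add y z _ _ iy iz => rw [map_add, map_add, iy, iz]

/-- A jointly surjective family of maps propagates generation of twists. -/
theorem gg_tensor_of_genAt {r : ℕ} {M N : X.Modules} {T : Fin r → (M ⟶ N)}
    (hT : GenAt (fun U : X.affineOpens => U) T) (L : X.Modules)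
    (h : Curv2.IsGloballyGenerated (CohB1.tensorMod M L)) :
    Curv2.IsGloballyGenerated (CohB1.tensorMod N L) := by
  rw [GGDesc24.isGloballyGenerated_iff] at h ⊢
  intro P q hq
  let adj := homModAdjR (X := X) L
  let t : Fin r → (CohB1.tensorMod M L ⟶ CohB1.tensorMod N L) := fun j =>
    ((ModSite.tensorBi X.sheaf).flip.obj L).map (T j)
  have h0 : ∀ j, t j ≫ q = t j ≫ 0 := fun j => by
    rw [comp_zero]
    exact h _ _ fun s => hq ((t j).app ⊤ s)
  refine (adj.homEquiv N P).injective (hom_ext_of_genAt hT fun j => ?_)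
  exact ((adj.homEquiv_naturality_left (T j) q).symm.trans (congrArg (adj.homEquiv M P) (h0 j))).trans
    (adj.homEquiv_naturality_left (T j) 0)

/-- Twisting a direct image by powers, on the subscheme. -/
theorem nonempty_push_twist {Y : Scheme.{u}} (j : Y ⟶ X) [IsAffineHom j] (G : Y.Modules) {L : X.Modules}
    (hL : PicF.IsInvertible L) {L' : Y.Modules} (e : (Scheme.Modules.pullback j).obj L ≅ L') (n : ℕ) :
    Nonempty ((Scheme.Modules.pushforward j).obj (CohB1.tensorMod G (CohB1.tensorPow L' n)) ≅
      CohB1.tensorMod ((Scheme.Modules.pushforward j).obj G) (CohB1.tensorPow L n)) :=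
  ⟨((ValVan29.projIso j G (CohB1.tensorPow L n) (EGA73.isInvertible_tensorPow hL n)) ≪≫
    (Scheme.Modules.pushforward j).mapIso
      (EGA73.tensIso (Iso.refl G) (Amp73.pullPowIso j hL n ≪≫ Amp73.powIso e n))).symm⟩

theorem subsingleton_hh_push {Y : Scheme.{u}} (j : Y ⟶ X) [IsAffineHom j] (M : Y.Modules) [M.IsQuasicoherent]
    (q : ℕ) (h : Subsingleton (Coh.HH Y M q)) :
    Subsingleton (Coh.HH X ((Scheme.Modules.pushforward j).obj M) q) := by
  obtain ⟨e⟩ := Coh69.nonempty_hh_push j M q
  exact e.toEquiv.symm.subsingleton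

end Groth.Agent.RB70

end
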