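import Groth.Agent.RB70.ThickSys
import Groth.Agent.RB70.ThickGen

/-! Uniform vanishing and generation of high twists on all levels of an adic system. -/

set_option autoImplicit false
set_option backward.isDefEq.respectTransparency.types false
set_option linter.style.haveILetI false
set_option maxHeartbeats 1000000
set_option synthInstance.maxHeartbeats 200000

universe u

open CategoryTheory CategoryTheory.Limits AlgebraicGeometry Opposite TopologicalSpace

noncomputable section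

namespace Groth.Agent.RB70.Thick

open QC70

theorem exists_uniform (A : Type u) [CommRing A] [IsNoetherianRing A] (J : Ideal A)
    (Xs : ℕ → Scheme.{u}) (p : (k : ℕ) → (Xs k ⟶ Spec (CommRingCat.of (A ⧸ J ^ (k + 1)))))
    (i : (k : ℕ) → (Xs k ⟶ Xs (k + 1)))
    (hcart : ∀ k, IsPullback (i k) (p k) (p (k + 1)) (CohB1.specQuotTrans J k)) (hp : IsProper (p 0))
    (L : (k : ℕ) → (Xs k).Modules) (hL : ∀ k, PicF.IsInvertible (L k))
    (φ : ∀ k, Nonempty ((Scheme.Modules.pullback (i k)).obj (L (k + 1)) ≅ L k)) (ha : CohB1.IsAmple (L 0))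
    (F : (k : ℕ) → (Xs k).Modules) (hF : ∀ k, Coh.IsCoh (F k))
    (ψ : ∀ k, Nonempty ((Scheme.Modules.pullback (i k)).obj (F (k + 1)) ≅ F k)) :
    ∃ n₀ : ℕ, ∀ n, n₀ ≤ n → ∀ k,
      (∀ q, 0 < q → Subsingleton (Coh.HH (Xs k) (CohB1.tensorMod (F k) (CohB1.tensorPow (L k) n)) q)) ∧
      Curv2.IsGloballyGenerated (CohB1.tensorMod (F k) (CohB1.tensorPow (L k) n)) := by
  classical
  letI : ∀ k, (Xs k).Over (Spec (CommRingCat.of A)) := fun k => ⟨p k ≫ CohB1.specQuot J k⟩
  have hover : ∀ k, Xs k ↘ Spec (CommRingCat.of A) = p k ≫ CohB1.specQuot J k := fun _ => rfl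
  haveI := hp
  haveI : IsLocallyNoetherian (Xs 0) := LocallyOfFiniteType.isLocallyNoetherian (p 0)
  haveI := isClosedImmersion_lev hcart
  haveI := fun k => isLocallyNoetherian_level hcart hover k
  haveI := fun k => isClosedImmersion_i J k (hcart k)
  let φ' := fun k => (φ k).some
  let ψ' := fun k => (ψ k).some
  obtain ⟨G, r, T, hG, hG0, hT, hgen, hses⟩ := exists_system hcart hover ψ' hF
  haveI : CompactSpace (Xs 0) := QuasiCompact.compactSpace_of_compactSpace (p 0)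
  choose U hU using fun x : Xs 0 =>
    (show ∃ U : (Xs 0).affineOpens, x ∈ U.1 from by
      obtain ⟨_, ⟨U, hU, rfl⟩, hxU, -⟩ :=
        (Xs 0).isBasis_affineOpens.exists_subset_of_mem_open (Set.mem_univ x) isOpen_univ
      exact ⟨⟨U, hU⟩, hxU⟩)
  obtain ⟨t, ht⟩ := isCompact_univ.elim_finite_subcover (fun x => ((U x).1 : Set (Xs 0)))
    (fun x => (U x).1.2) fun x _ => Set.mem_iUnion.2 ⟨x, hU x⟩
  obtain ⟨n₁, hn₁⟩ := exists_vanishing_graded (A := A ⧸ J ^ (0 + 1)) (p 0) ha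
    (U := fun x : t => U x.1) (fun x => by
      obtain ⟨y, hy, hxy⟩ := Set.mem_iUnion₂.1 (ht (Set.mem_univ x))
      exact ⟨⟨y, hy⟩, hxy⟩) r G hG T hT 0 (fun k _ => hgen _ k)
  obtain ⟨n₂, hn₂⟩ := Amp73.eventually_spanAt_twist ha (hG 0)
  refine ⟨max n₁ n₂, fun n hn => ?_⟩
  have hinv : ∀ k, PicF.IsInvertible (CohB1.tensorPow (L k) n) := fun k => EGA73.isInvertible_tensorPow (hL k) n
  haveI hq0 : ∀ k, (CohB1.tensorMod (G k) (CohB1.tensorPow (L 0) n)).IsQuasicoherent := fun k =>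
    (Amp73.isCoh_tensorMod (hG k) (Amp73.isCoh_of_isInvertible (hinv 0))).1
  -- generation on the closed fibre
  have hgg : ∀ k, Curv2.IsGloballyGenerated (CohB1.tensorMod (G k) (CohB1.tensorPow (L 0) n)) := by
    intro k
    induction k with
    | zero => exact Amp73.isGloballyGenerated_of_spanAt (hq0 0) (hn₂ n (by omega))
    | succ k ih => exact gg_tensor_of_genAt (hgen _ k) _ ih
  have eL : ∀ k, Nonempty ((Scheme.Modules.pullback (lev i k)).obj (L k) ≅ L 0) := by
    intro k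
    induction k with
    | zero => exact ⟨(Scheme.Modules.pullbackId (Xs 0)).app (L 0)⟩
    | succ k ih =>
      obtain ⟨e⟩ := ih
      exact ⟨((Scheme.Modules.pullbackComp (lev i k) (i k)).app (L (k + 1))).symm ≪≫
        (Scheme.Modules.pullback (lev i k)).mapIso (φ' k) ≪≫ e⟩
  intro k
  induction k with
  | zero =>
    rw [← hG0]
    exact ⟨fun q hq => hn₁ n (by omega) 0 q hq, hgg 0⟩
  | succ k ih =>
    obtain ⟨ι, w, hs⟩ := hses k
    obtain ⟨S, hS, e₁, e₂, e₃⟩ := Crv77.shortExact_twist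
      (Mero90.isFinLocFreeOfRank_of_isInvertible (hinv (k + 1))) hs
    obtain ⟨a₁⟩ := nonempty_push_twist (lev i (k + 1)) (G (k + 1)) (hL (k + 1)) (eL (k + 1)).some n
    obtain ⟨a₃⟩ := nonempty_push_twist (i k) (F k) (hL (k + 1)) (φ' k) n
    haveI : (CohB1.tensorMod (F k) (CohB1.tensorPow (L k) n)).IsQuasicoherent :=
      (Amp73.isCoh_tensorMod (hF k) (Amp73.isCoh_of_isInvertible (hinv k))).1
    have h₁ : ∀ q, 0 < q → Subsingleton (Coh.HH (Xs (k + 1)) S.X₁ q) := fun q hq => e₁ ▸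
      ValVan29.subsingleton_hh_of_iso a₁ q (subsingleton_hh_push _ _ q (hn₁ n (by omega) (k + 1) q hq))
    have h₃ : ∀ q, 0 < q → Subsingleton (Coh.HH (Xs (k + 1)) S.X₃ q) := fun q hq => e₃ ▸
      ValVan29.subsingleton_hh_of_iso a₃ q (subsingleton_hh_push _ _ q (ih.1 q hq))
    refine ⟨fun q hq => ?_, ?_⟩
    · have := ValVan29.subsingleton_hh_X₂ hS q (h₁ q hq) (h₃ q hq)
      rwa [e₂] at this
    · have := gg_extension hS (h₁ 1 one_pos) (e₁ ▸ gg_of_iso a₁ (gg_push _ (hgg (k + 1))))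
        (e₃ ▸ gg_of_iso a₃ (gg_push _ ih.2))
      rwa [e₂] at this

end Groth.Agent.RB70.Thick

end
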