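import Groth.Agent.QC70.Hom
import Groth.Agent.QC70.Loc
import Groth.Agent.QC70.Stalk

/-! Morphisms out of a quasi-coherent module from compatible linear maps on affine opens. -/

set_option autoImplicit false
set_option backward.isDefEq.respectTransparency.types false
set_option linter.style.haveILetI false

universe u

noncomputable section

open CategoryTheory Limits AlgebraicGeometry TopologicalSpace Opposite

namespace Groth.Agent.RB70

open QC70

variable {X : Scheme.{u}} {M N : X.Modules}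

/-- Linear maps on the affine opens compatible with restriction. -/
def AffCompat (l : ∀ V : X.affineOpens, Γ(M, V.1) →ₗ[Γ(X, V.1)] Γ(N, V.1)) : Prop :=
  ∀ (W V : X.affineOpens) (h : W.1 ≤ V.1) (s : Γ(M, V.1)), l W (res M h s) = res N h (l V s)

lemma ofLinear_app_le [M.IsQuasicoherent] {l : ∀ V : X.affineOpens, Γ(M, V.1) →ₗ[Γ(X, V.1)] Γ(N, V.1)}
    (hl : AffCompat l) (V : X.affineOpens) (g : Γ(X, V.1)) (s : Γ(M, X.basicOpen g)) :
    (HomOn.ofLinear V.2 (l V)).app (X.basicOpen g) (X.basicOpen_le g) s =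
      l ⟨X.basicOpen g, V.2.basicOpen g⟩ s := by
  obtain ⟨n, t, ht⟩ := (isLocAt_of_isQuasicoherent M V.2).exists_of g s
  have hu : IsUnit (resO X (X.basicOpen_le g) g ^ n) :=
    (RingedSpace.isUnit_res_basicOpen X.toRingedSpace g).pow n
  apply hu.smul_left_cancel.mp
  rw [← LinearMap.map_smul, ← LinearMap.map_smul (l ⟨X.basicOpen g, V.2.basicOpen g⟩), ← ht,
    (HomOn.ofLinear V.2 (l V)).app_res le_rfl, HomOn.ofLinear_app_self,
    hl ⟨X.basicOpen g, V.2.basicOpen g⟩ V (X.basicOpen_le g) t]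

/-- The morphism with prescribed maps on affine opens. -/
theorem exists_hom_of_affine [M.IsQuasicoherent]
    (l : ∀ V : X.affineOpens, Γ(M, V.1) →ₗ[Γ(X, V.1)] Γ(N, V.1)) (hl : AffCompat l) :
    ∃ φ : M ⟶ N, ∀ (V : X.affineOpens) (s : Γ(M, V.1)), φ.app V.1 s = l V s := by
  let φ₀ := fun V : X.affineOpens => HomOn.ofLinear V.2 (l V)
  have hc : HomOn.Compatible φ₀ := fun i j T hi hj s => by
    refine section_ext N _ _ fun p hp => ?_
    obtain ⟨T', hT', hpT', hT'le⟩ := exists_isAffineOpen_mem_and_subset (U := T) hp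
    obtain ⟨g₁, g', e', hp'⟩ := exists_basicOpen_le_affine_inter i.2 hT' p ⟨hi hp, hpT'⟩
    have hD : IsAffineOpen (X.basicOpen g₁) := i.2.basicOpen g₁
    have hDT : X.basicOpen g₁ ≤ T := (e'.le.trans (X.basicOpen_le g')).trans hT'le
    obtain ⟨a, b, e, hpa⟩ := exists_basicOpen_le_affine_inter hD j.2 p ⟨hp', hj hp⟩
    have haD : X.basicOpen a ≤ X.basicOpen g₁ := X.basicOpen_le a
    obtain ⟨a', ha'⟩ : ∃ a' : Γ(X, i.1), X.basicOpen a' = X.basicOpen a := by
      obtain ⟨a'', h⟩ := IsAffineOpen.basicOpen_basicOpen_is_basicOpen i.2 g₁ a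
      exact ⟨a'', h⟩
    refine ⟨X.basicOpen a, haD.trans hDT, hpa, ?_⟩
    rw [← (φ₀ i).app_res hi (haD.trans hDT), ← (φ₀ j).app_res hj (haD.trans hDT)]
    have key : ∀ (V : X.affineOpens) (g : Γ(X, V.1)) (O : X.Opens) (hO : O = X.basicOpen g)
        (hOV : O ≤ V.1) (t : Γ(M, O)),
        (φ₀ V).app O hOV t = l ⟨O, hO ▸ V.2.basicOpen g⟩ t := by
      intro V g O hO hOV t
      subst hO
      exact ofLinear_app_le hl V g t
    rw [key i a' _ ha'.symm _ _, key j b _ e _ _]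
  have htop : (⊤ : X.Opens) ≤ ⨆ V : X.affineOpens, V.1 := (iSup_affineOpens_eq_top X).ge
  refine ⟨(HomOn.glue hc htop).toHom, fun V s => ?_⟩
  rw [HomOn.toHom_app, HomOn.glue_app hc htop le_top V le_rfl, HomOn.ofLinear_app_self]

theorem hom_ext_affine {φ ψ : M ⟶ N}
    (h : ∀ (V : X.affineOpens) (s : Γ(M, V.1)), φ.app V.1 s = ψ.app V.1 s) : φ = ψ := by
  refine Scheme.Modules.hom_ext _ _ fun W => ?_
  ext s
  refine section_ext N _ _ fun p hp => ?_
  obtain ⟨V, hV, hpV, hVW⟩ := exists_isAffineOpen_mem_and_subset (U := W) hp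
  refine ⟨V, hVW, hpV, ?_⟩
  rw [← QC70.app_res, ← QC70.app_res]
  exact h ⟨V, hV⟩ _

end Groth.Agent.RB70
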