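import Groth.Agent.Mum71.TensorA
import Groth.Agent.FF71.ModPow
import Groth.Agent.QC70.Stalk

/-! The reduction of a quasi-coherent module modulo a power of an ideal as a tensor product. -/

set_option autoImplicit false
set_option maxSynthPendingDepth 6
set_option synthInstance.maxHeartbeats 200000
set_option maxHeartbeats 1000000
set_option linter.style.haveILetI false
set_option backward.isDefEq.respectTransparency.types false

universe u

noncomputable section

open CategoryTheory CategoryTheory.Limits AlgebraicGeometry TopologicalSpace Opposite TensorProduct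

namespace Groth.Agent.RB70

open QC70 FF71 Mum71

variable {A : Type u} [CommRing A] {X : Scheme.{u}} [X.Over (Spec (CommRingCat.of A))] (F : X.Modules)

lemma tmul_smul_right (L : X.Modules) (U : X.Opens) (r : Γ(X, U)) (m : Γ(L, U)) (n : Γ(F, U)) :
    SecTwist.tmul L F U m (r • n) = r • SecTwist.tmul L F U m n := by
  refine (congrArg (fun t => ((SecTwist.toTensor L F).app (op U)).hom t)
    (Mod48.tp_smul_right (O := X.sheaf) (M := CohB1.toPMod L) (N := CohB1.toPMod F) (X := op U) r m n)).trans ?_
  exact ((SecTwist.toTensor L F).app (op U)).hom.map_smul r _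

/-- `x ↦ x ⊗ 1`. -/
def oneMap : F ⟶ tA F (ModuleCat.of A A) :=
  ⟨PresheafOfModules.homMk
    { app := fun U => AddCommGrpCat.ofHom (AddMonoidHom.mk'
        (fun x => tMap F (ModuleCat.of A A) U.unop ((show Γ(F, U.unop) from x) ⊗ₜ[A] (1 : A))) fun x y =>
          (congrArg (tMap F (ModuleCat.of A A) U.unop)
            (TensorProduct.add_tmul (show Γ(F, U.unop) from x) (show Γ(F, U.unop) from y) (1 : A))).trans (map_add _ _ _))
      naturality := fun U V i => by
        ext x
        exact tMap_res F (ModuleCat.of A A) i.unop.le x (1 : A) }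
    fun U r x => tmul_smul_right F _ U.unop r _ x⟩

lemma oneMap_app (V : X.Opens) (x : Γ(F, V)) :
    (oneMap F).app V x = tMap F (ModuleCat.of A A) V (x ⊗ₜ[A] (1 : A)) := rfl

variable (I : Ideal A) (n : ℕ)

/-- The quotient module. -/
abbrev quotA : ModuleCat.{u} A := ModuleCat.of A (A ⧸ I ^ n)

/-- The projection of `A`. -/
abbrev mkA : ModuleCat.of A A ⟶ quotA I n := ModuleCat.ofHom (I ^ n).mkQ

/-- `F ⟶ F ⊗ A/I^n`. -/
def toQuot : F ⟶ tA F (quotA I n) := oneMap F ≫ (CohIII.tensorAFunctor A F).map (mkA I n)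

lemma toQuot_app (V : X.Opens) (x : Γ(F, V)) :
    (toQuot F I n).app V x = tMap F (quotA I n) V (x ⊗ₜ[A] (I ^ n).mkQ (1 : A)) := by
  show ((CohIII.tensorAFunctor A F).map (mkA I n)).app V ((oneMap F).app V x) = _
  rw [oneMap_app, tMap_natural]
  rfl

lemma toQuot_app_smul_eq_zero {a : A} (ha : a ∈ I ^ n) (V : X.Opens) (x : Γ(F, V)) :
    (toQuot F I n).app V (rA A X V a • x) = 0 := by
  rw [toQuot_app]
  have h : ((rA A X V a • x : Γ(F, V)) ⊗ₜ[A] (I ^ n).mkQ (1 : A)) = 0 := by
    show (a • x) ⊗ₜ[A] (I ^ n).mkQ (1 : A) = 0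
    rw [TensorProduct.smul_tmul, ← map_smul, smul_eq_mul, mul_one, Submodule.mkQ_apply,
      (Submodule.Quotient.mk_eq_zero _).mpr ha, TensorProduct.tmul_zero]
  rw [h, map_zero]

/-- `F/I^n F ⟶ F ⊗ A/I^n`. -/
def fromModPow : Formal.modPow I n F ⟶ tA F (quotA I n) :=
  cokernel.desc _ (toQuot F I n) <| Sigma.hom_ext _ _ fun b => by
    rw [← Category.assoc, comp_zero,
      show Sigma.ι (fun _ : (I ^ n : Ideal A) => F) b ≫ Formal.smulFamily (I ^ n) F =
        Formal.smulMod A F b.1 from Sigma.ι_desc _ _]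
    refine Scheme.Modules.hom_ext _ _ fun W => ?_
    ext m
    exact toQuot_app_smul_eq_zero F I n b.2 W m

lemma π_fromModPow : Formal.modPowπ I n F ≫ fromModPow F I n = toQuot F I n := cokernel.π_desc _ _ _

variable [F.IsQuasicoherent]

theorem fromModPow_app_bijective [IsNoetherianRing A] {V : X.Opens} (hV : IsAffineOpen V) :
    Function.Bijective ((fromModPow F I n).app V) := by
  have hc : ∀ x, (fromModPow F I n).app V ((Formal.modPowπ I n F).app V x) = (toQuot F I n).app V x := fun x => by
    rw [← π_fromModPow F I n]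
    rfl
  have hr : TensorProduct.rid A Γ(F, V) = TensorProduct.rid A Γ(F, V) := rfl
  refine ⟨(injective_iff_map_eq_zero _).mpr fun y hy => ?_, fun y => ?_⟩
  · obtain ⟨x, rfl⟩ := modPowπ_app_surjective I F n hV y
    rw [hc, toQuot_app, ← map_zero (tMap F (quotA I n) V)] at hy
    have h0 := (tMap_bijective hV F (quotA I n)).1 hy
    have h1 : (I ^ n).mkQ.lTensor Γ(F, V) (x ⊗ₜ[A] (1 : A)) = 0 := h0
    obtain ⟨w, hw⟩ := (lTensor_exact Γ(F, V) (LinearMap.exact_subtype_mkQ (I ^ n))
      (Submodule.mkQ_surjective _) _).mp h1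
    have hx : x = TensorProduct.rid A Γ(F, V) ((I ^ n).subtype.lTensor Γ(F, V) w) := by
      rw [hw, TensorProduct.rid_tmul, one_smul]
    apply modPowπ_app_of_mem
    rw [hx]
    clear hw hx
    induction w using TensorProduct.induction_on with
    | zero => rw [map_zero, map_zero]; exact zero_mem _
    | add a b ha hb => rw [map_add, map_add]; exact add_mem ha hb
    | tmul z a =>
      rw [LinearMap.lTensor_tmul, TensorProduct.rid_tmul]
      exact smul_mem_secI a.2 z
  · obtain ⟨z, rfl⟩ := (tMap_bijective hV F (quotA I n)).2 y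
    obtain ⟨w, rfl⟩ := LinearMap.lTensor_surjective Γ(F, V) (Submodule.mkQ_surjective (I ^ n)) z
    refine ⟨(Formal.modPowπ I n F).app V (TensorProduct.rid A Γ(F, V) w), ?_⟩
    rw [hc, toQuot_app]
    refine congrArg (tMap F (quotA I n) V) ?_
    induction w using TensorProduct.induction_on with
    | zero => simp only [map_zero, TensorProduct.zero_tmul]
    | add a b ha hb => simp only [map_add, TensorProduct.add_tmul, ha, hb]
    | tmul z a =>
      rw [LinearMap.lTensor_tmul, TensorProduct.rid_tmul, TensorProduct.smul_tmul, ← map_smul,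
        smul_eq_mul, mul_one]

theorem isIso_of_bijective_affines {M N : X.Modules} (φ : M ⟶ N)
    (h : ∀ {V : X.Opens}, IsAffineOpen V → Function.Bijective (φ.app V)) : IsIso φ := by
  refine isIso_of_bijective_stalkMapM _ fun x => ⟨(injective_iff_map_eq_zero _).mpr fun c hc => ?_, fun c => ?_⟩
  · obtain ⟨W, hxW, s, rfl⟩ := germM_exist c
    obtain ⟨W', hW', hxW', h0⟩ := germM_eq_zero ((stalkMapM_germ φ hxW s).symm.trans hc)
    obtain ⟨_, ⟨V, hV, rfl⟩, hxV, hVW⟩ := X.isBasis_affineOpens.exists_subset_of_mem_open hxW' W'.2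
    have h1 : φ.app V (res _ (le_trans hVW hW') s) = 0 := by
      rw [app_res, ← res_res hW' hVW, h0, res_zero]
    have h2 := (h hV).1 (h1.trans (map_zero _).symm)
    rw [← germM_res (le_trans hVW hW') hxV, h2]
    exact germM_zero hxV
  · obtain ⟨W, hxW, s, rfl⟩ := germM_exist c
    obtain ⟨_, ⟨V, hV, rfl⟩, hxV, hVW⟩ := X.isBasis_affineOpens.exists_subset_of_mem_open hxW W.2
    obtain ⟨t, ht⟩ := (h hV).2 (res _ hVW s)
    refine ⟨germM _ V x hxV t, ?_⟩
    refine (stalkMapM_germ φ hxV t).trans ?_
    rw [ht, germM_res]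

theorem isIso_fromModPow [IsNoetherianRing A] : IsIso (fromModPow F I n) :=
  isIso_of_bijective_affines _ fun hV => fromModPow_app_bijective F I n hV

theorem isIso_oneMap : IsIso (oneMap (A := A) F) :=
  isIso_of_bijective_affines _ fun {V} hV => by
    have h : ⇑((oneMap (A := A) F).app V) =
        tMap F (ModuleCat.of A A) V ∘ (TensorProduct.rid A Γ(F, V)).symm := funext fun x => oneMap_app F V x
    rw [h]
    exact (tMap_bijective hV F _).comp (TensorProduct.rid A Γ(F, V)).symm.bijective

end Groth.Agent.RB70
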