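import Groth.Agent.KRR40.PnTransfer
import Groth.Agent.Pn71.Cohomology
import Groth.Agent.RB70.ThickGen
import Groth.Agent.S12131
import Groth.Agent.EGA73.TwistBaseChange
import Mathlib.Algebra.TrivSqZeroExt.Basic

/-! Cohomology on projective space of twists of modules coming from the base ring. -/

set_option autoImplicit false
set_option backward.isDefEq.respectTransparency.types false
set_option linter.style.haveILetI false
set_option maxHeartbeats 1000000
set_option synthInstance.maxHeartbeats 200000

universe u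

open CategoryTheory CategoryTheory.Limits AlgebraicGeometry Opposite TopologicalSpace

noncomputable section

namespace Groth.Agent.RB70

/-- The direct image of `N~` along a map of affine schemes is the tilde of the restriction of scalars. -/
theorem nonempty_pushforward_tilde {R S : CommRingCat.{u}} (φ : R ⟶ S) (N : ModuleCat.{u} S) :
    Nonempty (tilde ((ModuleCat.restrictScalars φ.hom).obj N) ≅
      (Scheme.Modules.pushforward (Spec.map φ)).obj (tilde N)) := by
  let P := (Scheme.Modules.pushforward (Spec.map φ)).obj (tilde N)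
  let e : moduleSpecΓFunctor.obj P ≅ (ModuleCat.restrictScalars φ.hom).obj (moduleSpecΓFunctor.obj (tilde N)) :=
    ((sheafToPresheaf _ _).mapIso ((pushforwardCompModulesSpecToSheafIso φ).app (tilde N))).app (op ⊤)
  exact ⟨(tilde.functor R).mapIso ((ModuleCat.restrictScalars φ.hom).mapIso (tilde.toTildeΓNatIso.app N) ≪≫ e.symm) ≪≫
    @asIso _ _ _ _ P.fromTildeΓ (isIso_fromTildeΓ_pushforward φ (tilde N))⟩

variable {A : Type u} [CommRing A]

/-- Twists pull back to twists under extension of coefficients. -/
theorem nonempty_pullback_linMap_twist {B : Type u} [CommRing B] [Algebra A B] (n : ℕ) (d : ℤ) :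
    Nonempty ((Scheme.Modules.pullback (Csa25.linMap (n := n) (algebraMap A B) 1 isUnit_one)).obj
      (Twist.twistProjSpace n A d) ≅ Twist.twistProjSpace n B d) := by
  letI : Algebra (MvPolynomial (Fin (n + 1)) A) (MvPolynomial (Fin (n + 1)) B) :=
    MvPolynomial.algebraMvPolynomial
  have hf : ∀ b, (Csa25.linHom (n := n) (algebraMap A B) 1) b =
      algebraMap (MvPolynomial (Fin (n + 1)) A) (MvPolynomial (Fin (n + 1)) B) b := fun b => by
    refine RingHom.congr_fun (MvPolynomial.ringHom_ext (f := (Csa25.linHom (n := n) (algebraMap A B) 1 :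
      MvPolynomial (Fin (n + 1)) A →+* MvPolynomial (Fin (n + 1)) B)) (fun r => ?_) (fun j => ?_)) b
    · exact (Csa25.linHom_C _ _ r).trans (MvPolynomial.map_C _ r).symm
    · exact ((Csa25.linHom_X _ _ j).trans (Csa25.linForm_one j)).trans (MvPolynomial.map_X _ j).symm
  obtain ⟨t⟩ := EGA73.TwistBaseChange.nonempty_pullback_twist_iso (R := B) (R' := A)
    (Csa25.linHom (n := n) (algebraMap A B) 1) hf (Csa25.irrelevant_le_map_linHom _ isUnit_one) d
  exact ⟨t⟩

/-- Vanishing for twists of the inverse image of a module, outside the classical degrees. -/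
theorem subsingleton_hh_tilde_twist (n : ℕ) (d : ℤ) (q : ℕ)
    (h₀ : ¬ (q = 0 ∧ 0 ≤ d)) (hn : ¬ (q = n ∧ d ≤ -((n : ℤ) + 1))) (M : ModuleCat.{u} A) :
    Subsingleton (Coh.HH (CohB1.ProjSpace n A) (CohB1.tensorMod
      ((Scheme.Modules.pullback (CohB1.ProjSpace.toSpec n A)).obj (tilde (R := CommRingCat.of A) M))
      (Twist.twistProjSpace n A d)) q) := by
  letI : Module Aᵐᵒᵖ M := Module.compHom M ((RingHom.id A).fromOpposite mul_comm)
  haveI : IsCentralScalar A M := ⟨fun _ _ => rfl⟩
  let B := TrivSqZeroExt A M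
  let φ : CommRingCat.of A ⟶ CommRingCat.of B := CommRingCat.ofHom (algebraMap A B)
  let l := Csa25.linMap (n := n) (algebraMap A B) 1 isUnit_one
  let pA := CohB1.ProjSpace.toSpec n A
  let pB := CohB1.ProjSpace.toSpec n B
  have sq : IsPullback pB l (Spec.map φ) pA := (Csa25.isPullback_linMap_one (n := n) (R := A) (R' := B)).flip
  haveI : IsAffineHom l := MorphismProperty.of_isPullback sq (inferInstance : IsAffineHom (Spec.map φ))
  let N : ModuleCat.{u} (CommRingCat.of B) := ModuleCat.of B B
  haveI : Coh.IsQCoh (tilde N) := (inferInstance : (tilde N).IsQuasicoherent)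
  -- base change of the direct image
  haveI hbc := S12131.result (Spec.map φ) pA pB l sq (tilde N)
  obtain ⟨et⟩ := nonempty_pushforward_tilde φ N
  let eO : (Scheme.Modules.pullback pB).obj (tilde N) ≅ Coh.structureModule _ :=
    (Scheme.Modules.pullback pB).mapIso tildeSelf ≪≫ PicLoc.pullbackStructureIso pB
  obtain ⟨tw⟩ := nonempty_pullback_linMap_twist (A := A) (B := B) n d
  let TA := Twist.twistProjSpace n A d
  let TB := Twist.twistProjSpace n B d
  let E : CohB1.tensorMod ((Scheme.Modules.pullback pA).obj (tilde ((ModuleCat.restrictScalars φ.hom).obj N))) TA ≅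
      (Scheme.Modules.pushforward l).obj TB :=
    EGA73.tensIso ((Scheme.Modules.pullback pA).mapIso et ≪≫
      @asIso _ _ _ _ _ hbc ≪≫ (Scheme.Modules.pushforward l).mapIso eO) (Iso.refl TA) ≪≫
    (ValVan29.projIso l (Coh.structureModule _) TA (Var76.Reg.isInvertible_twist d)) ≪≫
    (Scheme.Modules.pushforward l).mapIso (EGA73.tensUnitLeft _ ≪≫ tw)
  haveI : TB.IsQuasicoherent := Mero90.isQCoh_of_isInvertible (Var76.Reg.isInvertible_twist d)
  have hB : Subsingleton (Coh.HH (CohB1.ProjSpace n A) ((Scheme.Modules.pushforward l).obj TB) q) :=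
    subsingleton_hh_push l TB q (Pn71.subsingleton_hh (A := B) n d q h₀ hn)
  -- the module is a retract
  let N' : ModuleCat.{u} (CommRingCat.of A) := (ModuleCat.restrictScalars φ.hom).obj N
  let i : M ⟶ N' := ModuleCat.ofHom (X := (M : Type u)) (Y := (N' : Type u))
    { toFun := fun m => (TrivSqZeroExt.inr m : B)
      map_add' := fun x y => TrivSqZeroExt.inr_add A x y
      map_smul' := fun a x => (TrivSqZeroExt.inl_mul_inr (R := A) a x).symm }
  let r : N' ⟶ M := ModuleCat.ofHom (X := (N' : Type u)) (Y := (M : Type u))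
    { toFun := fun b => TrivSqZeroExt.snd (b : B)
      map_add' := fun x y => TrivSqZeroExt.snd_add (x : B) y
      map_smul' := fun a x => (congrArg TrivSqZeroExt.snd (show (TrivSqZeroExt.inl a : B) * (show B from x) = a • (show B from x) from
        (Algebra.smul_def a (show B from x)).symm)).trans (TrivSqZeroExt.snd_smul a (show B from x)) }
  have hir : i ≫ r = 𝟙 M := by
    ext m
    exact TrivSqZeroExt.snd_inr A m
  let G := tilde.functor (CommRingCat.of A) ⋙ Scheme.Modules.pullback pA ⋙ DCoh.tensorRightMod TA ⋙ Crv77.toAbF _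
  haveI : Subsingleton (Coh.HH (CohB1.ProjSpace n A)
      (CohB1.tensorMod ((Scheme.Modules.pullback pA).obj (tilde N')) TA) q) :=
    ValVan29.subsingleton_hh_of_iso E.symm q hB
  haveI : Subsingleton (Abelian.Ext.{u} (Crv77.srcObj (CohB1.ProjSpace n A)) (G.obj N') q) := this
  show Subsingleton (Abelian.Ext.{u} (Crv77.srcObj (CohB1.ProjSpace n A)) (G.obj M) q)
  refine subsingleton_of_forall_eq 0 fun x => ?_
  rw [← x.comp_mk₀_id, ← G.map_id, ← hir, G.map_comp, ← Abelian.Ext.mk₀_comp_mk₀, ← Abelian.Ext.comp_assoc_of_second_deg_zero,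
    Subsingleton.elim (x.comp (Abelian.Ext.mk₀ (G.map i)) (add_zero q)) 0, Abelian.Ext.zero_comp]

end Groth.Agent.RB70

end
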