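import Groth.Agent.Mum71.SquareLin
import Groth.Agent.FCx40.TF
import Mathlib.LinearAlgebra.Dimension.Constructions
import Mathlib.RingTheory.Flat.Basic

/-! Flat base change for the cohomology of a flat family over an affine Noetherian base. -/

set_option autoImplicit false
set_option maxSynthPendingDepth 6
set_option synthInstance.maxHeartbeats 200000
set_option maxHeartbeats 1000000
set_option linter.style.haveILetI false
set_option backward.isDefEq.respectTransparency.types false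

universe u

noncomputable section

open CategoryTheory CategoryTheory.Limits AlgebraicGeometry TopologicalSpace Opposite TensorProduct
open CohIII (T tensorObj)

namespace Groth.Agent.RB70

open Coh69 CechComp71 QC70 FF71 Mum71

variable {A : Type u} [CommRing A] {X : Scheme.{u}} [X.Over (Spec (CommRingCat.of A))]
  {B : Type u} [CommRing B] [Algebra A B] {X' : Scheme.{u}} [X'.Over (Spec (CommRingCat.of B))]
  {g : X' ⟶ X}
  (hsq : IsPullback g (X' ↘ Spec (CommRingCat.of B)) (X ↘ Spec (CommRingCat.of A))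
    (Spec.map (CommRingCat.ofHom (algebraMap A B))))
  {ι : Type u} [Finite ι] {U : ι → X.Opens} {F : X.Modules} [F.IsQuasicoherent]
  (hU : ⨆ i, U i = ⊤) (hU' : ∀ (n : ℕ) (i : Fin (n + 1) → ι), IsAffineOpen (cOpen U i))
  {L : CochainComplex (ModuleCat.{u} A) ℤ} {φ : L ⟶ chCx A U F}
  (hφ : ∀ M : ModuleCat.{u} A, QuasiIso
    (((MonoidalCategory.tensorRight M).mapHomologicalComplex (ComplexShape.up ℤ)).map φ))

/-- Multiplication by `b` as a map of `A`-modules. -/
abbrev mulB (b : B) : ModuleCat.of A B ⟶ ModuleCat.of A B := ModuleCat.ofHom (LinearMap.mulLeft A b)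

lemma sqBCoef_Φ_mul (p : ℕ) (b : B) (x : Ch U F p ⊗[A] B) :
    (sqBCoef hsq F hU').Φ p ((LinearMap.mulLeft A b).lTensor (Ch U F p) x) =
      smulC (A := B) (preU g U) ((Scheme.Modules.pullback g).obj F) p b ((sqBCoef hsq F hU').Φ p x) := by
  induction x using TensorProduct.induction_on with
  | zero => simp only [smul_zero, map_zero]
  | add x y hx hy => simp only [map_add, hx, hy]
  | tmul c c' =>
    funext i
    rw [LinearMap.lTensor_tmul, Coef.Φ_tmul, smulC_apply, Coef.Φ_tmul]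
    show sqBEquiv hsq F (hU' p i) (cOpen_preU g i) (c i ⊗ₜ (b * c')) =
      _ • sqBEquiv hsq F (hU' p i) (cOpen_preU g i) (c i ⊗ₜ c')
    rw [sqBEquiv_tmul, sqBEquiv_tmul, map_mul, mul_smul]

include hsq hφ hU hU' in
theorem exists_hh_sq_mul (p : ℕ) :
    ∃ e : T L (p : ℤ) (ModuleCat.of A B) ≃+ Coh.HH X' ((Scheme.Modules.pullback g).obj F) p,
      ∀ (b : B) t, e ((CohIII.TFun L (p : ℤ)).map (mulB b) t) = b • e t := by
  have hUp : ⨆ i, preU g U i = ⊤ := by
    show ⨆ i, g ⁻¹ᵁ U i = ⊤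
    rw [← Scheme.Hom.preimage_iSup, hU]
    rfl
  haveI := Mum71.isAffineHom_of_sq hsq
  haveI : ((Scheme.Modules.pullback g).obj F).IsQuasicoherent := QCPull72.isQuasicoherent_pullback _ _
  have hac : AcyclicOn (preU g U) (Coh.toAb ((Scheme.Modules.pullback g).obj F)) :=
    acyclicOn_of_isAffineOpen _ _ fun n i => by
      rw [cOpen_preU]
      exact (hU' n i).preimage _
  haveI := hφ (ModuleCat.of A B)
  obtain ⟨e, he⟩ := (sqBCoef hsq F hU').exists_equiv hUp hac p
  haveI : IsIso (HomologicalComplex.homologyMap (φM (F := F) (φ := φ) (ModuleCat.of A B)) (p : ℤ)) :=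
    (quasiIsoAt_iff_isIso_homologyMap _ _).1 ((hφ (ModuleCat.of A B)).quasiIsoAt _)
  let ψ := (asIso (HomologicalComplex.homologyMap (φM (F := F) (φ := φ) (ModuleCat.of A B))
    (p : ℤ))).toLinearEquiv
  refine ⟨ψ.toAddEquiv.trans e, fun b t => ?_⟩
  obtain ⟨z, rfl⟩ := FCx40.hcls_surjective (K := tensorObj L (ModuleCat.of A B)) (CochainComplex.next ℤ (p : ℤ)) t
  show e ((HomologicalComplex.homologyMap (φM (F := F) (φ := φ) (ModuleCat.of A B)) (p : ℤ)).hom
      ((HomologicalComplex.homologyMap (CohIII.tensorMap L (mulB b)) (p : ℤ)).hom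
        (FCx40.hcls (tensorObj L (ModuleCat.of A B)) (p : ℤ) ((p : ℤ) + 1) (CochainComplex.next ℤ (p : ℤ)) z))) =
    b • e ((HomologicalComplex.homologyMap (φM (F := F) (φ := φ) (ModuleCat.of A B)) (p : ℤ)).hom
        (FCx40.hcls (tensorObj L (ModuleCat.of A B)) (p : ℤ) ((p : ℤ) + 1) (CochainComplex.next ℤ (p : ℤ)) z))
  rw [FCx40.hcls_map, FCx40.hcls_map, FCx40.hcls_map, he, he]
  show toHH _ _ _ p _ = b • toHH _ _ _ p _
  rw [← FF71.toHH_smulZ]
  congr 1
  apply Subtype.ext
  rw [smulZ_val]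
  show (sqBCoef hsq F hU').Φ p _ = smulC (A := B) _ _ p b ((sqBCoef hsq F hU').Φ p _)
  refine Eq.trans ?_ (sqBCoef_Φ_mul hsq hU' p b _)
  exact congrArg (fun t => (sqBCoef hsq F hU').Φ p t)
    (FCx40.comm_rTensor_lTensor (φ.f (p : ℤ)).hom (mulB (A := A) b).hom z.1)

include hsq hφ hU hU' in
/-- Flat base change: `B ⊗ H^p(X, F) ≅ H^p(X_B, F_B)`. -/
theorem nonempty_hh_flat_bc [Module.Flat A B] (p : ℕ) :
    Nonempty (B ⊗[A] Coh.HH X F p ≃ₗ[B] Coh.HH X' ((Scheme.Modules.pullback g).obj F) p) := by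
  obtain ⟨e, he⟩ := exists_hh_sq_mul hsq hU hU' hφ p
  obtain ⟨e₁⟩ := nonempty_hh_linear hU hU' hφ p
  obtain ⟨e₂⟩ := nonempty_TFun_toChain L (p : ℤ)
  have hpq : -(p : ℤ) - 1 + 1 = -(p : ℤ) := by omega
  have hk := FCx40.rTensor_ker_of_flat ((toChain L).d (-(p : ℤ)) (-(p : ℤ) - 1)).hom B
  let H := (toChain L).homology (-(p : ℤ))
  let h₁ : Coh.HH X F p ≃ₗ[A] H :=
    (e₁.symm.trans (e₂.app (ModuleCat.of A A)).toLinearEquiv.symm).trans
      (FCx40.tOneEquiv (P := toChain L) (p := -(p : ℤ)) hpq).symm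
  let E : B ⊗[A] Coh.HH X F p ≃+ Coh.HH X' ((Scheme.Modules.pullback g).obj F) p :=
    ((LinearEquiv.lTensor B h₁).trans (TensorProduct.comm A B H)).toAddEquiv.trans
      (((FCx40.tEquiv hpq (ModuleCat.of A B) hk).trans
        (e₂.app (ModuleCat.of A B)).toLinearEquiv).toAddEquiv.trans e)
  refine ⟨{ E with map_smul' := fun b w => ?_ }⟩
  show E (b • w) = b • E w
  have key : TensorProduct.comm A B H (h₁.toLinearMap.lTensor B (b • w)) =
      (LinearMap.mulLeft A b).lTensor H (TensorProduct.comm A B H (h₁.toLinearMap.lTensor B w)) := by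
    induction w using TensorProduct.induction_on with
    | zero => simp only [smul_zero, map_zero]
    | add x y hx hy => simp only [smul_add, map_add, hx, hy]
    | tmul c x => rfl
  show e (e₂.hom.app _ (FCx40.tEquiv hpq (ModuleCat.of A B) hk
      (TensorProduct.comm A B H (h₁.toLinearMap.lTensor B (b • w))))) =
    b • e (e₂.hom.app _ (FCx40.tEquiv hpq (ModuleCat.of A B) hk
      (TensorProduct.comm A B H (h₁.toLinearMap.lTensor B w))))
  rw [key, ← he]
  refine congrArg e ?_
  have h2 := FCx40.tEquiv_natural hpq (mulB (A := A) b) hk hk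
    (TensorProduct.comm A B H (h₁.toLinearMap.lTensor B w))
  refine (congrArg (e₂.hom.app (ModuleCat.of A B)) h2.symm).trans ?_
  exact congr($(e₂.hom.naturality (mulB (A := A) b)) _)

end Groth.Agent.RB70
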