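import Groth.Agent.RB70.FibreInj
import Groth.Agent.Mum71.BcSections
import Groth.Agent.QC70.CohOps
import Groth.Agent.QC70.Stalk
import Groth.Agent.QCPull72.Support
import Groth.Agent.E4O.Separating
import Groth.Agent.FlatMor68.FlatSections
import Groth.Agent.CD47.Resolution
import Groth.Agent.Props58.LocFree.Criteria
import Mathlib.RingTheory.Filtration

/-! Criteria on a fibre for morphisms of coherent modules. -/

set_option autoImplicit false
set_option backward.isDefEq.respectTransparency.types false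
set_option maxSynthPendingDepth 6
set_option synthInstance.maxHeartbeats 200000
set_option maxHeartbeats 1000000
set_option linter.style.haveILetI false

universe u

noncomputable section

open CategoryTheory CategoryTheory.Limits AlgebraicGeometry TopologicalSpace Opposite TensorProduct
open Groth.Agent.QC70 Groth.Agent.FF71 Groth.Agent.Mum71 Groth.Agent.QCPull72

namespace Groth.Agent.RB70

variable {X Y : Scheme.{u}}

open Props58.LocFree in
/-- A locally free module on a flat scheme is flat over the base. -/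
theorem isFlatOver_of_isFinLocFree (f : X ⟶ Y) [Flat f] {F : X.Modules} (hF : FlatMod.IsFinLocFree F) :
    FlatMod.IsFlatOver f F := fun x => by
  obtain ⟨U, n, s, hxU, hs⟩ := isFinLocFree_iff.mp hF x
  letI := FlatMod.moduleStalkOver f F x
  letI : Algebra (Y.presheaf.stalk (f.base x)) (X.presheaf.stalk x) := (f.stalkMap x).hom.toAlgebra
  haveI : IsScalarTower (Y.presheaf.stalk (f.base x)) (X.presheaf.stalk x) (F.presheaf.stalk x) :=
    IsScalarTower.of_algebraMap_smul fun _ _ => rfl
  haveI : Module.Flat (Y.presheaf.stalk (f.base x)) (X.presheaf.stalk x) := Flat.stalkMap f x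
  haveI : Module.Free (X.presheaf.stalk x) (F.presheaf.stalk x) := hs.free_stalk x hxU
  show Module.Flat (Y.presheaf.stalk (f.base x)) (F.presheaf.stalk x)
  exact Module.Flat.trans (Y.presheaf.stalk (f.base x)) (X.presheaf.stalk x) _

/-- A morphism of coherent modules which is an epimorphism on a fibre of a closed map is one over a
neighbourhood of the point. -/
theorem exists_opens_epi [IsLocallyNoetherian X] (f : X ⟶ Y) (hf : IsClosedMap f.base) (y : Y)
    {X' : Scheme.{u}} (g : X' ⟶ X) (hg : f.base ⁻¹' {y} ⊆ Set.range g.base) {M N : X.Modules}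
    (hM : Coh.IsCoh M) (hN : Coh.IsCoh N) (φ : M ⟶ N) (h : Epi ((Scheme.Modules.pullback g).map φ)) :
    ∃ W : Y.Opens, y ∈ W ∧ Epi ((Scheme.Modules.pullback (f ⁻¹ᵁ W).ι).map φ) ∧ (W = ⊤ → Epi φ) := by
  haveI := hM.1
  haveI := hM.2
  haveI := hN.1
  haveI := hN.2
  haveI : (cokernel φ).IsQuasicoherent := isQuasicoherent_cokernel φ
  haveI : (cokernel φ).IsFiniteType := isFiniteType_cokernel φ
  haveI : ∀ {P Q : Scheme.{u}} (q : P ⟶ Q), PreservesColimitsOfSize.{0, 0} (Scheme.Modules.pullback q) :=
    fun q => (Scheme.Modules.pullbackPushforwardAdjunction q).leftAdjoint_preservesColimits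
  have h0 : IsZero ((Scheme.Modules.pullback g).obj (cokernel φ)) := by
    haveI := h
    refine IsZero.of_epi_eq_zero ((Scheme.Modules.pullback g).map (cokernel.π φ))
      ((cancel_epi ((Scheme.Modules.pullback g).map φ)).mp ?_)
    rw [← Functor.map_comp, cokernel.condition, Functor.map_zero, comp_zero]
  let Z : Set X := CohB1.support (cokernel φ)
  have hZ : y ∉ f.base '' Z := by
    rintro ⟨x, hx, hxy⟩
    obtain ⟨x', rfl⟩ := hg hxy
    have : x' ∈ CohB1.support ((Scheme.Modules.pullback g).obj (cokernel φ)) := by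
      rw [QCPull72.support_pullback]
      exact hx
    refine this (subsingleton_of_forall_eq 0 fun e => ?_)
    obtain ⟨W, hW, s, rfl⟩ := germM_exist e
    have hs : s = 0 := congr(Scheme.Modules.Hom.app $(h0.eq_of_src (𝟙 _) 0) W s)
    rw [hs, germM_zero]
  let W : Y.Opens := ⟨(f.base '' Z)ᶜ, (hf _ (isClosed_support _)).isOpen_compl⟩
  have hzero : IsZero ((Scheme.Modules.pullback (f ⁻¹ᵁ W).ι).obj (cokernel φ)) := by
    refine isZero_of_support_eq_empty ?_
    rw [QCPull72.support_pullback, Set.eq_empty_iff_forall_notMem]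
    intro x hx
    exact (x.2 : f.base ((f ⁻¹ᵁ W).ι x) ∈ W) ⟨_, hx, rfl⟩
  refine ⟨W, hZ, ?_, fun hW => ?_⟩
  · exact Preadditive.epi_of_isZero_cokernel _
      (hzero.of_iso (PreservesCokernel.iso (Scheme.Modules.pullback (f ⁻¹ᵁ W).ι) φ).symm)
  · refine Preadditive.epi_of_isZero_cokernel _ (isZero_of_support_eq_empty ?_)
    rw [Set.eq_empty_iff_forall_notMem]
    intro x hx
    have : f.base x ∈ W := by rw [hW]; trivial
    exact this ⟨x, hx, rfl⟩

/-- An epimorphic endomorphism of a module of finite type with finite stalks is an isomorphism. -/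
theorem isIso_of_epi_endo {M : X.Modules} (hM : FlatMod.IsFinLocFree M) (φ : M ⟶ M) [Epi φ] :
    IsIso φ :=
  isIso_of_bijective_stalkMapM φ fun x => by
    obtain ⟨U, n, s, hxU, hs⟩ := Props58.LocFree.isFinLocFree_iff.mp hM x
    haveI := hs.finite_stalk x hxU
    exact OrzechProperty.bijective_of_surjective_endomorphism (stalkLinear φ x)
      (surjective_stalkMapM_of_epi φ x)

section Local

variable {A : Type u} [CommRing A] [IsNoetherianRing A] (m : Ideal A) [m.IsMaximal]
  [X.Over (Spec (CommRingCat.of A))] {B : Type u} [CommRing B] [Algebra A B] {X' : Scheme.{u}}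
  [X'.Over (Spec (CommRingCat.of B))] {g : X' ⟶ X}
  (hsq : IsPullback g (X' ↘ Spec (CommRingCat.of B)) (X ↘ Spec (CommRingCat.of A))
    (Spec.map (CommRingCat.ofHom (algebraMap A B))))

include hsq in
/-- A morphism of coherent modules, flat target, which is a monomorphism on a closed fibre is injective
on the stalks along the fibre. -/
theorem injective_stalk_of_fibre [IsLocallyNoetherian X] (κ : (A ⧸ m) ≃ₗ[A] B) (hm : ∀ a ∈ m, algebraMap A B a = 0)
    {M N : X.Modules} (hM : Coh.IsCoh M) (hN : Coh.IsCoh N)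
    (hfl : FlatMod.IsFlatOver (X ↘ Spec (CommRingCat.of A)) N) (φ : M ⟶ N)
    (h : Mono ((Scheme.Modules.pullback g).map φ)) (x' : X') :
    Function.Injective (stalkMapM φ (g.base x')) := by
  haveI := hM.1
  haveI := hM.2
  haveI := hN.1
  obtain ⟨V, hV, hxV, -⟩ := exists_isAffineOpen_mem_and_subset (U := (⊤ : X.Opens)) (x := g.base x') trivial
  haveI : IsNoetherianRing Γ(X, V) := IsLocallyNoetherian.component_noetherian ⟨V, hV⟩
  haveI : Module.Finite Γ(X, V) Γ(M, V) := QC70.finite_sections_of_isFiniteType M hV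
  haveI : Module.Flat A Γ(N, V) := by
    have h := FlatMor68.FlatSections.flat_sections (X ↘ Spec (CommRingCat.of A))
      (U := V) (V := ⊤) le_top hV (isAffineOpen_top _)
      (isLocAt_of_isQuasicoherent N hV) (fun x _ => hfl x)
    letI : Algebra A Γ(Spec (CommRingCat.of A), ⊤) := (Scheme.ΓSpecIso (CommRingCat.of A)).inv.hom.toAlgebra
    letI : Module Γ(Spec (CommRingCat.of A), ⊤) Γ(N, V) := Module.compHom _
      ((X ↘ Spec (CommRingCat.of A)).appLE ⊤ V le_top).hom
    haveI : Module.Flat A Γ(Spec (CommRingCat.of A), ⊤) := Module.Flat.of_linearEquiv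
      (LinearEquiv.ofBijective (Algebra.linearMap A Γ(Spec (CommRingCat.of A), ⊤))
        (ConcreteCategory.bijective_of_isIso (Scheme.ΓSpecIso (CommRingCat.of A)).inv)).symm
    haveI : IsScalarTower A Γ(Spec (CommRingCat.of A), ⊤) Γ(N, V) :=
      IsScalarTower.of_algebraMap_smul fun a m =>
        (congrArg (· • m) (congrArg (fun φ => φ a) (FF71.rA_eq_appLE A X V))).symm
    haveI : Module.Flat Γ(Spec (CommRingCat.of A), ⊤) Γ(N, V) := h
    exact Module.Flat.trans A Γ(Spec (CommRingCat.of A), ⊤) _
  let u : Γ(M, V) →ₗ[A] Γ(N, V) :=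
    { toFun := φ.app V
      map_add' := map_add _
      map_smul' := fun a s => Scheme.Modules.Hom.app_smul φ (FF71.rA A X V a) s }
  obtain ⟨EM, hEM⟩ := Mum71.exists_sq_sections hsq M hV (V' := g ⁻¹ᵁ V) rfl
  obtain ⟨EN, hEN⟩ := Mum71.exists_sq_sections hsq N hV (V' := g ⁻¹ᵁ V) rfl
  have hB : Function.Injective (u.lTensor B) := fun z z' hz => by
    have key : ∀ w, EN (u.lTensor B w) =
        ((Scheme.Modules.pullback g).map φ).app (g ⁻¹ᵁ V) (EM w) := fun w => by
      induction w using TensorProduct.induction_on with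
      | zero => simp only [map_zero]
      | add a b ha hb => simp only [map_add, ha, hb]
      | tmul b s =>
        rw [LinearMap.lTensor_tmul, show b ⊗ₜ[A] u s = b • ((1 : B) ⊗ₜ[A] u s) by
            rw [TensorProduct.smul_tmul', smul_eq_mul, mul_one],
          show b ⊗ₜ[A] s = b • ((1 : B) ⊗ₜ[A] s) by rw [TensorProduct.smul_tmul', smul_eq_mul, mul_one],
          map_smul, map_smul, hEN, hEM]
        refine Eq.trans ?_ (Scheme.Modules.Hom.app_smul _ _ _).symm
        exact congrArg _ (E4O.Sep.unitSec_natural g φ _ s).symm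
    have h1 : ((Scheme.Modules.pullback g).map φ).app (g ⁻¹ᵁ V) (EM z) =
        ((Scheme.Modules.pullback g).map φ).app (g ⁻¹ᵁ V) (EM z') := by rw [← key, ← key, hz]
    exact EM.injective (app_injective_of_mono _ _ h1)
  have hk : Function.Injective (u.lTensor (A ⧸ m)) := fun z z' hz => by
    refine (TensorProduct.congr κ (LinearEquiv.refl A Γ(M, V))).injective (hB ?_)
    have key : ∀ w, u.lTensor B (TensorProduct.congr κ (LinearEquiv.refl A Γ(M, V)) w) =
        TensorProduct.congr κ (LinearEquiv.refl A Γ(N, V)) (u.lTensor (A ⧸ m) w) := fun w => by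
      induction w using TensorProduct.induction_on with
      | zero => simp only [map_zero]
      | add a b ha hb => simp only [map_add, ha, hb]
      | tmul b s => rfl
    rw [key, key, hz]
  let I : Ideal Γ(X, V) := m.map (FF71.rA A X V)
  have hI : ∀ r ∈ I, g.base x' ∉ X.basicOpen r := fun r hr => by
    have : I ≤ (hV.primeIdealOf ⟨g.base x', hxV⟩).asIdeal := Ideal.map_le_iff_le_comap.mpr fun a ha => by
      by_contra hc
      have h1 : x' ∈ g ⁻¹ᵁ X.basicOpen (FF71.rA A X V a) :=
        (QCSupp72.mem_basicOpen_iff_notMem hV hxV _).mpr hc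
      rw [Scheme.preimage_basicOpen] at h1
      have h2 : g.app V (FF71.rA A X V a) = 0 := by
        rw [Scheme.Hom.app_eq_appLE]
        refine (Mum71.sq_appLE_rA hsq hV (V' := g ⁻¹ᵁ V) rfl a).trans ?_
        rw [hm a ha, map_zero]
      rw [h2, Scheme.basicOpen_zero] at h1
      exact h1
    intro hx
    exact (QCSupp72.mem_basicOpen_iff_notMem hV hxV r).mp hx (this hr)
  refine (injective_iff_map_eq_zero (stalkLinear φ (g.base x'))).mpr fun e he => ?_
  obtain ⟨f, t, hf, hft⟩ := stalk_exists_smul (isLocAt_of_isQuasicoherent M hV) hV hxV e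
  have h0 : germM N V (g.base x') hxV (φ.app V t) = 0 := by
    rw [← stalkMapM_germ, ← hft]
    show stalkLinear φ (g.base x') (_ • e) = 0
    rw [map_smul, he, smul_zero]
  obtain ⟨f', hf', hf't⟩ := stalk_exists_smul_eq_zero (isLocAt_of_isQuasicoherent N hV) hV hxV _ h0
  have ht' : (f' • t : Γ(M, V)) ∈ (⨅ n : ℕ, I ^ n • ⊤ : Submodule Γ(X, V) Γ(M, V)) := by
    refine (Submodule.mem_iInf _).mpr fun n => ?_
    have hker : (f' • t : Γ(M, V)) ∈ LinearMap.ker u := by
      show φ.app V (f' • t) = 0
      rw [Scheme.Modules.Hom.app_smul, hf't]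
    refine Submodule.smul_induction_on (ker_le_pow_smul m u hk n hker) (fun a ha y _ => ?_)
      fun a b ha hb => add_mem ha hb
    show FF71.rA A X V a • y ∈ _
    refine Submodule.smul_mem_smul ?_ Submodule.mem_top
    rw [← Ideal.map_pow]
    exact Ideal.mem_map_of_mem _ ha
  obtain ⟨r, hr⟩ := (Ideal.mem_iInf_smul_pow_eq_bot_iff I _).mp ht'
  have hu : IsUnit (X.presheaf.germ V (g.base x') hxV (1 - (r : Γ(X, V)))) := by
    rw [map_sub, map_one]
    refine IsLocalRing.isUnit_one_sub_self_of_mem_nonunits _ ?_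
    exact fun hc => hI _ r.2 ((Scheme.mem_basicOpen X _ _ _).mpr hc)
  rw [← (isUnit_germ hf).smul_eq_zero, hft, ← (isUnit_germ hf').smul_eq_zero, ← germM_smul,
    ← hu.smul_eq_zero, ← germM_smul, sub_smul, one_smul, hr, sub_self, germM_zero]

end Local

end Groth.Agent.RB70
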