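import Groth.Agent.Coh69.Push
import Groth.Agent.GSS45.Composite
import Mathlib.Algebra.Homology.ShortComplex.Abelian
import Mathlib.Algebra.Homology.ShortComplex.PreservesHomology

/-! Direct image commutes with homology for complexes with acyclic terms and acyclic homology. -/

set_option autoImplicit false
set_option backward.isDefEq.respectTransparency.types false
set_option maxHeartbeats 1000000

universe u

noncomputable section

open CategoryTheory CategoryTheory.Limits TopologicalSpace Opposite

namespace Groth.Agent.RB70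

open Coh69

variable {X Y : TopCat.{u}} (g : X ⟶ Y) (B : Set (Opens Y))

/-- Higher cohomology vanishes over the preimages of the members of `B`. -/
def PushAcyclic (F : Sheaf (Opens.grothendieckTopology X) AddCommGrpCat.{u}) : Prop :=
  ∀ V ∈ B, ∀ q, Subsingleton (HE F (q + 1) ((Opens.map g).obj V))

variable {g B}

theorem PushAcyclic.of_injective (F : Sheaf (Opens.grothendieckTopology X) AddCommGrpCat.{u})
    [Injective F] : PushAcyclic g B F := fun _ _ q => he_subsingleton_of_injective F q _

theorem PushAcyclic.of_iso {F G : Sheaf (Opens.grothendieckTopology X) AddCommGrpCat.{u}} (e : F ≅ G)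
    (h : PushAcyclic g B F) : PushAcyclic g B G := fun V hV q =>
  haveI := h V hV q
  ⟨fun a b => by
    have key : ∀ z : HE G (q + 1) ((Opens.map g).obj V), z = 0 := fun z => by
      have h0 : z.comp (Abelian.Ext.mk₀ e.inv) (add_zero _) = 0 := Subsingleton.elim _ _
      calc z = (z.comp (Abelian.Ext.mk₀ e.inv) (add_zero _)).comp (Abelian.Ext.mk₀ e.hom) (add_zero _) := by
            simp
        _ = 0 := by rw [h0, Abelian.Ext.zero_comp]
    rw [key a, key b]⟩

variable {S : ShortComplex (Sheaf (Opens.grothendieckTopology X) AddCommGrpCat.{u})}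

theorem PushAcyclic.ext (hS : S.ShortExact) (h₁ : PushAcyclic g B S.X₁) (h₃ : PushAcyclic g B S.X₃) :
    PushAcyclic g B S.X₂ := fun V hV q =>
  haveI := h₁ V hV q
  haveI := h₃ V hV q
  ext_subsingleton_X₂ hS _ (q + 1)

theorem PushAcyclic.quot (hS : S.ShortExact) (h₁ : PushAcyclic g B S.X₁) (h₂ : PushAcyclic g B S.X₂) :
    PushAcyclic g B S.X₃ := fun V hV q =>
  haveI := h₂ V hV q
  haveI := h₁ V hV (q + 1)
  ext_subsingleton_X₃ hS _ (q + 1)

section

variable {C : Type*} [Category C] [Abelian C] {P Q R : C}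

/-- `image → target → cokernel` is short exact. -/
theorem shortExact_imageι (a : P ⟶ Q) (π : Q ⟶ R) (w : a ≫ π = 0)
    (hc : IsColimit (CokernelCofork.ofπ π w)) :
    ∃ w', (ShortComplex.mk (Abelian.image.ι a) π w').ShortExact := by
  have w' : Abelian.image.ι a ≫ π = 0 :=
    (cancel_epi (Abelian.factorThruImage a)).1 (by rw [← Category.assoc, Abelian.image.fac, w, comp_zero])
  haveI : Epi π := epi_of_isColimit_cofork hc
  haveI : Mono (ShortComplex.mk (Abelian.image.ι a) π w').f := inferInstanceAs (Mono (Abelian.image.ι a))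
  haveI : Epi (ShortComplex.mk (Abelian.image.ι a) π w').g := inferInstanceAs (Epi π)
  let φ : ShortComplex.mk a π w ⟶ ShortComplex.mk (Abelian.image.ι a) π w' :=
    ⟨Abelian.factorThruImage a, 𝟙 _, 𝟙 _, by simp, by simp⟩
  haveI : Epi φ.τ₁ := inferInstanceAs (Epi (Abelian.factorThruImage a))
  haveI : IsIso φ.τ₂ := inferInstanceAs (IsIso (𝟙 _))
  haveI : Mono φ.τ₃ := inferInstanceAs (Mono (𝟙 _))
  have he := (ShortComplex.exact_iff_of_epi_of_isIso_of_mono φ).mp (ShortComplex.exact_of_g_is_cokernel _ hc)
  exact ⟨w', { exact := he }⟩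

/-- `kernel → source → image` is short exact. -/
theorem shortExact_factorThruImage (i : P ⟶ Q) (a : Q ⟶ R) (w : i ≫ a = 0)
    (hk : IsLimit (KernelFork.ofι i w)) :
    ∃ w', (ShortComplex.mk i (Abelian.factorThruImage a) w').ShortExact := by
  have w' : i ≫ Abelian.factorThruImage a = 0 :=
    (cancel_mono (Abelian.image.ι a)).1 (by rw [Category.assoc, Abelian.image.fac, w, zero_comp])
  haveI : Mono i := mono_of_isLimit_fork hk
  haveI : Mono (ShortComplex.mk i (Abelian.factorThruImage a) w').f := inferInstanceAs (Mono i)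
  haveI : Epi (ShortComplex.mk i (Abelian.factorThruImage a) w').g :=
    inferInstanceAs (Epi (Abelian.factorThruImage a))
  let φ : ShortComplex.mk i (Abelian.factorThruImage a) w' ⟶ ShortComplex.mk i a w :=
    ⟨𝟙 _, 𝟙 _, Abelian.image.ι a, by simp, by simp⟩
  haveI : Epi φ.τ₁ := inferInstanceAs (Epi (𝟙 _))
  haveI : IsIso φ.τ₂ := inferInstanceAs (IsIso (𝟙 _))
  haveI : Mono φ.τ₃ := inferInstanceAs (Mono (Abelian.image.ι a))
  have he := (ShortComplex.exact_iff_of_epi_of_isIso_of_mono φ).mpr (ShortComplex.exact_of_f_is_kernel _ hk)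
  exact ⟨w', { exact := he }⟩

end

variable (g) in
/-- Direct image commutes with the homology of a complex with acyclic terms and homology. -/
theorem nonempty_homology_push_iso (hB : Opens.IsBasis B)
    (K : CochainComplex (Sheaf (Opens.grothendieckTopology X) AddCommGrpCat.{u}) ℕ)
    (hK : ∀ n, PushAcyclic g B (K.X n)) (hH : ∀ n, PushAcyclic g B (K.homology n)) (p : ℕ) :
    Nonempty ((((pushSh g).mapHomologicalComplex (ComplexShape.up ℕ)).obj K).homology p ≅
      (pushSh g).obj (K.homology p)) := by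
  haveI : PreservesLimitsOfSize.{0, 0} (pushSh g) :=
    (TopCat.Sheaf.pullbackPushforwardAdjunction AddCommGrpCat.{u} g).rightAdjoint_preservesLimits
  have w1 : ∀ n, K.iCycles n ≫ K.toCycles n (n + 1) = 0 := fun n => by
    rw [← cancel_mono (K.iCycles (n + 1)), Category.assoc, K.toCycles_i, K.iCycles_d, zero_comp]
  have hker : ∀ n, IsLimit (KernelFork.ofι (K.iCycles n) (w1 n)) := fun n =>
    isKernelOfComp (K.iCycles (n + 1)) _ (K.cyclesIsKernel n (n + 1) (CochainComplex.next ℕ n)) (w1 n)
      (K.toCycles_i n (n + 1))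
  have hZ : ∀ n, PushAcyclic g B (K.cycles n) ∧
      PushAcyclic g B (Abelian.image (K.toCycles n (n + 1))) := by
    intro n
    induction n with
    | zero =>
      have h0 : PushAcyclic g B (K.cycles 0) :=
        (hH 0).of_iso (K.isoHomologyπ 0 0 CochainComplex.prev_nat_zero (K.shape _ _ (by simp))).symm
      obtain ⟨_, hs⟩ := shortExact_factorThruImage _ _ (w1 0) (hker 0)
      exact ⟨h0, PushAcyclic.quot hs h0 (hK 0)⟩
    | succ n ih =>
      obtain ⟨_, hs⟩ := shortExact_imageι _ _ _
        (K.homologyIsCokernel n (n + 1) (CochainComplex.prev_nat_succ n))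
      have h1 : PushAcyclic g B (K.cycles (n + 1)) := PushAcyclic.ext hs ih.2 (hH (n + 1))
      obtain ⟨_, hs'⟩ := shortExact_factorThruImage _ _ (w1 (n + 1)) (hker (n + 1))
      exact ⟨h1, PushAcyclic.quot hs' h1 (hK (n + 1))⟩
  let L := ((pushSh g).mapHomologicalComplex (ComplexShape.up ℕ)).obj K
  have hk : ∀ n, IsLimit (KernelFork.ofι (f := L.d n (n + 1)) ((pushSh g).map (K.iCycles n))
      (by show (pushSh g).map (K.iCycles n) ≫ (pushSh g).map (K.d n (n + 1)) = 0
          rw [← Functor.map_comp, K.iCycles_d, Functor.map_zero])) := fun n =>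
    KernelFork.mapIsLimit _ (K.cyclesIsKernel n (n + 1) (CochainComplex.next ℕ n)) (pushSh g)
  cases p with
  | zero =>
    exact ⟨(L.isoHomologyπ 0 0 CochainComplex.prev_nat_zero (L.shape _ _ (by simp))).symm ≪≫
      (L.cyclesIsKernel 0 1 (CochainComplex.next ℕ 0)).conePointUniqueUpToIso (hk 0) ≪≫
      (pushSh g).mapIso (K.isoHomologyπ 0 0 CochainComplex.prev_nat_zero (K.shape _ _ (by simp)))⟩
  | succ n =>
    -- the class map after direct image
    obtain ⟨w₁, hs₁⟩ := shortExact_factorThruImage _ _ (w1 n) (hker n)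
    obtain ⟨w₂, hs₂⟩ := shortExact_imageι _ _ _
      (K.homologyIsCokernel n (n + 1) (CochainComplex.prev_nat_succ n))
    have e₁ := pushSh_shortExact g hs₁ B hB fun V hV => (hZ n).1 V hV 0
    have e₂ := pushSh_shortExact g hs₂ B hB fun V hV => (hZ n).2 V hV 0
    let S := L.sc' n (n + 1) (n + 1 + 1)
    have hlift : (hk (n + 1)).lift (KernelFork.ofι _ S.zero) = (pushSh g).map (K.toCycles n (n + 1)) :=
      Fork.IsLimit.hom_ext (hk (n + 1)) ((Fork.IsLimit.lift_ι (hk (n + 1))).trans
        ((congrArg ((pushSh g).map ·) (K.toCycles_i n (n + 1))).symm.trans ((pushSh g).map_comp _ _)))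
    let D : S.LeftHomologyData :=
      { K := (pushSh g).obj (K.cycles (n + 1))
        H := (pushSh g).obj (K.homology (n + 1))
        i := (pushSh g).map (K.iCycles (n + 1))
        π := (pushSh g).map (K.homologyπ (n + 1))
        wi := _
        hi := hk (n + 1)
        wπ := (congrArg (· ≫ _) hlift).trans (((pushSh g).map_comp _ _).symm.trans
          ((congrArg (pushSh g).map (K.toCycles_comp_homologyπ n (n + 1))).trans ((pushSh g).map_zero _ _)))
        hπ := @isCokernelEpiComp _ _ _ _ _ _ _ e₂.gIsCokernel _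
          ((pushSh g).map (Abelian.factorThruImage (K.toCycles n (n + 1)))) e₁.epi_g _
          (hlift.trans ((congrArg (pushSh g).map (Abelian.image.fac _).symm).trans ((pushSh g).map_comp _ _))) }
    exact ⟨(L.isoSc' n (n + 1) (n + 1 + 1) (CochainComplex.prev_nat_succ n) (CochainComplex.next ℕ (n + 1)) |>
      ShortComplex.homologyMapIso) ≪≫ D.homologyIso⟩

end Groth.Agent.RB70
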