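import Groth.Agent.Amp73.Criteria
import Groth.Agent.Crv77.PointTwist
import Groth.Agent.Crv77.FiniteSupp
import Groth.Agent.RB70.AcycPush
import Groth.Agent.RB70.ThickGen
import Groth.Agent.QC70.PushClosed
import Groth.Agent.S9514
import Groth.Agent.QCGroth72.PushColim

/-! Ampleness from the vanishing of first cohomology of twisted coherent ideals. -/

set_option autoImplicit false
set_option backward.isDefEq.respectTransparency.types false
set_option linter.style.haveILetI false
set_option maxHeartbeats 1000000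
set_option synthInstance.maxHeartbeats 200000

universe u

open CategoryTheory CategoryTheory.Limits AlgebraicGeometry Opposite TopologicalSpace

noncomputable section

namespace Groth.Agent.RB70

open Amp73 Var76.LineBundle Var76.ZeroScheme

variable {X : Scheme.{u}} {L : X.Modules}

/-- Serre's criterion: vanishing of `H¹` of twisted coherent ideals gives ampleness. -/
theorem isAmple_of_H1 [CompactSpace X] [QuasiSeparatedSpace X] [IsLocallyNoetherian X]
    (hL : PicF.IsInvertible L)
    (h : ∀ (J : X.Modules) (ι : J ⟶ Coh.structureModule X), Mono ι → Coh.IsCoh J →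
      ∃ n : ℕ, Subsingleton (Coh.HH X (CohB1.tensorMod J (CohB1.tensorPow L (n + 1))) 1)) :
    CohB1.IsAmple L := by
  refine isAmple_iff.2 ⟨hL, inferInstance, fun z => ?_⟩
  obtain ⟨x, hx, hzx⟩ := Crv77.exists_isClosed_specializes z
  obtain ⟨U, hU, hxU, -⟩ := exists_isAffineOpen_mem_and_subset (U := (⊤ : X.Opens)) (x := x) trivial
  obtain ⟨I, hIft, hIle, hI1⟩ := exists_ideal_nhd U hU.isCompact
  let P := Crv77.ptIdeal hx
  let φ₀ : ClSub.idealMod I ⟶ ClSub.quotMod P := ClSub.idealModι I ≫ ClSub.toSubscheme P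
  have hI : Coh.IsCoh (ClSub.idealMod I) := isCoh_idealMod hIft
  have hone : Coh.IsCoh (Coh.structureModule P.subscheme) :=
    CD47.isCoh_of_isFinLocFree fun y =>
      ((Mero90.isFinLocFreeOfRank_of_isInvertible (PicLoc.isInvertible_structureModule P.subscheme)) y).imp
        fun V hV => ⟨1, hV⟩
  have hquot : Coh.IsCoh (ClSub.quotMod P) := QC70.isCoh_pushforward P.subschemeι _ hone
  obtain ⟨hJ, -⟩ := S9514.result X hI hquot φ₀
  haveI : Mono (ClSub.idealModι I) := inferInstanceAs (Mono (kernel.ι _))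
  obtain ⟨n, hn⟩ := h (kernel φ₀) (kernel.ι φ₀ ≫ ClSub.idealModι I) (mono_comp _ _) hJ
  let M := CohB1.tensorPow L (n + 1)
  have hM : PicF.IsInvertible M := EGA73.isInvertible_tensorPow hL _
  obtain ⟨w, hs⟩ := shortExact_factorThruImage (kernel.ι φ₀) φ₀ (kernel.condition _) (kernelIsKernel _)
  let Q := Abelian.image φ₀
  have hQ : Coh.IsCoh Q := by
    haveI := hI.1
    haveI := hI.2
    haveI := hquot.1
    haveI : Q.IsQuasicoherent := QC70.isQuasicoherent_abelianImage φ₀
    exact ⟨‹_›, QC70.isFiniteType_of_epi (Abelian.factorThruImage φ₀)⟩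
  let π : CohB1.tensorMod (ClSub.idealMod I) M ⟶ CohB1.tensorMod Q M :=
    Crv77.twistMap (Abelian.factorThruImage φ₀) M
  have hsT : ((ShortComplex.mk (kernel.ι φ₀) (Abelian.factorThruImage φ₀) w).map (DCoh.tensorRightMod M)).ShortExact :=
    Crv77.shortExact_tR_of_locally_flat (O := X.sheaf) M
      (Crv77.locally_flat_of_rank_one (Mero90.isFinLocFreeOfRank_of_isInvertible hM)) hs
  have hsur : Function.Surjective (π.app ⊤) := by
    haveI : Subsingleton (Sheaf.H (Crv77.abComplex
        ((ShortComplex.mk (kernel.ι φ₀) (Abelian.factorThruImage φ₀) w).map (DCoh.tensorRightMod M))).X₁ 1) := hn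
    exact Hilb90F24.surjective_of_H1 (Crv77.abComplex_shortExact hsT) isTerminalTop
  have hsupp : Crv77.SuppIn (CohB1.tensorMod Q M) {x} := fun y hy => by
    refine QC70.notMem_support_iff.1 fun hy' => hy ?_
    haveI := hQ.1
    haveI := hQ.2
    haveI := Mero90.isQCoh_of_isInvertible hM
    haveI : M.IsQuasicoherent := ‹_›
    haveI := isFiniteType_of_isInvertible hM
    rw [QCTens72.support_tensorMod Q M] at hy'
    have h1 : y ∈ CohB1.support (ClSub.quotMod P) := QC70.mem_support_of_mono (Abelian.image.ι φ₀) hy'.1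
    have h2 : y ∈ Set.range P.subschemeι := by
      by_contra hr
      exact h1 (QCGroth72.subsingleton_stalk_pushforward P.subschemeι _ hr)
    rw [P.range_subschemeι, Crv77.ptIdeal_support hx] at h2
    exact h2
  obtain ⟨W, hxW, hWU, e, he⟩ := Mero90.exists_affine_frame hM x U hxU
  obtain ⟨m, hm⟩ := Curves2.exists_idealSect_of_mem I W (hI1 W hWU)
  obtain ⟨t', ht'⟩ := hsupp.surjective_res (Set.finite_singleton x) (fun y hy => hy ▸ hx) (le_top : W.1 ≤ ⊤)
    (π.app W.1 (tm (ClSub.idealMod I) M m e))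
  obtain ⟨t, ht⟩ := hsur t'
  -- the difference comes from the kernel
  have hd : π.app W.1 (res _ (le_top : W.1 ≤ ⊤) t - tm (ClSub.idealMod I) M m e) = 0 := by
    rw [map_sub, Mero90.app_res, ht]
    exact sub_eq_zero.2 ht'
  haveI : Mono ((ShortComplex.mk (kernel.ι φ₀) (Abelian.factorThruImage φ₀) w).map (DCoh.tensorRightMod M)).f :=
    hsT.mono_f
  obtain ⟨k, hk⟩ := QC70.exists_app_eq_of_exact _ hsT.exact W.1 _ hd
  obtain ⟨j, hj⟩ := exists_eq_tm_frame (L := kernel φ₀) he le_rfl k
  rw [Amp73.res_self] at hj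
  have hkt : tm (ClSub.idealMod I) M ((kernel.ι φ₀).app W.1 j) e =
      res _ (le_top : W.1 ≤ ⊤) t - tm (ClSub.idealMod I) M m e := by
    rw [← hk, ← hj]
    exact (Crv77.twist_map_tm (kernel.ι φ₀) M W.1 j e).symm
  have hres : res (CohB1.tensorMod (ClSub.idealMod I) M) (le_top : W.1 ≤ ⊤) t =
      tm (ClSub.idealMod I) M (m + (kernel.ι φ₀).app W.1 j) e := by
    rw [tm_add_left, hkt, add_sub_cancel]
  let c := OmegaSh.idealSect I W.1 (m + (kernel.ι φ₀).app W.1 j)
  have hc : P.subschemeι.app W.1 c = 1 := by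
    have h0 : P.subschemeι.app W.1 (OmegaSh.idealSect I W.1 ((kernel.ι φ₀).app W.1 j)) = 0 :=
      congr(Scheme.Modules.Hom.app $(kernel.condition φ₀) W.1 j)
    show P.subschemeι.app W.1 (OmegaSh.idealSect I W.1 (m + _)) = 1
    rw [map_add, hm, map_add, map_one, h0, add_zero]
  have hxc : x ∈ X.basicOpen c := by
    obtain ⟨y, hy⟩ : x ∈ Set.range P.subschemeι := by
      rw [P.range_subschemeι, Crv77.ptIdeal_support hx]; rfl
    have : y ∈ P.subschemeι ⁻¹ᵁ X.basicOpen c := by
      rw [Scheme.preimage_basicOpen, hc, Scheme.basicOpen_of_isUnit _ isUnit_one]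
      show P.subschemeι y ∈ W.1
      rw [hy]; exact hxW
    exact hy ▸ this
  let u := (idealPairing I M).lift.app ⊤ t
  have hu : res M (le_top : W.1 ≤ ⊤) u = c • e := by
    show res M (le_top : W.1 ≤ ⊤) ((idealPairing I M).lift.app ⊤ t) = c • e
    rw [← Mero90.app_res, hres]
    exact (idealPairing I M).lift_tmul W.1 _ e
  have hfr : IsFrame M (X.basicOpen c) (res M (le_top : X.basicOpen c ≤ ⊤) u) := by
    rw [← res_res M (le_top : W.1 ≤ ⊤) (X.basicOpen_le c), hu, res_smul,
      isFrame_smul_iff (he.res (X.basicOpen_le c))]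
    exact RingedSpace.isUnit_res_basicOpen _ c
  let σ := Var76.Frames.ofSection M u
  have hval : ∀ V, val M σ V = res M le_top u := fun V => Var76.Frames.val_ofSection _ _ V
  have hxG : x ∈ CohB1.genLocus M σ :=
    (isFrame_iff_le_genLocus σ _).1 (by rw [hval]; exact hfr) hxc
  have hle : CohB1.genLocus M σ ≤ U := by
    refine le_of_isFrame_lift hIle hM (res _ le_top t) ?_
    rw [Mero90.app_res, ← hval]
    exact isFrame_genLocus σ
  refine ⟨_, ⟨n, σ, rfl⟩, hzx.mem_open (CohB1.genLocus M σ).2 hxG, ?_⟩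
  rw [← inf_eq_left.2 hle]
  exact isAffineOpen_genLocus_inf hM σ hU

end Groth.Agent.RB70

end
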