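import Groth.Agent.RB70.ModPowTensor
import Groth.Agent.RB70.AffHom
import Groth.Agent.Mum71.BcSections

/-! `F ⊗_A B` as the push of the pull along the base change to `B`. -/

set_option autoImplicit false
set_option maxSynthPendingDepth 6
set_option synthInstance.maxHeartbeats 200000
set_option maxHeartbeats 1000000
set_option linter.style.haveILetI false
set_option backward.isDefEq.respectTransparency.types false

universe u

noncomputable section

open CategoryTheory CategoryTheory.Limits AlgebraicGeometry TopologicalSpace Opposite TensorProduct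

namespace Groth.Agent.RB70

open QC70 FF71 Mum71 QCPull72

variable {A : Type u} [CommRing A] {X : Scheme.{u}} [X.Over (Spec (CommRingCat.of A))]
  {B : Type u} [CommRing B] [Algebra A B] {X' : Scheme.{u}} [X'.Over (Spec (CommRingCat.of B))]
  {g : X' ⟶ X}
  (hsq : IsPullback g (X' ↘ Spec (CommRingCat.of B)) (X ↘ Spec (CommRingCat.of A))
    (Spec.map (CommRingCat.ofHom (algebraMap A B))))
  (F : X.Modules) [F.IsQuasicoherent]

/-- `A ⟶ B` as a map of `A`-modules. -/
abbrev algMap (A B : Type u) [CommRing A] [CommRing B] [Algebra A B] :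
    ModuleCat.of A A ⟶ ModuleCat.of A B := ModuleCat.ofHom (Algebra.linearMap A B)

include hsq in
theorem exists_iso_tA_push :
    ∃ e : tA F (ModuleCat.of A B) ≅ (Scheme.Modules.pushforward g).obj ((Scheme.Modules.pullback g).obj F),
      oneMap F ≫ (CohIII.tensorAFunctor A F).map (algMap A B) ≫ e.hom = pullUnit g F := by
  haveI := Mum71.isAffineHom_of_sq hsq
  choose E hE using fun V : X.affineOpens => exists_sq_sections hsq F V.2 (V' := g ⁻¹ᵁ V.1) rfl
  let N := (Scheme.Modules.pushforward g).obj ((Scheme.Modules.pullback g).obj F)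
  let T : ∀ V : X.affineOpens, Γ(F, V.1) ⊗[A] B ≃+ Γ(tA F (ModuleCat.of A B), V.1) := fun V =>
    AddEquiv.ofBijective _ (tMap_bijective V.2 F (ModuleCat.of A B))
  let ψ : ∀ V : X.affineOpens, Γ(tA F (ModuleCat.of A B), V.1) ≃+ Γ(N, V.1) := fun V =>
    (T V).symm.trans ((TensorProduct.comm A Γ(F, V.1) B).toAddEquiv.trans (E V).toAddEquiv)
  have hψ : ∀ V z, ψ V (T V z) = E V (TensorProduct.comm A Γ(F, V.1) B z) := fun V z => by
    show E V (TensorProduct.comm A Γ(F, V.1) B ((T V).symm (T V z))) = _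
    rw [AddEquiv.symm_apply_apply]
  have hval : ∀ (V : X.affineOpens) (x : Γ(F, V.1)) (b : B),
      ψ V (T V (x ⊗ₜ[A] b)) = (show Γ(N, V.1) from
        rA B X' (g ⁻¹ᵁ V.1) b • unitSec g F (U := V.1) (V := g ⁻¹ᵁ V.1) le_rfl x) := fun V x b => by
    rw [hψ, TensorProduct.comm_tmul,
      show b ⊗ₜ[A] x = b • ((1 : B) ⊗ₜ[A] x) by rw [TensorProduct.smul_tmul', smul_eq_mul, mul_one],
      map_smul, hE]
    rfl
  let l : ∀ V : X.affineOpens, Γ(tA F (ModuleCat.of A B), V.1) →ₗ[Γ(X, V.1)] Γ(N, V.1) := fun V =>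
    { toFun := ψ V
      map_add' := map_add _
      map_smul' := fun r z => by
        obtain ⟨w, rfl⟩ := (T V).surjective z
        induction w using TensorProduct.induction_on with
        | zero => rw [map_zero, smul_zero, map_zero, smul_zero]
        | add a b ha hb => rw [map_add, smul_add, map_add, ha, hb, map_add, smul_add]
        | tmul x b =>
          have h1 : r • T V (x ⊗ₜ[A] b) = T V ((r • x) ⊗ₜ[A] b) :=
            (tmul_smul_right F _ V.1 r _ x).symm
          rw [h1, hval, hval, RingHom.id_apply]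
          show _ = g.app V.1 r • (rA B X' (g ⁻¹ᵁ V.1) b • unitSec g F le_rfl x)
          rw [LimTop61.unitSec_smul, smul_comm, Scheme.Hom.app_eq_appLE] }
  have hl : AffCompat l := fun W V h s => by
    obtain ⟨w, rfl⟩ := (T V).surjective s
    induction w using TensorProduct.induction_on with
    | zero => rw [map_zero, res_zero, map_zero, map_zero, res_zero]
    | add a b ha hb => rw [map_add, res_add, map_add, ha, hb, map_add, res_add]
    | tmul x b =>
      show ψ W (res (tA F (ModuleCat.of A B)) h (T V (x ⊗ₜ[A] b))) =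
        res ((Scheme.Modules.pullback g).obj F) (g.preimage_mono h) (ψ V (T V (x ⊗ₜ[A] b)))
      rw [hval, show res (tA F (ModuleCat.of A B)) h (T V (x ⊗ₜ[A] b)) = T W (res F h x ⊗ₜ[A] b) from
        (tMap_res F (ModuleCat.of A B) h x b).symm, hval, res_smul, FF71.resO_rA]
      exact congrArg (rA B X' (g ⁻¹ᵁ W.1) b • ·) (LimTop61.unitSec_res g F _ _ _ _ x)
  haveI : ((tilde.functor (CommRingCat.of A)).obj (ModuleCat.of A B)).IsQuasicoherent :=
    inferInstanceAs (tilde (R := CommRingCat.of A) (ModuleCat.of A B)).IsQuasicoherent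
  haveI : (pullTilde (X := X) (ModuleCat.of A B)).IsQuasicoherent := isQuasicoherent_pullback _ _
  haveI : (tA F (ModuleCat.of A B)).IsQuasicoherent :=
    QCTens72.isQuasicoherent_tensorMod (pullTilde (ModuleCat.of A B)) F
  obtain ⟨φ, hφ⟩ := exists_hom_of_affine l hl
  haveI : IsIso φ := isIso_of_bijective_affines _ fun {V} hV => by
    rw [show ⇑(φ.app V) = ψ ⟨V, hV⟩ from funext fun s => hφ ⟨V, hV⟩ s]
    exact (ψ ⟨V, hV⟩).bijective
  refine ⟨asIso φ, hom_ext_affine fun V x => ?_⟩
  show φ.app V.1 (((CohIII.tensorAFunctor A F).map (algMap A B)).app V.1 ((oneMap F).app V.1 x)) = _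
  rw [oneMap_app, tMap_natural, hφ, LinearMap.lTensor_tmul]
  show ψ V (T V (x ⊗ₜ[A] algebraMap A B 1)) = _
  rw [hval, map_one, map_one, one_smul]
  exact QC70.res_self _

end Groth.Agent.RB70
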