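import Groth.Agent.RB70.GradedStab
import Groth.Agent.RB70.AcycPush
import Groth.Agent.RB70.AmpleVanish
import Groth.Agent.E4O.Separating
import Groth.Agent.QC70.Closure
import Groth.Agent.QC70.CohOps
import Groth.Agent.QC70.FiniteType

/-! Uniform vanishing for finitely generated graded systems of coherent modules. -/

set_option autoImplicit false
set_option backward.isDefEq.respectTransparency.types false
set_option linter.style.haveILetI false
set_option maxHeartbeats 1000000
set_option synthInstance.maxHeartbeats 200000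

universe u

open CategoryTheory CategoryTheory.Limits AlgebraicGeometry Opposite TopologicalSpace

noncomputable section

namespace Groth.Agent.RB70

open QC70

variable {X : Scheme.{u}} {ι : Type u} (U : ι → X.affineOpens)

/-- The raising maps jointly generate the next degree over each member of the cover. -/
def GenAt {r : ℕ} {M N : X.Modules} (T : Fin r → (M ⟶ N)) : Prop :=
  ∀ i, (⨆ j, LinearMap.range (E4O.Sep.appL (T j) (U i).1)) = ⊤

variable {U}

theorem isZero_of_genAt_zero (hU : ∀ p : X, ∃ i, p ∈ (U i).1) {M N : X.Modules} [N.IsQuasicoherent]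
    {T : Fin 0 → (M ⟶ N)} (h : GenAt U T) : IsZero N := by
  refine isZero_of_support_eq_empty (Set.eq_empty_iff_forall_notMem.mpr fun p hp => hp ?_)
  obtain ⟨i, hi⟩ := hU p
  have hz : ∀ t : Γ(N, (U i).1), t = 0 := fun t => by
    have ht : t ∈ (⊤ : Submodule Γ(X, (U i).1) Γ(N, (U i).1)) := trivial
    rwa [← h i, iSup_of_empty, Submodule.mem_bot] at ht
  refine subsingleton_of_forall_eq 0 fun e => ?_
  obtain ⟨f, t, hf, hft⟩ := stalk_exists_smul (isLocAt_of_isQuasicoherent N (U i).2) (U i).2 hi e
  rw [← (isUnit_germ hf).smul_eq_zero, hft, hz t, germM_zero]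

theorem genAt_coker {r : ℕ} {M N M' N' : X.Modules} [N'.IsQuasicoherent] [N.IsQuasicoherent]
    [M.IsQuasicoherent] [M'.IsQuasicoherent]
    (S : M ⟶ N) (S' : M' ⟶ N') (T : Fin (r + 1) → (N ⟶ N')) (T' : Fin r → (M ⟶ M'))
    (hS' : T (Fin.last r) ≫ cokernel.π S' = 0)
    (hT : ∀ j : Fin r, S ≫ T j.castSucc = T' j ≫ S') (h : GenAt U T) :
    GenAt U fun j : Fin r => cokernel.map S S' (T' j) (T j.castSucc) (hT j) := by
  intro i
  haveI : (cokernel S').IsQuasicoherent := isQuasicoherent_cokernel S'
  haveI : (Abelian.image S').IsQuasicoherent := isQuasicoherent_abelianImage S'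
  obtain ⟨w, hs⟩ := shortExact_imageι S' (cokernel.π S') (cokernel.condition S') (cokernelIsCokernel S')
  have hsur := app_surjective_of_isAffineOpen _ hs (U := (U i).1) (U i).2
  refine eq_top_iff.mpr fun c _ => ?_
  obtain ⟨n, rfl⟩ := hsur c
  have hn : n ∈ ⨆ j, LinearMap.range (E4O.Sep.appL (T j) (U i).1) := by rw [h i]; trivial
  show (E4O.Sep.appL (cokernel.π S') (U i).1) n ∈ _
  induction hn using Submodule.iSup_induction' with
  | mem j x hx =>
    obtain ⟨y, rfl⟩ := hx
    induction j using Fin.lastCases with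
    | last =>
      have := congr(Scheme.Modules.Hom.app $hS' (U i).1 y)
      show (cokernel.π S').app (U i).1 ((T (Fin.last r)).app (U i).1 y) ∈ _
      rw [show (cokernel.π S').app (U i).1 ((T (Fin.last r)).app (U i).1 y) = 0 from this]
      exact zero_mem _
    | cast j =>
      refine Submodule.mem_iSup_of_mem j ⟨(cokernel.π S).app (U i).1 y, ?_⟩
      exact congr(Scheme.Modules.Hom.app $(cokernel.π_desc S (T j.castSucc ≫ cokernel.π S') _) (U i).1 y)
  | zero => rw [map_zero]; exact zero_mem _
  | add a b _ _ ia ib => rw [map_add]; exact add_mem (ia trivial) (ib trivial)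

section Kernel

variable [IsLocallyNoetherian X] [Finite ι] {r : ℕ} {K : ℕ → X.Modules}

/-- The kernels of the last operator again form a finitely generated system. -/
theorem exists_genAt_kernel (hK : ∀ k, Coh.IsCoh (K k)) (T : Fin (r + 1) → ∀ k, K k ⟶ K (k + 1))
    (hT : ∀ i j k, T i k ≫ T j (k + 1) = T j k ≫ T i (k + 1)) {d : ℕ}
    (hgen : ∀ k, d ≤ k → GenAt U fun j => T j k) :
    ∃ d', ∀ k, d' ≤ k → GenAt U fun j : Fin r =>
      kernel.map (T (Fin.last r) k) (T (Fin.last r) (k + 1)) (T j.castSucc k) (T j.castSucc (k + 1))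
        (hT (Fin.last r) j.castSucc k) := by
  classical
  let z := Fin.last r
  have key : ∀ i, ∃ d', ∀ k, max d d' ≤ k →
      (⨆ j : Fin r, LinearMap.range (E4O.Sep.appL
        (kernel.map (T z k) (T z (k + 1)) (T j.castSucc k) (T j.castSucc (k + 1)) (hT z j.castSucc k)) (U i).1)) = ⊤ := by
    intro i
    let R := Γ(X, (U i).1)
    haveI : IsNoetherianRing R := IsLocallyNoetherian.component_noetherian (U i)
    haveI : ∀ k, Module.Finite R Γ(K k, (U i).1) := fun k =>
      haveI := (hK k).1
      haveI := (hK k).2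
      QC70.finite_sections_of_isFiniteType (K k) (U i).2
    obtain ⟨d', hd'⟩ := exists_gen_bound (R := R) (M := fun k => Γ(K k, (U i).1))
      (fun j k => E4O.Sep.appL (T j k) (U i).1)
      (fun a b k x => congr(Scheme.Modules.Hom.app $(hT b a k) (U i).1 x)) (d := d) (fun k hk => hgen k hk i)
      (fun k => LinearMap.ker (E4O.Sep.appL (T z k) (U i).1))
      (fun j k x hx => by
        show (T z (k + 1)).app (U i).1 ((T j k).app (U i).1 x) = 0
        rw [show (T z (k + 1)).app (U i).1 ((T j k).app (U i).1 x) =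
          (T j (k + 1)).app (U i).1 ((T z k).app (U i).1 x) from congr(Scheme.Modules.Hom.app $(hT j z k) (U i).1 x),
          show (T z k).app (U i).1 x = 0 from hx, map_zero])
    refine ⟨d', fun k hk => eq_top_iff.mpr fun c _ => ?_⟩
    have hzero : ∀ (l : ℕ) (y : Γ(kernel (T z l), (U i).1)),
        (T z l).app (U i).1 ((kernel.ι (T z l)).app (U i).1 y) = 0 := fun l y =>
      congr(Scheme.Modules.Hom.app $(kernel.condition (T z l)) (U i).1 y)
    have hc := hd' k (le_trans (le_max_right _ _) hk)
      (show (kernel.ι (T z (k + 1))).app (U i).1 c ∈ LinearMap.ker (E4O.Sep.appL (T z (k + 1)) (U i).1) from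
        hzero (k + 1) c)
    haveI : Mono (ShortComplex.mk (kernel.ι (T z k)) (T z k) (kernel.condition _)).f :=
      inferInstanceAs (Mono (kernel.ι _))
    let G : Fin r → (kernel (T z k) ⟶ kernel (T z (k + 1))) := fun j =>
      kernel.map (T z k) (T z (k + 1)) (T j.castSucc k) (T j.castSucc (k + 1)) (hT z j.castSucc k)
    have hle : (⨆ j, (LinearMap.ker (E4O.Sep.appL (T z k) (U i).1)).map (E4O.Sep.appL (T j k) (U i).1)) ≤
        (⨆ j : Fin r, LinearMap.range (E4O.Sep.appL (G j) (U i).1)).map
          (E4O.Sep.appL (kernel.ι (T z (k + 1))) (U i).1) := by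
      refine iSup_le fun j => ?_
      rintro _ ⟨y, hy, rfl⟩
      obtain ⟨y, rfl⟩ := exists_app_eq_of_exact _
        (ShortComplex.exact_of_f_is_kernel (ShortComplex.mk (kernel.ι (T z k)) (T z k) (kernel.condition _))
          (kernelIsKernel _)) (U i).1 y hy
      induction j using Fin.lastCases with
      | last =>
        rw [show (E4O.Sep.appL (T (Fin.last r) k) (U i).1) ((kernel.ι (T z k)).app (U i).1 y) = 0 from hzero k y]
        exact zero_mem _
      | cast j =>
        refine ⟨(G j).app (U i).1 y, Submodule.mem_iSup_of_mem j ⟨y, rfl⟩, ?_⟩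
        exact congr(Scheme.Modules.Hom.app $(kernel.lift_ι (T z (k + 1)) (kernel.ι _ ≫ T j.castSucc k) _) (U i).1 y)
    obtain ⟨c', hc', e⟩ := hle hc
    rwa [app_injective_of_mono (kernel.ι (T z (k + 1))) (U i).1 e] at hc'
  choose d' hd' using key
  haveI := Fintype.ofFinite ι
  exact ⟨max d (Finset.univ.sup d'), fun k hk i => hd' i k
    (max_le (le_of_max_le_left hk) ((Finset.le_sup (Finset.mem_univ i)).trans (le_of_max_le_right hk)))⟩

end Kernel

/-- Uniform vanishing for a finitely generated graded system. -/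
theorem exists_vanishing_graded {A : Type u} [CommRing A] [IsNoetherianRing A]
    (f : X ⟶ Spec (CommRingCat.of A)) [IsProper f] {L : X.Modules} (hL : CohB1.IsAmple L) [Finite ι]
    (hU : ∀ p : X, ∃ i, p ∈ (U i).1) :
    ∀ (r : ℕ) (K : ℕ → X.Modules) (_ : ∀ k, Coh.IsCoh (K k)) (T : Fin r → ∀ k, K k ⟶ K (k + 1))
      (_ : ∀ i j k, T i k ≫ T j (k + 1) = T j k ≫ T i (k + 1)) (d : ℕ)
      (_ : ∀ k, d ≤ k → GenAt U fun j => T j k),
      ∃ n₀ : ℕ, ∀ n, n₀ ≤ n → ∀ k q : ℕ, 1 ≤ q →
        Subsingleton (Coh.HH X (CohB1.tensorMod (K k) (CohB1.tensorPow L n)) q) := by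
  haveI : IsLocallyNoetherian X := LocallyOfFiniteType.isLocallyNoetherian f
  have hinv : ∀ n, PicF.IsInvertible (CohB1.tensorPow L n) := fun n => EGA73.isInvertible_tensorPow hL.1 n
  intro r
  induction r with
  | zero =>
    intro K hK T _ d hgen
    choose n₁ hn₁ using fun k => exists_vanishing_ample f hL (K k) (hK k)
    refine ⟨(Finset.range (d + 1)).sup n₁, fun n hn k q hq => ?_⟩
    by_cases hk : k ≤ d
    · exact hn₁ k n ((Finset.le_sup (Finset.mem_range.mpr (by omega))).trans hn) q hq
    · obtain ⟨l, rfl⟩ : ∃ l, k = l + 1 := ⟨k - 1, by omega⟩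
      haveI := (hK (l + 1)).1
      exact ValVan29.subsingleton_hh_of_isZero
        (ValVan29.isZero_tensorMod (isZero_of_genAt_zero hU (hgen l (by omega))) (hinv n)) q
  | succ r ih =>
    intro K hK T hT d hgen
    haveI : ∀ k, (K k).IsQuasicoherent := fun k => (hK k).1
    obtain ⟨d', hd'⟩ := exists_genAt_kernel (U := U) hK T hT hgen
    obtain ⟨a, ha⟩ := ih (fun k => kernel (T (Fin.last r) k)) (fun k => (S9514.result X (hK k) (hK (k + 1)) _).1)
      (fun j k => kernel.map (T (Fin.last r) k) (T (Fin.last r) (k + 1)) (T j.castSucc k) (T j.castSucc (k + 1))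
        (hT (Fin.last r) j.castSucc k))
      (fun i j k => by
        refine (cancel_mono (kernel.ι (T (Fin.last r) (k + 1 + 1)))).mp ?_
        simp [hT i.castSucc j.castSucc k]) d' hd'
    obtain ⟨b, hb⟩ := ih (fun k => cokernel (T (Fin.last r) k)) (fun k => (S9514.result X (hK k) (hK (k + 1)) _).2)
      (fun j k => cokernel.map (T (Fin.last r) k) (T (Fin.last r) (k + 1)) (T j.castSucc k) (T j.castSucc (k + 1))
        (hT (Fin.last r) j.castSucc k))
      (fun i j k => by
        refine (cancel_epi (cokernel.π (T (Fin.last r) k))).mp ?_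
        simp [reassoc_of% (hT i.castSucc j.castSucc (k + 1))]) d
      (fun k hk => genAt_coker (T (Fin.last r) k) (T (Fin.last r) (k + 1)) (fun j => T j (k + 1))
        (fun j => T j.castSucc k) (cokernel.condition _) (fun j => hT (Fin.last r) j.castSucc k)
        (hgen (k + 1) (by omega)))
    obtain ⟨c, hc⟩ := exists_vanishing_ample f hL (K 0) (hK 0)
    refine ⟨max a (max b c), fun n hn k => ?_⟩
    have hfl := Mero90.isFinLocFreeOfRank_of_isInvertible (hinv n)
    induction k with
    | zero => exact fun q hq => hc n (by omega) q hq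
    | succ k ihk =>
      intro q hq
      obtain ⟨w₁, hs₁⟩ := shortExact_factorThruImage (kernel.ι (T (Fin.last r) k)) (T (Fin.last r) k)
        (kernel.condition _) (kernelIsKernel _)
      obtain ⟨w₂, hs₂⟩ := shortExact_imageι (T (Fin.last r) k) (cokernel.π (T (Fin.last r) k))
        (cokernel.condition _) (cokernelIsCokernel _)
      obtain ⟨T₁, hT₁, e₁, e₂, e₃⟩ := Crv77.shortExact_twist hfl hs₁
      obtain ⟨T₂, hT₂, e₁', e₂', e₃'⟩ := Crv77.shortExact_twist hfl hs₂
      have him : Subsingleton (Coh.HH X T₁.X₃ q) := ValVan29.subsingleton_hh_X₃ hT₁ q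
        (e₂ ▸ ihk q hq) (e₁ ▸ ha n (by omega) k (q + 1) (by omega))
      rw [← e₂']
      refine ValVan29.subsingleton_hh_X₂ hT₂ q ?_ (e₃' ▸ hb n (by omega) k q hq)
      rw [e₁']
      rwa [e₃] at him

end Groth.Agent.RB70

end
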