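import Groth.Agent.Cyc90.Dev.BundleUniv
import Groth.Agent.Cyc90.Dev.ProjFree
import Groth.Agent.Coh69.RelVanish
import Groth.Agent.Coh69.OpenSub
import Groth.Agent.Pn71.Cohomology
import Groth.Agent.Div89.NormalSheaf
import Groth.Agent.ValVan29.Vanish

/-! Local triviality of projective bundles and vanishing of their twists. -/

set_option autoImplicit false
set_option backward.isDefEq.respectTransparency.types false
set_option linter.style.haveILetI false
set_option maxHeartbeats 1000000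
set_option synthInstance.maxHeartbeats 200000

universe u

open CategoryTheory CategoryTheory.Limits AlgebraicGeometry Opposite TopologicalSpace

noncomputable section

namespace Groth.Agent.RB70

variable {Y P : Scheme.{u}} {π : P ⟶ Y} {E : Y.Modules} {O1 : P.Modules}
  {q : (Scheme.Modules.pullback π).obj E ⟶ O1}

/-- Over small affine opens a projective bundle is a projective space with its `O(1)`. -/
theorem exists_bundle_chart {r : ℕ} (hE : FlatMod.IsFinLocFreeOfRank (r + 1) E)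
    (hP : KRR.IsProjBundle π E O1 q) {W : Y.Opens} {y : Y} (hy : y ∈ W) :
    ∃ (V : Y.Opens) (_ : IsAffineOpen V), y ∈ V ∧ V ≤ W ∧
      ∃ j : CohB1.ProjSpace r Γ(Y, V) ⟶ P, ∃ (_ : IsOpenImmersion j), j ''ᵁ ⊤ = π ⁻¹ᵁ V ∧
        Nonempty ((Scheme.Modules.pullback j).obj O1 ≅ Twist.twistProjSpace r Γ(Y, V) 1) := by
  have hq : Coh.IsQCoh E := Props58.LocFree.isQuasicoherent_of_isFinLocFree fun x => by
    obtain ⟨U, hx, h⟩ := hE x
    exact ⟨U, r + 1, hx, h⟩
  obtain ⟨𝒮, jS, hjS, P₀, p₀, chart, hP₀, O₀, lam, hO₀⟩ := EGAProj74.exists_projBundle hq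
  obtain ⟨φ, hφ⟩ := EGAProj74.exists_canonical hq hjS hO₀ hP₀
  have hinv₀ : PicF.IsInvertible O₀ :=
    EGAProj74.isInvertible_of_isGenDegOne hO₀ (EGAProj74.isGenDegOne_grSym hq hjS)
  have hG₀ : Grass.IsGrass p₀ E 1 O₀
      (((Scheme.Modules.pullbackPushforwardAdjunction p₀).homEquiv E O₀).symm φ) :=
    { rank := Mero90.isFinLocFreeOfRank_of_isInvertible hinv₀
      epi := EGAProj74.epi_canonical hq hjS hO₀ hφ
      univ := fun T g L hL s hs => by
        haveI := hs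
        have h := EGAProj74.existsUnique_of_epi hq hjS hP₀ hO₀ hφ g L (Cyc90.Dev.isInvertible_of_rank_one hL) s
        simpa only [Grass.quotBC, Category.assoc] using h }
  obtain ⟨e, he, hcomp, ⟨τ⟩⟩ := Cyc90.Dev.exists_iso_of_isGrass (Grass.IsGrass.of_isProjBundle hP) hG₀
  haveI := he
  obtain ⟨U, hyU, ⟨iU⟩⟩ := hE y
  obtain ⟨V, hV, hyV, hVle⟩ := exists_isAffineOpen_mem_and_subset (U := U ⊓ W) (x := y) ⟨hyU, hy⟩
  refine ⟨V, hV, hyV, fun z hz => (hVle hz).2, ?_⟩
  let ψ := hV.fromSpec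
  haveI : E.IsQuasicoherent := hq
  have hq' : Coh.IsQCoh ((Scheme.Modules.pullback ψ).obj E) := QCPull72.isQuasicoherent_pullback ψ E
  obtain ⟨𝒮', j', hj', P', p', chart', hP', O1', lam', hO1'⟩ := EGAProj74.exists_projBundle hq'
  obtain ⟨g, hsq, ⟨σ⟩⟩ :=
    EGAProj74.exists_baseChange hq hjS hP₀ hO₀ hφ ψ 𝒮' j' hj' p' chart' hP' O1' lam' hO1'
  let iW : ((Scheme.Modules.pullback ψ).obj E).restrict (ψ ⁻¹ᵁ U).ι ≅ FlatMod.freeMod ((ψ ⁻¹ᵁ U : _) : Scheme.{u}) (r + 1) :=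
    ((Amp73.pullRestrictIso ψ U).app E).symm ≪≫
      (Scheme.Modules.pullback (ψ ∣_ U)).mapIso
        (((Scheme.Modules.restrictFunctorIsoPullback U.ι).app E).symm ≪≫ iU) ≪≫
      FrB.pullbackFreeIso (ψ ∣_ U) (r + 1)
  have htop : ⊤ ≤ ψ ⁻¹ᵁ U := fun x _ => by
    have : ψ x ∈ (V : Set Y) := hV.range_fromSpec ▸ Set.mem_range_self x
    exact (hVle this).1
  obtain ⟨d, hd, hdp, ⟨ρ⟩⟩ := Cyc90.Dev.exists_iso_projSpace_of_free hq' r htop iW hj' hP' hO1'
  haveI := hd
  haveI : IsOpenImmersion g := MorphismProperty.of_isPullback (P := @IsOpenImmersion) hsq.flip inferInstance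
  refine ⟨d ≫ g ≫ inv e, inferInstance, ?_, ⟨?_⟩⟩
  · have h1 : g ''ᵁ ⊤ = p₀ ⁻¹ᵁ V := by
      have h := IsOpenImmersion.image_preimage_eq_preimage_image_of_isPullback hsq.flip ⊤
      rw [Scheme.Hom.image_top_eq_opensRange ψ, hV.opensRange_fromSpec] at h
      exact h
    have h2 : d ''ᵁ ⊤ = ⊤ := by rw [Scheme.Hom.image_top_eq_opensRange, Scheme.Hom.opensRange_of_isIso]
    rw [Scheme.Hom.comp_image, Scheme.Hom.comp_image, h2, h1, ← hcomp, Scheme.Hom.comp_preimage]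
    refine Opens.ext (Set.ext fun x => ⟨?_, fun hx => ?_⟩)
    · rintro ⟨z, hz, rfl⟩
      show e (inv e z) ∈ p₀ ⁻¹ᵁ V
      rw [← Scheme.Hom.comp_apply, IsIso.inv_hom_id]
      exact hz
    · refine ⟨e x, hx, ?_⟩
      exact (Scheme.Hom.comp_apply e (inv e) x).symm.trans (by rw [IsIso.hom_inv_id]; rfl)
  · exact ((Scheme.Modules.pullbackComp d (g ≫ inv e)).app O1).symm ≪≫
      (Scheme.Modules.pullback d).mapIso (((Scheme.Modules.pullbackComp g (inv e)).app O1).symm ≪≫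
        (Scheme.Modules.pullback g).mapIso ((Scheme.Modules.pullback (inv e)).mapIso τ.symm ≪≫
          (Scheme.Modules.pullbackComp (inv e) e).app _ ≪≫
          (Scheme.Modules.pullbackCongr (IsIso.inv_hom_id e)).app _ ≪≫
          (Scheme.Modules.pullbackId _).app _) ≪≫ σ) ≪≫ ρ

/-- Twists of a projective bundle have no higher direct images outside the classical degrees. -/
theorem isZero_rpush_bundle {r : ℕ} (hE : FlatMod.IsFinLocFreeOfRank (r + 1) E)
    (hP : KRR.IsProjBundle π E O1 q) (M : P.Modules) (d : ℤ) (i : ℕ)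
    (hM : ∀ (A : Type u) [CommRing A] (j : CohB1.ProjSpace r A ⟶ P),
      Nonempty ((Scheme.Modules.pullback j).obj O1 ≅ Twist.twistProjSpace r A 1) →
      Nonempty ((Scheme.Modules.pullback j).obj M ≅ Twist.twistProjSpace r A d))
    (h : ¬ ((i = 0 ∧ 0 ≤ d) ∨ (i = r ∧ d ≤ -((r : ℤ) + 1)))) :
    IsZero ((Coh.RpushAb π i).obj (Coh.toAb M)) :=
  Coh69.isZero_RpushAb_of_subsingleton _ _ _ fun U y hy => by
    obtain ⟨V, _, hyV, hVU, j, hj, hrange, ht⟩ := exists_bundle_chart hE hP hy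
    haveI := hj
    refine ⟨V, hVU, hyV, ?_⟩
    obtain ⟨t⟩ := hM _ j ht
    have hs : Subsingleton (Coh.HH (CohB1.ProjSpace r Γ(Y, V)) (M.restrict j) i) :=
      ValVan29.subsingleton_hh_of_iso (((Scheme.Modules.restrictFunctorIsoPullback j).app M) ≪≫ t).symm i
        (Pn71.subsingleton_hh (A := Γ(Y, V)) r d i (fun h' => h (Or.inl h')) (fun h' => h (Or.inr h')))
    obtain ⟨e⟩ := Coh69.restr_nonempty_equiv j.isOpenEmbedding (Coh.toAb M) i (⊤ : (CohB1.ProjSpace r Γ(Y, V)).Opens)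
    have hU : j.isOpenEmbedding.functor.obj ⊤ = π ⁻¹ᵁ V := hrange
    rw [hU] at e
    exact (e.trans (Coh69.hhEquiv (M.restrict j) i).symm).toEquiv.subsingleton

end Groth.Agent.RB70

end
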