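import Groth.Agent.RB70.AmpleLift
import Groth.Agent.QC70.Comap
import Groth.Agent.Approx60.Chevalley
import Groth.Agent.FlatMor68.ThickeningFT
import Groth.Agent.Mum71.TensorSec

/-! Ampleness descends along a finite surjective morphism which is an isomorphism outside a closed subset
proper over the base. -/

set_option autoImplicit false
set_option backward.isDefEq.respectTransparency.types false
set_option linter.style.haveILetI false
set_option maxHeartbeats 1000000
set_option synthInstance.maxHeartbeats 200000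

universe u

open CategoryTheory CategoryTheory.Limits AlgebraicGeometry Opposite TopologicalSpace

noncomputable section

namespace Groth.Agent.RB70.FinSurj

open Amp73 Var76.LineBundle Var76.ZeroScheme

variable {X Xt : Scheme.{u}}

theorem pullS_congr {f f' : Xt ⟶ X} (w : f = f') (M : X.Modules) (U : X.Opens) (m : Γ(M, U))
    (hle : f ⁻¹ᵁ U ≤ f' ⁻¹ᵁ U) :
    ((Scheme.Modules.pullbackCongr w).hom.app M).app (f ⁻¹ᵁ U) (pullS f M U m) =
      res ((Scheme.Modules.pullback f').obj M) hle (pullS f' M U m) := by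
  subst w
  rw [Amp73.res_self]
  simp [Scheme.Modules.pullbackCongr]

/-- The two ways round a commutative square agree on inverse images of sections. -/
theorem exists_comm_iso {P Q R : Scheme.{u}} (a : P ⟶ Q) (b : Q ⟶ X) (c : P ⟶ R) (d : R ⟶ X)
    (w : a ≫ b = c ≫ d) (M : X.Modules) :
    ∃ θ : (Scheme.Modules.pullback a).obj ((Scheme.Modules.pullback b).obj M) ≅
        (Scheme.Modules.pullback c).obj ((Scheme.Modules.pullback d).obj M),
      ∀ (U : X.Opens) (m : Γ(M, U)) (hle : a ⁻¹ᵁ (b ⁻¹ᵁ U) ≤ c ⁻¹ᵁ (d ⁻¹ᵁ U)),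
        θ.hom.app (a ⁻¹ᵁ (b ⁻¹ᵁ U)) (pullS a _ (b ⁻¹ᵁ U) (pullS b M U m)) =
          res _ hle (pullS c _ (d ⁻¹ᵁ U) (pullS d M U m)) := by
  refine ⟨(Scheme.Modules.pullbackComp a b).app M ≪≫ (Scheme.Modules.pullbackCongr w).app M ≪≫
    ((Scheme.Modules.pullbackComp c d).app M).symm, fun U m hle => ?_⟩
  show ((Scheme.Modules.pullbackComp c d).inv.app M).app _
    (((Scheme.Modules.pullbackCongr w).hom.app M).app _
      (((Scheme.Modules.pullbackComp a b).hom.app M).app _
        (pullS a _ (b ⁻¹ᵁ U) (pullS b M U m)))) = _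
  have h1 : ((Scheme.Modules.pullbackComp a b).hom.app M).app ((a ≫ b) ⁻¹ᵁ U)
      (pullS a _ (b ⁻¹ᵁ U) (pullS b M U m)) = pullS (a ≫ b) M U m := by
    rw [← Props58.PullTensor.pullS_comp a b M U m]
    exact congr(Scheme.Modules.Hom.app $((Scheme.Modules.pullbackComp a b).inv_hom_id_app M) _ _)
  refine (congrArg (fun z => ((Scheme.Modules.pullbackComp c d).inv.app M).app _
    (((Scheme.Modules.pullbackCongr w).hom.app M).app _ z)) h1).trans ?_
  refine (congrArg (((Scheme.Modules.pullbackComp c d).inv.app M).app _) (pullS_congr w M U m hle)).trans ?_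
  refine (Mero90.app_res ((Scheme.Modules.pullbackComp c d).inv.app M) hle _).trans ?_
  exact congrArg (res _ hle) (Props58.PullTensor.pullS_comp c d M U m)

theorem app_injective (h : Xt ⟶ X) [Surjective h] [IsReduced X] (U : X.Opens) :
    Function.Injective (h.app U) := by
  refine (injective_iff_map_eq_zero (h.app U).hom).2 fun a ha => ?_
  rw [← basicOpen_eq_bot_iff, eq_bot_iff]
  intro x hx
  obtain ⟨z, rfl⟩ := h.surjective x
  have h1 : z ∈ Xt.basicOpen (h.app U a) := (h.preimage_basicOpen a).le hx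
  rw [ha, Scheme.basicOpen_zero] at h1
  exact h1

theorem pullS_injective (h : Xt ⟶ X) [Surjective h] [IsReduced X] {M : X.Modules} (hM : PicF.IsInvertible M)
    (O : X.Opens) : Function.Injective (pullS h M O) := by
  intro m m' hmm
  refine eq_of_locally M _ _ fun y hy => ?_
  obtain ⟨W, hyW, hWO, e, he⟩ := Mero90.exists_affine_frame hM y O hy
  refine ⟨W.1, hWO, hyW, ?_⟩
  obtain ⟨a, ha⟩ := (he W.1 le_rfl).2 (res M hWO m)
  obtain ⟨b, hb⟩ := (he W.1 le_rfl).2 (res M hWO m')
  dsimp only at ha hb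
  rw [Amp73.res_self] at ha hb
  have h1 := congrArg (res _ (h.preimage_mono hWO)) hmm
  rw [res_pullS h M hWO, res_pullS h M hWO, ← ha, ← hb, pullS_smul, pullS_smul] at h1
  have h2 : h.app W.1 a = h.app W.1 b :=
    ((Amp73.isFrame_pullS h hM he) _ le_rfl).1 (by
      dsimp only
      rw [Amp73.res_self]; exact h1)
  rw [← ha, ← hb, app_injective h W.1 h2]

/-- A section of the inverse image with coordinates descending in local frames descends. -/
theorem exists_descend (h : Xt ⟶ X) [Surjective h] [IsReduced X] {M : X.Modules} (hM : PicF.IsInvertible M)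
    (t : Coh.structureModule Xt ⟶ (Scheme.Modules.pullback h).obj M)
    (hloc : ∀ x : X, ∃ (V : X.Opens) (_ : x ∈ V) (ε : Γ(M, V)) (a : Γ(X, V)),
      IsFrame M V ε ∧ h.app V a • pullS h M V ε = val _ t (h ⁻¹ᵁ V)) :
    ∃ s : Coh.structureModule X ⟶ M, h ⁻¹ᵁ CohB1.genLocus M s = CohB1.genLocus _ t := by
  choose V hxV ε a hε hval using hloc
  let σ : ∀ x, Γ(M, V x) := fun x => a x • ε x
  have hσ : ∀ x, pullS h M (V x) (σ x) = val _ t (h ⁻¹ᵁ V x) := fun x => (pullS_smul h M _ _ _).trans (hval x)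
  have hcompat : ∀ x x', res M (inf_le_left : V x ⊓ V x' ≤ V x) (σ x) =
      res M (inf_le_right : V x ⊓ V x' ≤ V x') (σ x') := fun x x' => by
    refine pullS_injective h hM _ ?_
    rw [← res_pullS h M (inf_le_left : V x ⊓ V x' ≤ V x), ← res_pullS h M (inf_le_right : V x ⊓ V x' ≤ V x'),
      hσ, hσ, res_val, res_val]
  obtain ⟨g, hg, -⟩ := TopCat.Sheaf.existsUnique_gluing'
    (⟨M.presheaf, M.isSheaf⟩ : TopCat.Sheaf _ X.toTopCat)
    V ⊤ (fun _ => homOfLE le_top) (fun x _ => Opens.mem_iSup.2 ⟨x, hxV x⟩) σ hcompat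
  let s := Var76.Frames.ofSection M g
  refine ⟨s, ?_⟩
  have htop : val _ t ⊤ = pullS h M ⊤ g := by
    refine eq_of_locally _ _ _ fun z _ => ?_
    refine ⟨h ⁻¹ᵁ V (h z), le_top, hxV (h z), ?_⟩
    rw [res_val, ← hσ]
    exact (congrArg (pullS h M _) (hg (h z)).symm).trans (res_pullS h M le_top g).symm
  have hts : pullHom h s = t := by
    refine ((Scheme.Modules.pullback h).obj M).unitHomEquiv.injective (Subtype.ext (funext fun W => ?_))
    show val _ (pullHom h s) W.unop = val _ t W.unop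
    rw [← res_val _ (pullHom h s) (le_top : W.unop ≤ ⊤), ← res_val _ t (le_top : W.unop ≤ ⊤)]
    refine congrArg _ ?_
    refine (val_pullHom h s ⊤).trans ?_
    rw [Var76.Frames.val_ofSection, Amp73.res_self, htop]
  rw [← hts]
  exact (genLocus_pullHom h hM s).symm

theorem pullPowIso_epow (f : Xt ⟶ X) {L : X.Modules} (hL : PicF.IsInvertible L) (U : X.Opens) (e : Γ(L, U)) :
    ∀ n, (pullPowIso f hL n).hom.app (f ⁻¹ᵁ U) (pullS f (CohB1.tensorPow L n) U (epow e n)) =
      epow (pullS f L U e) n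
  | 0 => pullbackStructureIso_pullS f U
  | n + 1 => by
    show (EGA73.tensIso (pullPowIso f hL n) (Iso.refl _)).hom.app _
      ((pullTensHom f (CohB1.tensorPow L n) L).app _ (pullS f _ U (tm _ L (epow e n) e))) = _
    rw [pullTensHom_tm]
    exact (Mum71.tensIso_app_tmul _ _ _ _ _).trans
      (congrArg (fun q => tm _ _ q (pullS f L U e)) (pullPowIso_epow f hL U e n))

/-- Where a morphism is an isomorphism, its maps on sections are bijective. -/
theorem app_bijective (h : Xt ⟶ X) {W : X.Opens} [IsIso (h ∣_ W)] {U : X.Opens} (hU : U ≤ W) :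
    Function.Bijective (h.app U) := by
  have h1 : IsIso ((h ∣_ W).app (W.ι ⁻¹ᵁ U)) := inferInstance
  rw [morphismRestrict_app] at h1
  have h2 : IsIso (h.app (W.ι ''ᵁ W.ι ⁻¹ᵁ U)) :=
    @IsIso.of_isIso_comp_right _ _ _ _ _ _ _ (Functor.map_isIso _ _) h1
  have e : W.ι ''ᵁ W.ι ⁻¹ᵁ U = U := by
    rw [Scheme.Hom.image_preimage_eq_opensRange_inf, Scheme.Opens.opensRange_ι, inf_eq_right.2 hU]
  rw [e] at h2
  exact ConcreteCategory.bijective_of_isIso _

theorem mul_mem_range_of_mem_map {A B : Type u} [CommRing A] [CommRing B] (φ : A →+* B) (I : Ideal A)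
    (hI : ∀ c ∈ I, ∀ b, φ c * b ∈ φ.range) {y : B} (hy : y ∈ I.map φ) : y ∈ φ.range := by
  suffices ∀ b, y * b ∈ φ.range by simpa using this 1
  induction hy using Submodule.span_induction with
  | mem z hz => obtain ⟨c, hc, rfl⟩ := hz; exact hI c hc
  | zero => intro b; simp
  | add z w _ _ hz hw => intro b; rw [add_mul]; exact add_mem (hz b) (hw b)
  | smul r z _ hz => intro b; rw [smul_eq_mul, mul_comm r z, mul_assoc]; exact hz (r * b)

/-- The conductor contains a power of the ideal of a closed subset outside of which `h` is an isomorphism. -/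
theorem exists_pow_mul_mem_range [IsLocallyNoetherian X] (h : Xt ⟶ X) [IsFinite h] {W : X.Opens}
    [IsIso (h ∣_ W)] (Zc : Closeds X) (hZc : (Zc : Set X)ᶜ ⊆ W) (V : X.affineOpens) :
    ∃ r : ℕ, ∀ c ∈ (Scheme.IdealSheafData.vanishingIdeal Zc).ideal V ^ r, ∀ b,
      (h.app V.1).hom c * b ∈ (h.app V.1).hom.range := by
  classical
  let A := Γ(X, V.1)
  let B := Γ(Xt, h ⁻¹ᵁ V.1)
  let φ : A →+* B := (h.app V.1).hom
  haveI : IsNoetherianRing A := IsLocallyNoetherian.component_noetherian V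
  let Cd : Ideal A :=
    { carrier := {c | ∀ b, φ c * b ∈ φ.range}
      add_mem' := fun {c d} hc hd b => by rw [map_add, add_mul]; exact add_mem (hc b) (hd b)
      zero_mem' := fun b => by simp
      smul_mem' := fun a c hc b => by
        rw [smul_eq_mul, map_mul, mul_assoc]
        exact mul_mem ⟨a, rfl⟩ (hc b) }
  suffices hle : (Scheme.IdealSheafData.vanishingIdeal Zc).ideal V ≤ Cd.radical by
    obtain ⟨r, hr⟩ := Ideal.exists_pow_le_of_le_radical_of_fg hle (IsNoetherian.noetherian _)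
    exact ⟨r, fun c hc b => hr hc b⟩
  intro c hc
  have hcW : X.basicOpen c ≤ W := fun x hx => hZc fun hxZ => by
    have hs : x ∈ (Scheme.IdealSheafData.vanishingIdeal Zc).support := by
      rw [← SetLike.mem_coe, Scheme.IdealSheafData.coe_support_vanishingIdeal]; exact hxZ
    have h2 := (Scheme.IdealSheafData.mem_support_iff_of_mem (X.basicOpen_le c hx)).1 hs
    exact ((X.mem_zeroLocus_iff _ _).1 h2 c hc) hx
  -- every element is pushed into the image by a power of `c`
  have key : ∀ b : B, ∃ n : ℕ, φ (c ^ n) * b ∈ φ.range := by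
    intro b
    haveI := V.2.isLocalization_basicOpen c
    let e : Γ(Xt, h ⁻¹ᵁ V.1) →+* Γ(Xt, h ⁻¹ᵁ X.basicOpen c) :=
      (Xt.presheaf.map (homOfLE (h.preimage_mono (X.basicOpen_le c))).op).hom
    letI := e.toAlgebra
    haveI : IsLocalization.Away (φ c) Γ(Xt, h ⁻¹ᵁ X.basicOpen c) :=
      (V.2.preimage h).isLocalization_of_eq_basicOpen (φ c) _ (h.preimage_basicOpen c)
    obtain ⟨a', ha'⟩ := (app_bijective h hcW).2 (e b)
    obtain ⟨n, a, ha⟩ := IsLocalization.Away.surj c a'
    have h1 : e (φ c ^ n * b) = e (φ a) := by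
      have h2 := congrArg (h.app (X.basicOpen c)) ha
      rw [map_mul, map_pow, ha'] at h2
      have hn : ∀ z : A, h.app (X.basicOpen c) (algebraMap A Γ(X, X.basicOpen c) z) = e (φ z) := fun z =>
        Approx60.app_fres h (X.basicOpen_le c) z
      rw [hn, hn] at h2
      rw [map_mul, map_pow, mul_comm]
      exact h2
    obtain ⟨⟨_, m, rfl⟩, hm⟩ := (IsLocalization.eq_iff_exists (Submonoid.powers (φ c))
      Γ(Xt, h ⁻¹ᵁ X.basicOpen c)).1 h1
    refine ⟨m + n, ⟨c ^ m * a, ?_⟩⟩
    dsimp only at hm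
    rw [map_mul, map_pow, ← hm, map_pow]
    ring
  letI := φ.toAlgebra
  haveI : Module.Finite A B := IsFinite.finite_app h V.1 V.2
  obtain ⟨S, hS⟩ := Module.Finite.fg_top (R := A) (M := B)
  choose n hn using key
  refine ⟨S.sup n, fun b => ?_⟩
  have hb : b ∈ Submodule.span A (S : Set B) := hS.symm ▸ Submodule.mem_top
  induction hb using Submodule.span_induction with
  | mem z hz =>
    obtain ⟨d, hd⟩ := Nat.exists_eq_add_of_le (Finset.le_sup (f := n) hz)
    rw [hd, Nat.add_comm, pow_add, map_mul, mul_assoc]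
    exact mul_mem ⟨_, rfl⟩ (hn z)
  | zero => simp
  | add z w _ _ hz hw => rw [mul_add]; exact add_mem hz hw
  | smul r z _ hz =>
    rw [show r • z = φ r * z from Algebra.smul_def r z, mul_left_comm]
    exact mul_mem ⟨r, rfl⟩ hz

/-- A function not vanishing only outside the support lies in the radical. -/
theorem mem_radical_of_disjoint (K : X.IdealSheafData) (V : X.affineOpens) (b : Γ(X, V.1))
    (hb : ∀ x ∈ X.basicOpen b, x ∉ K.support) : b ∈ (K.ideal V).radical := by
  rw [← Scheme.IdealSheafData.radical_ideal, ← Scheme.IdealSheafData.vanishingIdeal_support,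
    Scheme.IdealSheafData.vanishingIdeal_ideal, PrimeSpectrum.mem_vanishingIdeal]
  intro p hp
  by_contra hbp
  have h1 : p ∈ V.2.fromSpec ⁻¹ᵁ X.basicOpen b := by
    rw [V.2.fromSpec_preimage_basicOpen]; exact hbp
  exact hb _ h1 hp

variable {A : Type u} [CommRing A] [IsNoetherianRing A]

/-- Ampleness descends along a finite surjective morphism which is an isomorphism outside a closed subset
proper over the base, on which the module is ample. -/
theorem isAmple_descend (p : X ⟶ Spec (CommRingCat.of A)) [LocallyOfFiniteType p] [CompactSpace X]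
    [IsReduced X] (h : Xt ⟶ X) [IsFinite h] [Surjective h] (W : X.Opens) [IsIso (h ∣_ W)]
    {L : X.Modules} (hL : PicF.IsInvertible L) (hh : CohB1.IsAmple ((Scheme.Modules.pullback h).obj L))
    (Zc : Closeds X) (hW : (Zc : Set X) = (W : Set X)ᶜ)
    [IsProper ((Scheme.IdealSheafData.vanishingIdeal Zc).subschemeι ≫ p)]
    (hLZ : CohB1.IsAmple
      ((Scheme.Modules.pullback (Scheme.IdealSheafData.vanishingIdeal Zc).subschemeι).obj L)) :
    CohB1.IsAmple L := by
  classical
  haveI : IsLocallyNoetherian X := LocallyOfFiniteType.isLocallyNoetherian p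
  haveI : AlgebraicGeometry.IsNoetherian X := {}
  have hZc : (Zc : Set X)ᶜ ⊆ W := by rw [hW, compl_compl]
  -- a finite cover by affine frame opens, and a uniform exponent
  choose V hxV hVle e he using fun x : X => Mero90.exists_affine_frame hL x ⊤ trivial
  obtain ⟨T, hT⟩ := CompactSpace.isCompact_univ.elim_finite_subcover (fun x : X => ((V x).1 : Set X))
    (fun x => (V x).1.2) (fun x _ => Set.mem_iUnion.2 ⟨x, hxV x⟩)
  have hcov : ∀ x : X, ∃ y ∈ T, x ∈ (V y).1 := fun x => by
    simpa using hT (Set.mem_univ x)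
  choose r hr using fun y => exists_pow_mul_mem_range h Zc hZc (V y)
  let R := T.sup r + 1
  let Iz := Scheme.IdealSheafData.vanishingIdeal Zc
  have hmem : ∀ y ∈ T, ∀ z ∈ (Iz.ideal (V y) ^ R).map (h.app (V y).1).hom, z ∈ (h.app (V y).1).hom.range := by
    intro y hy z hz
    refine mul_mem_range_of_mem_map _ _ (fun c hc => hr y c ?_) hz
    exact Ideal.pow_le_pow_right ((Finset.le_sup hy).trans (Nat.le_succ _)) hc
  -- a descended section with affine locus of generation
  have main : ∀ (m : ℕ) (M : X.Modules) (hM : PicF.IsInvertible M) (_ : ∀ G ∈ GenSet M, G ∈ GenSet L)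
      (t : Coh.structureModule Xt ⟶ (Scheme.Modules.pullback h).obj M)
      (ε : ∀ y, Γ(M, (V y).1)) (_ : ∀ y, IsFrame M _ (ε y))
      (_ : ∀ y ∈ T, ∃ a, h.app (V y).1 a • pullS h M _ (ε y) = val _ t (h ⁻¹ᵁ (V y).1)),
      IsAffineOpen (CohB1.genLocus _ t) →
      ∃ G ∈ GenSet L, h ⁻¹ᵁ G = CohB1.genLocus _ t ∧ IsAffineOpen G := by
    intro m M hM hsub t ε hε hloc ha
    obtain ⟨s, hs⟩ := exists_descend h hM t fun x => by
      obtain ⟨y, hy, hxy⟩ := hcov x
      obtain ⟨a, ha'⟩ := hloc y hy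
      exact ⟨_, hxy, ε y, a, hε y, ha'⟩
    refine ⟨_, hsub _ (mem_genSet_one s), hs, ?_⟩
    haveI : IsAffine (h ⁻¹ᵁ CohB1.genLocus M s : Scheme.{u}) := hs ▸ ha
    haveI : IsFinite (h ∣_ CohB1.genLocus M s) := IsZariskiLocalAtTarget.restrict (P := @IsFinite) ‹_› _
    haveI : Surjective (h ∣_ CohB1.genLocus M s) := IsZariskiLocalAtTarget.restrict (P := @Surjective) ‹_› _
    haveI : CompactSpace (CohB1.genLocus M s : Scheme.{u}) :=
      isCompact_iff_compactSpace.1 (TopologicalSpace.NoetherianSpace.isCompact _)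
    haveI : AlgebraicGeometry.IsNoetherian (CohB1.genLocus M s : Scheme.{u}) := {}
    exact Approx60.isAffine_of_finite_surjective (h ∣_ CohB1.genLocus M s)
  refine Amp73.isAmple_iff.2 ⟨hL, inferInstance, fun x => ?_⟩
  obtain ⟨z, rfl⟩ := h.surjective x
  by_cases hxW : h z ∈ W
  · obtain ⟨_, ⟨n, τ, rfl⟩, hzG, hGW, hGa⟩ := Amp73.exists_affine_genSet_le hh z (h ⁻¹ᵁ W) hxW
    let M := CohB1.tensorPow L (n + 1)
    have hM : PicF.IsInvertible M := EGA73.isInvertible_tensorPow hL _
    let τ' : Coh.structureModule Xt ⟶ (Scheme.Modules.pullback h).obj M := τ ≫ (pullPowIso h hL (n + 1)).inv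
    have hτ' : CohB1.genLocus _ τ' = CohB1.genLocus _ τ := genLocus_comp_iso _ _
    have hb : ∀ y, ∃ b : Γ(Xt, h ⁻¹ᵁ (V y).1),
        b • pullS h M _ (epow (e y) (n + 1)) = val _ τ' (h ⁻¹ᵁ (V y).1) :=
      fun y => exists_coord τ' (Amp73.isFrame_pullS h hM (isFrame_epow (he y) _))
    choose b hb using hb
    -- large powers of the coordinates are in the image
    have hk : ∀ y ∈ T, ∃ k : ℕ, ∀ k', k ≤ k' → b y ^ k' ∈ (h.app (V y).1).hom.range := by
      intro y hy
      have h1 : b y ∈ ((Iz.comap h).ideal ⟨_, (V y).2.preimage h⟩).radical := by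
        refine mem_radical_of_disjoint _ _ _ fun w hw hwK => ?_
        rw [← SetLike.mem_coe, Scheme.IdealSheafData.support_comap] at hwK
        have h2 : h w ∈ (Zc : Set X) := by
          rw [← Scheme.IdealSheafData.coe_support_vanishingIdeal Zc]; exact hwK
        rw [hW] at h2
        exact h2 (hGW (hτ' ▸ ((genLocus_inf_eq_basicOpen τ'
          (Amp73.isFrame_pullS h hM (isFrame_epow (he y) _)) (hb y)).ge hw).1))
      rw [QC70.ideal_comap_preimage] at h1
      obtain ⟨k, hk⟩ := h1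
      refine ⟨k * R, fun k' hk' => hmem y hy _ ?_⟩
      rw [Ideal.map_pow]
      obtain ⟨d, rfl⟩ := Nat.exists_eq_add_of_le hk'
      rw [pow_add (b y) (k * R) d, pow_mul]
      exact Ideal.mul_mem_right _ _ (Ideal.pow_mem_pow hk R)
    choose! k hk using hk
    let E := T.sup k + 1
    let M' := CohB1.tensorPow M E
    let t : Coh.structureModule Xt ⟶ (Scheme.Modules.pullback h).obj M' :=
      SecTwist.powHom τ' E ≫ (pullPowIso h hM E).inv
    have htl : CohB1.genLocus _ t = CohB1.genLocus _ τ := by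
      show CohB1.genLocus _ (SecTwist.powHom τ' E ≫ _) = _
      rw [genLocus_comp_iso, genLocus_powHom (Amp73.isInvertible_pullback h hM) τ' E (Nat.succ_pos _), hτ']
    obtain ⟨G, hG, hhG, haG⟩ := main 0 M' (EGA73.isInvertible_tensorPow hM E)
      (fun G hG => mem_genSet_of_tensorPow (Nat.succ_pos n) (mem_genSet_of_tensorPow (Nat.succ_pos _) hG))
      t (fun y => epow (epow (e y) (n + 1)) E) (fun y => isFrame_epow (isFrame_epow (he y) _) _)
      (fun y hy => by
        obtain ⟨a, ha⟩ := hk y hy E ((Finset.le_sup hy).trans (Nat.le_succ _))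
        refine ⟨a, ?_⟩
        show _ = (pullPowIso h hM E).inv.app _ (val _ (SecTwist.powHom τ' E) _)
        rw [Amp73.val_powHom, ← hb, epow_smul, Scheme.Modules.Hom.app_smul,
          ← pullPowIso_epow h hM _ _ E, Mum71.hom_inv_app]
        exact congrArg (fun q => q • pullS h M' _ _) ha)
      (htl ▸ hGa)
    exact ⟨G, hG, by rw [← htl, ← hhG] at hzG; exact hzG, haG⟩
  · let J := Iz ^ R
    let ι := J.subschemeι
    have hJ : J ≤ Iz := fun U => by
      show (Iz ^ R).ideal U ≤ _
      rw [Scheme.IdealSheafData.ideal_pow]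
      exact Ideal.pow_le_self (Nat.succ_ne_zero _)
    let j := Scheme.IdealSheafData.inclusion hJ
    have hjι : j ≫ ι = Iz.subschemeι := Scheme.IdealSheafData.inclusion_subschemeι hJ
    haveI : IsClosedImmersion j := by
      haveI : IsClosedImmersion (j ≫ ι) := by rw [hjι]; infer_instance
      exact IsClosedImmersion.of_comp j ι
    have hrι : Set.range ι = (Zc : Set X) := by
      rw [Scheme.IdealSheafData.range_subschemeι, Scheme.IdealSheafData.support_pow _ _ (Nat.succ_ne_zero _),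
        Scheme.IdealSheafData.coe_support_vanishingIdeal]
    haveI : Surjective j := ⟨fun d => by
      obtain ⟨w, hw⟩ : ι d ∈ Set.range Iz.subschemeι := by
        rw [Scheme.IdealSheafData.range_subschemeι, Scheme.IdealSheafData.coe_support_vanishingIdeal, ← hrι]
        exact ⟨d, rfl⟩
      refine ⟨w, ι.isClosedEmbedding.injective ?_⟩
      rw [← Scheme.Hom.comp_apply, hjι, hw]⟩
    haveI : IsProper (ι ≫ p) := by
      haveI : IsProper (j ≫ ι ≫ p) := by rw [reassoc_of% hjι]; infer_instance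
      haveI : UniversallyClosed (ι ≫ p) := UniversallyClosed.of_comp_surjective j _
      haveI : IsSeparated (ι ≫ p) := FlatMor68.ThickeningFT.isSeparated_of_comp_surjective j _
      exact { }
    have hLι : PicF.IsInvertible ((Scheme.Modules.pullback ι).obj L) := Amp73.isInvertible_pullback ι hL
    have hLD : CohB1.IsAmple ((Scheme.Modules.pullback ι).obj L) :=
      Approx60.isAmple_of_thickening j hLι (Amp73.isAmple_of_iso
        ((Scheme.Modules.pullbackCongr hjι.symm).app L ≪≫ ((Scheme.Modules.pullbackComp j ι).app L).symm) hLZ)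
    obtain ⟨d, hd⟩ : h z ∈ Set.range ι := by rw [hrι, hW]; exact hxW
    obtain ⟨_, ⟨n, σ₁, rfl⟩, hdG, -⟩ := (Amp73.isAmple_iff.1 hLD).2.2 d
    let di := (J.comap h).subschemeι
    obtain ⟨q, hw⟩ : ∃ q : (J.comap h).subscheme ⟶ J.subscheme, di ≫ h = q ≫ ι :=
      ⟨(J.comapIso h).hom ≫ pullback.snd _ _, by
        rw [Category.assoc, ← pullback.condition, ← Category.assoc, Scheme.IdealSheafData.comapIso_hom_fst]⟩
    haveI : IsProper (di ≫ h ≫ p) := by
      haveI : IsProper (q ≫ ι) := by rw [← hw]; infer_instance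
      haveI : IsProper q := IsProper.of_comp q ι
      rw [reassoc_of% hw]
      infer_instance
    obtain ⟨N, hN, k₀, hlift⟩ := RB70.exists_affine_lift (h ≫ p) hh di
    let m := (n + 1) * (N * (k₀ + 1))
    obtain ⟨σ₂, hσ₂⟩ := exists_genLocus_pow hLι σ₁ (Nat.mul_pos hN (Nat.succ_pos k₀))
    let σ₃ : Coh.structureModule _ ⟶ (Scheme.Modules.pullback ι).obj (CohB1.tensorPow L m) :=
      σ₂ ≫ (pullPowIso ι hL m).inv
    have hσ₃ : CohB1.genLocus _ σ₃ = CohB1.genLocus _ σ₁ := (genLocus_comp_iso _ _).trans hσ₂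
    have hMm := EGA73.isInvertible_tensorPow hL m
    obtain ⟨θ, hθ⟩ := exists_comm_iso di h q ι hw (CohB1.tensorPow L m)
    have hkey : N * ((n + 1) * (k₀ + 1)) = m := by simp only [m]; ring
    let Φ : (Scheme.Modules.pullback h).obj (CohB1.tensorPow L m) ≅
        CohB1.tensorPow ((Scheme.Modules.pullback h).obj L) (N * ((n + 1) * (k₀ + 1))) :=
      pullPowIso h hL m ≪≫ eqToIso (congrArg (CohB1.tensorPow _) hkey.symm)
    let σt : Γ((Scheme.Modules.pullback di).obj ((Scheme.Modules.pullback h).obj (CohB1.tensorPow L m)), ⊤) :=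
      θ.inv.app ⊤ (pullS q _ ⊤ (val _ σ₃ ⊤))
    obtain ⟨t₀, ht₀a, ht₀⟩ := hlift ((n + 1) * (k₀ + 1))
      ((Nat.le_succ k₀).trans (Nat.le_mul_of_pos_left _ (Nat.succ_pos n)))
      (((Scheme.Modules.pullback di).map Φ.hom).app ⊤ σt)
    let t := t₀ ≫ Φ.inv
    have htt : pullS di _ ⊤ (val _ t ⊤) = σt := by
      show pullS di _ ⊤ (Φ.inv.app ⊤ (val _ t₀ ⊤)) = _
      refine (map_app_pullS di Φ.inv ⊤ _).symm.trans ?_
      exact (congrArg (((Scheme.Modules.pullback di).map Φ.inv).app ⊤) ht₀).trans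
        (Mum71.hom_inv_app ((Scheme.Modules.pullback di).mapIso Φ) ⊤ σt)
    let ε := fun y => epow (e y) m
    have hε : ∀ y, IsFrame (CohB1.tensorPow L m) _ (ε y) := fun y => isFrame_epow (he y) m
    -- the coordinates of `t` descend
    have hloc : ∀ y, ∃ (b : Γ(Xt, h ⁻¹ᵁ (V y).1)) (c : Γ(X, (V y).1)),
        b • pullS h _ _ (ε y) = val _ t (h ⁻¹ᵁ (V y).1) ∧
        ι.app _ c • pullS ι _ _ (ε y) = val _ σ₃ (ι ⁻¹ᵁ (V y).1) ∧
        di.app _ b = di.app _ (h.app _ c) := by
      intro y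
      obtain ⟨b, hb⟩ := exists_coord t (Amp73.isFrame_pullS h hMm (hε y))
      obtain ⟨a, ha⟩ := exists_coord σ₃ (Amp73.isFrame_pullS ι hMm (hε y))
      obtain ⟨c, rfl⟩ := J.subschemeι_app_surjective (V y) a
      refine ⟨b, c, hb, ha, ?_⟩
      have hfr := Amp73.isFrame_pullS di (Amp73.isInvertible_pullback h hMm)
        (Amp73.isFrame_pullS h hMm (hε y))
      refine (hfr _ le_rfl).1 ?_
      dsimp only
      rw [Amp73.res_self, ← pullS_smul, hb, ← pullS_smul, ← pullS_smul h]
      refine (ConcreteCategory.bijective_of_isIso (θ.hom.app _)).1 ?_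
      have hle : di ⁻¹ᵁ (h ⁻¹ᵁ (V y).1) ≤ q ⁻¹ᵁ (ι ⁻¹ᵁ (V y).1) := by
        rw [← Scheme.Hom.comp_preimage, hw]; rfl
      refine Eq.trans ?_ (hθ (V y).1 (c • ε y) hle).symm
      rw [pullS_smul ι, ha, ← res_val _ t (le_top : h ⁻¹ᵁ (V y).1 ≤ ⊤), ← res_pullS di _ le_top,
        Mero90.app_res, htt, ← res_val _ σ₃ (le_top : ι ⁻¹ᵁ (V y).1 ≤ ⊤), ← res_pullS q _ le_top, res_res]
      exact congrArg (res _ _) (congr(Scheme.Modules.Hom.app $(θ.inv_hom_id) ⊤ (pullS q _ ⊤ (val _ σ₃ ⊤))))
    choose b c hb hc hbc using hloc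
    have hta : IsAffineOpen (CohB1.genLocus _ t) := (genLocus_comp_iso t₀ Φ.inv) ▸ ht₀a
    obtain ⟨G, hG, hhG, haG⟩ := main 0 (CohB1.tensorPow L m) hMm
      (fun G hG => mem_genSet_of_tensorPow (Nat.mul_pos (Nat.succ_pos n) (Nat.mul_pos hN (Nat.succ_pos k₀))) hG)
      t ε hε (fun y hy => by
        have h1 : b y - h.app _ (c y) ∈ (J.comap h).ideal ⟨_, (V y).2.preimage h⟩ := by
          rw [← Scheme.IdealSheafData.ker_subschemeι_app, RingHom.mem_ker, map_sub, sub_eq_zero]
          exact hbc y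
        rw [QC70.ideal_comap_preimage] at h1
        obtain ⟨a, ha⟩ : b y ∈ (h.app (V y).1).hom.range := by
          have h2 := add_mem (hmem y hy _ h1) (show h.app _ (c y) ∈ (h.app (V y).1).hom.range from ⟨c y, rfl⟩)
          rwa [sub_add_cancel] at h2
        exact ⟨a, (congrArg (fun v => v • pullS h _ _ (ε y)) ha).trans (hb y)⟩)
      hta
    refine ⟨G, hG, ?_, haG⟩
    have hdc : d ∈ ι ⁻¹ᵁ X.basicOpen (c (h z)) := by
      rw [Scheme.preimage_basicOpen]
      exact (genLocus_inf_eq_basicOpen σ₃ (Amp73.isFrame_pullS ι hMm (hε _)) (hc _)).le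
        ⟨hσ₃.ge hdG, show ι d ∈ (V (h z)).1 from hd ▸ hxV _⟩
    obtain ⟨w, hw'⟩ : z ∈ Set.range di := by
      rw [Scheme.IdealSheafData.range_subschemeι, Scheme.IdealSheafData.support_comap]
      show h z ∈ (J.support : Set X)
      rw [← Scheme.IdealSheafData.range_subschemeι]
      exact ⟨d, hd⟩
    have h3 : w ∈ di ⁻¹ᵁ Xt.basicOpen (b (h z)) := by
      rw [Scheme.preimage_basicOpen, hbc, ← Scheme.preimage_basicOpen]
      show di w ∈ Xt.basicOpen (h.app _ (c (h z)))
      rw [← Scheme.preimage_basicOpen]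
      show h (di w) ∈ X.basicOpen (c (h z))
      rw [hw']
      exact (congrArg (fun v => v ∈ X.basicOpen (c (h z))) hd).mp hdc
    have h4 : z ∈ CohB1.genLocus _ t := by
      have h5 : di w ∈ Xt.basicOpen (b (h z)) := h3
      rw [hw'] at h5
      exact ((genLocus_inf_eq_basicOpen t (Amp73.isFrame_pullS h hMm (hε _)) (hb _)).ge h5).1
    rw [← hhG] at h4
    exact h4

end Groth.Agent.RB70.FinSurj

end
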