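import Groth.Agent.QC70.Closure
import Groth.Agent.QC70.CohOps

/-! Generation of quasi-coherent modules on affine opens is local. -/

set_option autoImplicit false
set_option backward.isDefEq.respectTransparency.types false
set_option maxHeartbeats 1000000
set_option synthInstance.maxHeartbeats 200000

universe u

open CategoryTheory AlgebraicGeometry Opposite TopologicalSpace

noncomputable section

namespace Groth.Agent.RB70

open QC70

variable {X : Scheme.{u}} (M : X.Modules) [M.IsQuasicoherent]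

omit [M.IsQuasicoherent] in
theorem exists_mem_span_res {U : X.Opens} (f : Γ(X, U)) (hU : IsAffineOpen U) {S : Set Γ(M, U)}
    {y : Γ(M, X.basicOpen f)} (hy : y ∈ Submodule.span Γ(X, X.basicOpen f) (res M (X.basicOpen_le f) '' S)) :
    ∃ (n : ℕ) (v : Γ(M, U)), v ∈ Submodule.span Γ(X, U) S ∧
      res M (X.basicOpen_le f) v = resO X (X.basicOpen_le f) f ^ n • y := by
  haveI := hU.isLocalization_basicOpen f
  induction hy using Submodule.span_induction with
  | mem y hy =>
    obtain ⟨s, hs, rfl⟩ := hy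
    exact ⟨0, s, Submodule.subset_span hs, by rw [pow_zero, one_smul]⟩
  | zero => exact ⟨0, 0, zero_mem _, by rw [res_zero, smul_zero]⟩
  | add a b _ _ ha hb =>
    obtain ⟨n, u, hu, hu'⟩ := ha
    obtain ⟨m, v, hv, hv'⟩ := hb
    refine ⟨n + m, f ^ m • u + f ^ n • v, add_mem (Submodule.smul_mem _ _ hu) (Submodule.smul_mem _ _ hv), ?_⟩
    rw [res_add, res_smul, res_smul, hu', hv', resO_pow, resO_pow, smul_smul, smul_smul, ← pow_add,
      ← pow_add, smul_add, add_comm m n]
  | smul c a _ ha =>
    obtain ⟨n, u, hu, hu'⟩ := ha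
    obtain ⟨⟨d, ⟨_, m, rfl⟩⟩, hd⟩ := IsLocalization.surj (Submonoid.powers f) c
    refine ⟨n + m, d • u, Submodule.smul_mem _ _ hu, ?_⟩
    have hd' : c * resO X (X.basicOpen_le f) f ^ m = resO X (X.basicOpen_le f) d := by
      rw [← map_pow]; exact hd
    rw [res_smul, hu', smul_smul, smul_smul, ← hd']
    congr 1
    ring

/-- Spanning passes to basic opens. -/
theorem span_res_basicOpen {U : X.Opens} (hU : IsAffineOpen U) (f : Γ(X, U)) {S : Set Γ(M, U)}
    (h : Submodule.span Γ(X, U) S = ⊤) :
    Submodule.span Γ(X, X.basicOpen f) (res M (X.basicOpen_le f) '' S) = ⊤ := by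
  refine eq_top_iff.2 fun z _ => ?_
  obtain ⟨n, t, ht⟩ := (isLocAt_of_isQuasicoherent M hU).exists_of f z
  have hr : IsUnit (resO X (X.basicOpen_le f) f) := RingedSpace.isUnit_res_basicOpen _ f
  obtain ⟨v, hv⟩ := (hr.pow n).exists_left_inv
  have key : ∀ t ∈ Submodule.span Γ(X, U) S, res M (X.basicOpen_le f) t ∈
      Submodule.span Γ(X, X.basicOpen f) (res M (X.basicOpen_le f) '' S) := by
    intro t htS
    induction htS using Submodule.span_induction with
    | mem s hs => exact Submodule.subset_span ⟨s, hs, rfl⟩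
    | zero => rw [res_zero]; exact zero_mem _
    | add a b _ _ ha hb => rw [res_add]; exact add_mem ha hb
    | smul c a _ ha => rw [res_smul]; exact Submodule.smul_mem _ _ ha
  have ht' := key t (h ▸ Submodule.mem_top)
  have := Submodule.smul_mem _ v ht'
  rwa [ht, smul_smul, hv, one_smul] at this

omit [M.IsQuasicoherent] in
theorem span_congr {U O O' : X.Opens} (e : O = O') (h : O ≤ U) (h' : O' ≤ U) (S : Set Γ(M, U))
    (hs : Submodule.span Γ(X, O') (res M h' '' S) = ⊤) : Submodule.span Γ(X, O) (res M h '' S) = ⊤ := by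
  subst e
  exact hs

/-- Spanning on an affine open can be checked on a cover by affine opens. -/
theorem span_eq_top_of_cover {U : X.Opens} (hU : IsAffineOpen U) (S : Set Γ(M, U))
    (h : ∀ x ∈ U, ∃ (W : X.Opens) (hW : W ≤ U), x ∈ W ∧ IsAffineOpen W ∧
      Submodule.span Γ(X, W) (res M hW '' S) = ⊤) :
    Submodule.span Γ(X, U) S = ⊤ := by
  refine eq_top_iff.2 fun z _ => ?_
  let P := Submodule.span Γ(X, U) S
  let I : Ideal Γ(X, U) := P.colon {z}
  have hI : I.radical = ⊤ := by
    rw [eq_top_iff, ← hU.self_le_iSup_basicOpen_iff (s := (I.radical : Set Γ(X, U))) |>.1 (fun x hx => ?_),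
      Ideal.span_eq]
    obtain ⟨W, hW, hxW, hWa, hsp⟩ := h x hx
    obtain ⟨r, r', hrr, hxr⟩ := exists_basicOpen_le_affine_inter hU hWa x ⟨hx, hxW⟩
    refine Opens.mem_iSup.2 ⟨⟨r, ?_⟩, hxr⟩
    have hD : X.basicOpen r ≤ W := hrr.le.trans (X.basicOpen_le r')
    have hspr : Submodule.span Γ(X, X.basicOpen r) (res M (X.basicOpen_le r) '' S) = ⊤ := by
      have := span_res_basicOpen M hWa r' hsp
      rw [← Set.image_comp] at this
      refine span_congr M hrr (X.basicOpen_le r) (((X.basicOpen_le r').trans hW)) S (Eq.trans ?_ this)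
      congr 1
      refine Set.image_congr fun s _ => ?_
      exact (res_res _ _ _).symm
    obtain ⟨n, v, hv, hv'⟩ := exists_mem_span_res M r hU (hspr ▸ Submodule.mem_top (x := res M (X.basicOpen_le r) z))
    obtain ⟨m, hm⟩ := (isLocAt_of_isQuasicoherent M hU).eq_zero_of r (r ^ n • z - v)
      (by rw [res_sub, res_smul, hv', resO_pow, sub_self])
    refine ⟨m + n, Submodule.mem_colon_singleton.2 ?_⟩
    rw [smul_sub, smul_smul, ← pow_add, sub_eq_zero] at hm
    rw [hm]
    exact P.smul_mem _ hv
  have h1 : (1 : Γ(X, U)) ∈ I := (Ideal.eq_top_iff_one I).1 (Ideal.radical_eq_top.1 hI)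
  simpa [I, P] using Submodule.mem_colon_singleton.1 h1

end Groth.Agent.RB70

end
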