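import Groth.Agent.RB70.RelSerre
import Groth.Agent.RB70.ThickGen
import Groth.Agent.RB70.SpanLocal
import Groth.Agent.S4418
import Groth.Agent.S4456
import Groth.Agent.S4457
import Groth.Agent.LimTop61.RelAmpleStage
import Groth.Agent.Stage62.FlatChart

/-! Twists of direct images along an affine base change. -/

set_option autoImplicit false
set_option backward.isDefEq.respectTransparency.types false
set_option linter.style.haveILetI false
set_option maxHeartbeats 1000000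
set_option synthInstance.maxHeartbeats 200000

universe u

open CategoryTheory CategoryTheory.Limits AlgebraicGeometry Opposite TopologicalSpace

noncomputable section

namespace Groth.Agent.RB70

open QC70

variable {X Y X' Y' : Scheme.{u}} {f : X ⟶ Y} {g : Y' ⟶ Y} {g' : X' ⟶ X} {f' : X' ⟶ Y'}

theorem epi_counit_push [IsAffineHom g] [IsAffineHom g'] (hsq : IsPullback g' f' f g) {M : X'.Modules}
    [M.IsQuasicoherent]
    (hspan : ∀ y : Y, ∃ (V : Y.Opens) (_ : IsAffineOpen V), y ∈ V ∧ ∀ x : (f' ⁻¹ᵁ (g ⁻¹ᵁ V) : Scheme.{u}),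
      ∃ U : (f' ⁻¹ᵁ (g ⁻¹ᵁ V) : Scheme.{u}).Opens,
        x ∈ U ∧ IsAffineOpen U ∧ Amp73.SpanAt (M.restrict (f' ⁻¹ᵁ (g ⁻¹ᵁ V)).ι) U) :
    Epi ((Scheme.Modules.pullbackPushforwardAdjunction f).counit.app ((Scheme.Modules.pushforward g').obj M)) := by
  haveI : ((Scheme.Modules.pushforward g').obj M).IsQuasicoherent := QCqs72.isQuasicoherent_pushforward (M := M) g'
  refine Amp73.epi_counit_of_span f ‹_› fun x => ?_
  obtain ⟨V, hV, hxV, hspanV⟩ := hspan (f x)
  obtain ⟨_, ⟨U, hU, rfl⟩, hxU, hUV⟩ := X.isBasis_affineOpens.exists_subset_of_mem_open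
    (show x ∈ f ⁻¹ᵁ V from hxV) (f ⁻¹ᵁ V).2
  replace hUV : U ≤ f ⁻¹ᵁ V := hUV
  refine ⟨V, U, hUV, hxU, hU, eq_top_iff.2 fun z _ => ?_⟩
  have he : g' ⁻¹ᵁ (f ⁻¹ᵁ V) = f' ⁻¹ᵁ (g ⁻¹ᵁ V) := by
    rw [← Scheme.Hom.comp_preimage, ← Scheme.Hom.comp_preimage, hsq.w]
  have e : g' ⁻¹ᵁ U ≤ f' ⁻¹ᵁ (g ⁻¹ᵁ V) := (g'.preimage_mono hUV).trans he.le
  let U' := g' ⁻¹ᵁ U
  let S : Set Γ(M, U') := Set.range fun t : Γ(M, f' ⁻¹ᵁ (g ⁻¹ᵁ V)) => res M e t
  -- the sections over the preimage generate over the functions upstairs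
  have h1 : Submodule.span Γ(X', U') S = ⊤ := by
    refine span_eq_top_of_cover M (hU.preimage g') S fun y hy => ?_
    obtain ⟨W, hyW, hWa, hsp⟩ := hspanV ⟨y, e hy⟩
    have hWi := hWa.image_of_isOpenImmersion (f' ⁻¹ᵁ (g ⁻¹ᵁ V)).ι
    obtain ⟨r, r', hrr, hyr⟩ := exists_basicOpen_le_affine_inter (hU.preimage g') hWi y ⟨hy, ⟨_, hyW, rfl⟩⟩
    have h2 := span_res_basicOpen M hWi r' (Amp73.span_of_spanAt_restrict _ hsp)
    refine ⟨X'.basicOpen r, X'.basicOpen_le r, hyr, (hU.preimage g').basicOpen r, ?_⟩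
    rw [← Set.range_comp] at h2 ⊢
    have h3 : X'.basicOpen r ≤ f' ⁻¹ᵁ (g ⁻¹ᵁ V) := (X'.basicOpen_le r).trans e
    have h4 : X'.basicOpen r' ≤ f' ⁻¹ᵁ (g ⁻¹ᵁ V) := hrr ▸ h3
    have h5 : Submodule.span Γ(X', X'.basicOpen r') (res M h4 '' Set.univ) = ⊤ := by
      rw [Set.image_univ]
      refine Eq.trans ?_ h2
      congr 1
      refine congrArg Set.range (funext fun t => ?_)
      exact (res_res _ _ _).symm
    have h6 := span_congr M hrr h3 h4 Set.univ h5
    rw [Set.image_univ] at h6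
    refine Eq.trans ?_ h6
    congr 1
    refine congrArg Set.range (funext fun t => ?_)
    exact res_res _ _ _
  -- pull the coefficients down
  let P := (Scheme.Modules.pushforward g').obj M
  let T := Submodule.span Γ(X, U) (Set.range fun t : Γ(P, f ⁻¹ᵁ V) => res P hUV t)
  have hpo := Stage62.isPushout_sections hsq hV hU hUV e
  letI : Algebra Γ(Y, V) Γ(Y', g ⁻¹ᵁ V) := (g.app V).hom.toAlgebra
  letI : Algebra Γ(X, U) Γ(X', U') := (g'.app U).hom.toAlgebra
  letI : Algebra Γ(Y, V) Γ(X, U) := (f.appLE V U hUV).hom.toAlgebra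
  letI : Algebra Γ(Y', g ⁻¹ᵁ V) Γ(X', U') := (f'.appLE (g ⁻¹ᵁ V) U' e).hom.toAlgebra
  letI : Algebra Γ(Y, V) Γ(X', U') := (f.appLE V U hUV ≫ g'.app U).hom.toAlgebra
  haveI : IsScalarTower Γ(Y, V) Γ(X, U) Γ(X', U') := .of_algebraMap_eq' rfl
  haveI : IsScalarTower Γ(Y, V) Γ(Y', g ⁻¹ᵁ V) Γ(X', U') :=
    .of_algebraMap_eq' (congrArg CommRingCat.Hom.hom hpo.w).symm
  haveI : Algebra.IsPushout Γ(Y, V) Γ(Y', g ⁻¹ᵁ V) Γ(X, U) Γ(X', U') :=
    (CommRingCat.isPushout_iff_isPushout).1 hpo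
  have hbc : IsBaseChange Γ(X, U) (IsScalarTower.toAlgHom Γ(Y, V) Γ(Y', g ⁻¹ᵁ V) Γ(X', U')).toLinearMap :=
    (Algebra.IsPushout.symm (R := Γ(Y, V)) (S := Γ(Y', g ⁻¹ᵁ V)) (R' := Γ(X, U)) (S' := Γ(X', U'))
      inferInstance).out
  have hT : ∀ (c : Γ(X', U')) (t : Γ(M, f' ⁻¹ᵁ (g ⁻¹ᵁ V))), (show Γ(P, U) from c • res M e t) ∈ T := by
    intro c
    induction c using IsBaseChange.inductionOn hbc with
    | zero => intro t; rw [zero_smul]; exact zero_mem T
    | tmul m =>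
      intro t
      let t' : Γ(M, f' ⁻¹ᵁ (g ⁻¹ᵁ V)) := f'.app (g ⁻¹ᵁ V) m • t
      refine Submodule.subset_span ⟨(res M he.le t' :), ?_⟩
      show res M (g'.preimage_mono hUV) (res M he.le t') = f'.appLE (g ⁻¹ᵁ V) U' e m • res M e t
      rw [res_res, res_smul]
      rfl
    | smul a c ih =>
      intro t
      have := T.smul_mem a (ih t)
      refine (show (show Γ(P, U) from (a • c) • res M e t) = a • (show Γ(P, U) from c • res M e t) from ?_) ▸ this
      refine ((smul_assoc (g'.app U a) c (res M e t)).trans ?_)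
      exact (QCqs72.pushforward_smul M g' a (show Γ(P, U) from c • res M e t)).symm
    | add a b iha ihb => intro t; rw [add_smul]; exact add_mem (iha t) (ihb t)
  have h7 : (show Γ(M, U') from z) ∈ Submodule.span Γ(X', U') S := h1 ▸ Submodule.mem_top
  obtain ⟨c, hc⟩ := (Finsupp.mem_span_range_iff_exists_finsupp).1 h7
  have h8 : (show Γ(P, U) from c.sum fun t a => a • res M e t) ∈ T :=
    sum_mem fun t _ => hT (c t) t
  exact hc ▸ h8

theorem exists_twist_push_vanish_gen [AlgebraicGeometry.IsNoetherian Y] (hf : RelProj.IsProjective f)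
    {L : X.Modules} (hamp : RelAmple.IsRelAmple f L) [IsAffineHom g] [LocallyOfFiniteType g]
    (hsq : IsPullback g' f' f g) {G : X'.Modules} (hG : Coh.IsCoh G) :
    ∃ N : ℕ, ∀ n : ℕ, N ≤ n →
      (∀ p : ℕ, 0 < p → IsZero ((Coh.RpushAb f p).obj
        (Coh.toAb (CohB1.tensorMod ((Coh.push g').obj G) (CohB1.tensorPow L n))))) ∧
      Epi ((Scheme.Modules.pullbackPushforwardAdjunction f).counit.app
        (CohB1.tensorMod ((Coh.push g').obj G) (CohB1.tensorPow L n))) := by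
  classical
  haveI : IsProper f := (S4418.result f hf).2
  haveI : IsAffineHom g' := MorphismProperty.of_isPullback hsq.flip (inferInstance : IsAffineHom g)
  haveI : IsProper f' := MorphismProperty.of_isPullback hsq (inferInstance : IsProper f)
  haveI : CompactSpace Y' := QuasiCompact.compactSpace_of_compactSpace g
  haveI : IsLocallyNoetherian Y' := LocallyOfFiniteType.isLocallyNoetherian g
  haveI : AlgebraicGeometry.IsNoetherian Y' := { }
  haveI : CompactSpace X' := QuasiCompact.compactSpace_of_compactSpace f'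
  have hamp' := LimTop61.isRelAmple_of_isPullback hsq hamp
  have hLinv := Amp73.isInvertible_of_isRelAmple hamp
  have hLinv' := Amp73.isInvertible_of_isRelAmple hamp'
  obtain ⟨N₁, hN₁⟩ := exists_isZero_rpushAb f' hamp' hG
  have hC : ∀ V : Y'.affineOpens, ∃ N : ℕ, ∀ n, N ≤ n → ∀ x : (f' ⁻¹ᵁ V.1 : Scheme.{u}),
      ∃ U : (f' ⁻¹ᵁ V.1 : Scheme.{u}).Opens, x ∈ U ∧ IsAffineOpen U ∧
        Amp73.SpanAt ((CohB1.tensorMod G (CohB1.tensorPow ((Scheme.Modules.pullback g').obj L) n)).restrict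
          (f' ⁻¹ᵁ V.1).ι) U := by
    intro V
    obtain ⟨N, hN⟩ := Amp73.eventually_spanAt_twist (hamp'.2 V) (Amp73.isCoh_restrict hG (f' ⁻¹ᵁ V.1))
    exact ⟨N, fun n hn x => by
      obtain ⟨U, hxU, hU, hsp⟩ := hN n hn x
      exact ⟨U, hxU, hU, Amp73.spanAt_of_iso (EGA73.tensIso (Iso.refl _)
        (Amp73.powRestrict (f' ⁻¹ᵁ V.1).ι _ n) ≪≫ EGA73.tensorRestrictIso (f' ⁻¹ᵁ V.1).ι G _).hom hsp⟩⟩
  -- only finitely many base opens are needed
  let C := Y.affineCover.finiteSubcover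
  let V : C.I₀ → Y'.affineOpens := fun j => ⟨g ⁻¹ᵁ (C.f j).opensRange, (isAffineOpen_opensRange (C.f j)).preimage g⟩
  choose N₂ hN₂ using fun j => hC (V j)
  refine ⟨max N₁ (Finset.univ.sup N₂), fun n hn => ?_⟩
  let M := CohB1.tensorMod G (CohB1.tensorPow ((Scheme.Modules.pullback g').obj L) n)
  haveI hMq : M.IsQuasicoherent :=
    (Amp73.isCoh_tensorMod hG (Amp73.isCoh_of_isInvertible (EGA73.isInvertible_tensorPow hLinv' n))).1
  obtain ⟨a⟩ := nonempty_push_twist g' G hLinv (Iso.refl ((Scheme.Modules.pullback g').obj L)) n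
  refine ⟨fun p hp => ?_, ?_⟩
  · haveI : Coh.IsQCoh M := hMq
    obtain ⟨e₁⟩ := S4456.result g' f M p
    obtain ⟨e₂⟩ := S4457.result f' g M p
    have hz : IsZero ((Coh.RpushAb (f' ≫ g) p).obj (Coh.toAb M)) :=
      ((Coh.pushAb g).map_isZero (hN₁ n (by omega) p hp)).of_iso e₂
    rw [← hsq.w] at hz
    exact (hz.of_iso e₁).of_iso ((Coh.RpushAb f p).mapIso
      ((SheafOfModules.toSheaf X.ringCatSheaf).mapIso a.symm))
  · haveI : Epi ((Scheme.Modules.pullbackPushforwardAdjunction f).counit.app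
        ((Scheme.Modules.pushforward g').obj M)) := by
      refine epi_counit_push hsq fun y => ?_
      obtain ⟨j, z, hz⟩ := C.exists_eq y
      exact ⟨_, isAffineOpen_opensRange (C.f j), ⟨z, hz⟩, fun x => hN₂ j n
        (le_trans (Finset.le_sup (Finset.mem_univ j)) (le_trans (le_max_right _ _) hn)) x⟩
    have := (Scheme.Modules.pullbackPushforwardAdjunction f).counit_naturality a.hom
    haveI : Epi ((Scheme.Modules.pullback f).map ((Scheme.Modules.pushforward f).map a.hom) ≫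
        (Scheme.Modules.pullbackPushforwardAdjunction f).counit.app
          (CohB1.tensorMod ((Coh.push g').obj G) (CohB1.tensorPow L n))) := by
      rw [this]
      infer_instance
    exact epi_of_epi ((Scheme.Modules.pullback f).map ((Scheme.Modules.pushforward f).map a.hom)) _

end Groth.Agent.RB70

end
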