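import Groth.Agent.Amp73.Avoid
import Groth.Agent.Amp73.QA
import Groth.Agent.FlatMor67.AmpleProjSpace
import Mathlib.Topology.NoetherianSpace
import Mathlib.Topology.KrullDimension

/-! Covering a scheme with an ample module by `dim + 1` affine opens. -/

set_option autoImplicit false
set_option linter.style.haveILetI false
set_option backward.isDefEq.respectTransparency.types false

noncomputable section

universe u

open CategoryTheory Limits AlgebraicGeometry TopologicalSpace

namespace Groth.Agent.RB70

variable {X : Scheme.{u}}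

/-- A quasi-projective scheme over a Noetherian ring has an ample module and is Noetherian. -/
theorem exists_isAmple_of_quasiProjective {A : Type u} [CommRing A] [_root_.IsNoetherianRing A] {n : ℕ}
    (j : X ⟶ CohB1.ProjSpaceOver n (Spec (CommRingCat.of A))) [IsImmersion j] :
    ∃ L : X.Modules, CohB1.IsAmple L ∧ IsNoetherian X := by
  let S := Spec (CommRingCat.of A)
  let q := CohB1.ProjSpaceOver.toBase n S
  haveI : IsProper q := Approx60.Segre.isProper_toBase n S
  haveI : IsLocallyNoetherian (CohB1.ProjSpaceOver n S) := LocallyOfFiniteType.isLocallyNoetherian q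
  haveI : CompactSpace ↥(CohB1.ProjSpaceOver n S) := QuasiCompact.compactSpace_of_compactSpace q
  haveI : IsNoetherian (CohB1.ProjSpaceOver n S) := { }
  haveI : NoetherianSpace X := j.isEmbedding.isInducing.noetherianSpace
  haveI : QuasiCompact j := ⟨fun U _ _ => NoetherianSpace.isCompact _⟩
  haveI : IsLocallyNoetherian X := LocallyOfFiniteType.isLocallyNoetherian j
  obtain ⟨L, hL⟩ := FlatMor67.AmpleProjSpace.exists_isAmple_of_immersion (S := S)
    ⟨_, Amp73.isQuasiAffine_iff_isAmple.mp inferInstance⟩ (f := j ≫ q) j rfl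
  exact ⟨L, hL, { }⟩

/-- `d + 1` affine opens cover a scheme of dimension `d` with an ample module. -/
theorem exists_affine_cover_dim {L : X.Modules} (h : CohB1.IsAmple L ∧ IsNoetherian X) {d : ℕ}
    (hX : topologicalKrullDim ↥X = d) :
    ∃ U : Fin (d + 1) → X.Opens, (∀ i, IsAffineOpen (U i)) ∧ ⨆ i, U i = ⊤ := by
  classical
  obtain ⟨hL, hN⟩ := h
  have hkd : Order.krullDim X = d := by
    rw [← hX, topologicalKrullDim]
    exact (Order.krullDim_eq_of_orderIso (irreducibleSetEquivPoints (α := X))).symm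
  -- an affine open containing a point above every point of a closed set
  have step : ∀ Z : Closeds X, ∃ G : X.Opens, IsAffineOpen G ∧ ∀ z ∈ Z, ∃ η ∈ Z, η ⤳ z ∧ η ∈ G := by
    intro Z
    obtain ⟨S, hS, hZ⟩ := NoetherianSpace.exists_finset_irreducible Z
    choose η hη using fun k : S => QuasiSober.sober (hS k) k.1.isClosed
    obtain ⟨G, -, hG, -, hGa⟩ := Amp73.exists_affine_genSet_of_finite hL (Set.finite_range η)
      (U := ⊤) (Set.subset_univ _)
    refine ⟨G, hGa, fun z hz => ?_⟩
    rw [hZ] at hz
    obtain ⟨k, hk, hzk⟩ : ∃ k ∈ S, z ∈ k := by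
      have : (z : X) ∈ ((S.sup id : Closeds X) : Set X) := hz
      simpa [Closeds.coe_finset_sup] using this
    have hmem : η ⟨k, hk⟩ ∈ (k : Set X) := (hη ⟨k, hk⟩).mem
    refine ⟨η ⟨k, hk⟩, ?_, (hη ⟨k, hk⟩).specializes hzk, hG ⟨_, rfl⟩⟩
    rw [hZ]
    exact (Finset.le_sup (f := id) hk : k ≤ S.sup id) hmem
  choose G hGa hG using step
  let Zs : ℕ → Closeds X := Nat.rec ⊤ fun _ Z => Z ⊓ ⟨(G Z : Set X)ᶜ, (G Z).isOpen.isClosed_compl⟩
  have hZs : ∀ i, ∀ z ∈ Zs i, Order.height z + i ≤ (d : ℕ∞) := by
    intro i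
    induction i with
    | zero =>
      intro z _
      have := Order.height_le_krullDim z
      rw [hkd] at this
      simpa using (by exact_mod_cast this : Order.height z ≤ (d : ℕ∞))
    | succ i ih =>
      intro z hz
      have hz' : z ∈ Zs i ∧ z ∈ (G (Zs i) : Set X)ᶜ := hz
      obtain ⟨η, hη, hsp, hηG⟩ := hG (Zs i) z hz'.1
      have hlt : z < η := lt_of_le_not_ge (Scheme.le_iff_specializes.2 hsp) fun e =>
        hz'.2 ((Scheme.le_iff_specializes.1 e).mem_open (G (Zs i)).2 hηG)
      calc Order.height z + ((i + 1 : ℕ) : ℕ∞) = (Order.height z + 1) + i := by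
            push_cast; ring
        _ ≤ Order.height η + i := by gcongr; exact Order.height_add_one_le hlt
        _ ≤ d := ih η hη
  refine ⟨fun i => G (Zs i), fun i => hGa _, top_le_iff.1 fun z _ => ?_⟩
  by_contra hz
  have hmem : ∀ i, i ≤ d + 1 → z ∈ Zs i := by
    intro i
    induction i with
    | zero => exact fun _ => trivial
    | succ i ih =>
      intro hi
      exact ⟨ih (by omega), fun hzG => hz (Opens.mem_iSup.2 ⟨⟨i, by omega⟩, hzG⟩)⟩
  have h1 := le_add_self.trans (hZs (d + 1) z (hmem _ le_rfl))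
  exact absurd h1 (by norm_cast; omega)

end Groth.Agent.RB70
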