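import Groth.Agent.RB70.AmpleSplit
import Groth.Agent.MP99.Ops
import Groth.Agent.S2153
import Groth.Agent.Amp73.QA

/-! Ampleness on a proper scheme is tested on the irreducible components. -/

set_option autoImplicit false
set_option backward.isDefEq.respectTransparency.types false
set_option linter.style.haveILetI false
set_option maxHeartbeats 1000000
set_option synthInstance.maxHeartbeats 200000

universe u

open CategoryTheory CategoryTheory.Limits AlgebraicGeometry Opposite TopologicalSpace

noncomputable section

namespace Groth.Agent.RB70

variable {X Z : Scheme.{u}} {L : X.Modules}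

/-- An ample module stays ample on closed subschemes. -/
theorem isAmple_pullback_closed [CompactSpace X] (i : Z ⟶ X) [IsClosedImmersion i] (h : CohB1.IsAmple L) :
    CohB1.IsAmple ((Scheme.Modules.pullback i).obj L) :=
  haveI : CompactSpace Z := i.isClosedEmbedding.compactSpace
  Amp73.isAmple_pullback_of_isEmbedding i i.isClosedEmbedding.isEmbedding h

variable {A : Type u} [CommRing A] [IsNoetherianRing A] (f : X ⟶ Spec (CommRingCat.of A)) [IsProper f]

include f in
theorem isAmple_subscheme_mul (hL : PicF.IsInvertible L) {P Q : X.IdealSheafData}
    (hP : CohB1.IsAmple ((Scheme.Modules.pullback P.subschemeι).obj L))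
    (hQ : CohB1.IsAmple ((Scheme.Modules.pullback Q.subschemeι).obj L)) :
    CohB1.IsAmple ((Scheme.Modules.pullback (P * Q).subschemeι).obj L) := by
  let j := (P * Q).subschemeι
  have hmul : P.comap j * Q.comap j = ⊥ := by
    rw [← MP99.comap_mul, ← le_bot_iff, ← Scheme.IdealSheafData.le_map_iff_comap_le,
      Scheme.IdealSheafData.map_bot]
    exact ((P * Q).ker_subschemeι).ge
  haveI : CompactSpace X := QuasiCompact.compactSpace_of_compactSpace f
  have key : ∀ R : X.IdealSheafData, CohB1.IsAmple ((Scheme.Modules.pullback R.subschemeι).obj L) →
      CohB1.IsAmple ((Scheme.Modules.pullback (R.comap j).subschemeι).obj ((Scheme.Modules.pullback j).obj L)) := by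
    intro R hR
    let g := Scheme.IdealSheafData.subschemeMap (R.comap j) R j (R.le_map_comap j)
    have hg : g ≫ R.subschemeι = (R.comap j).subschemeι ≫ j := Scheme.IdealSheafData.subschemeMap_subschemeι _ _ _ _
    haveI : IsClosedImmersion g :=
      haveI : IsClosedImmersion (g ≫ R.subschemeι) := hg ▸ inferInstance
      IsClosedImmersion.of_comp g R.subschemeι
    haveI : CompactSpace R.subscheme := R.subschemeι.isClosedEmbedding.compactSpace
    exact Amp73.isAmple_of_iso ((Scheme.Modules.pullbackComp g R.subschemeι).app L ≪≫
      (Scheme.Modules.pullbackCongr hg).app L ≪≫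
        ((Scheme.Modules.pullbackComp (R.comap j).subschemeι j).app L).symm) (isAmple_pullback_closed g hR)
  exact isAmple_of_mul_eq_bot (j ≫ f) (Amp73.isInvertible_pullback j hL) _ _ hmul (key P hP) (key Q hQ)

include f in
/-- Ampleness is tested on the irreducible components. -/
theorem isAmple_of_components (hL : PicF.IsInvertible L)
    (h : ∀ Z : Closeds X, (Z : Set X) ∈ irreducibleComponents X →
      CohB1.IsAmple ((Scheme.Modules.pullback (Scheme.IdealSheafData.vanishingIdeal Z).subschemeι).obj L)) :
    CohB1.IsAmple L := by
  classical
  haveI : IsLocallyNoetherian X := LocallyOfFiniteType.isLocallyNoetherian f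
  haveI : CompactSpace X := QuasiCompact.compactSpace_of_compactSpace f
  haveI : QuasiSeparatedSpace X := quasiSeparatedSpace_of_quasiSeparated f
  haveI : AlgebraicGeometry.IsNoetherian X := {}
  have hfin : (irreducibleComponents X).Finite := TopologicalSpace.NoetherianSpace.finite_irreducibleComponents
  rcases isEmpty_or_nonempty X with hX | hX
  · exact Amp73.isAmple_iff.2 ⟨hL, inferInstance, fun z => isEmptyElim z⟩
  -- products over sets of components
  have key : ∀ s : Finset (Set X), (↑s : Set (Set X)) ⊆ irreducibleComponents X → s.Nonempty →
      ∃ P : X.IdealSheafData, CohB1.IsAmple ((Scheme.Modules.pullback P.subschemeι).obj L) ∧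
        ∀ C ∈ s, C ⊆ (P.support : Set X) := by
    intro s
    induction s using Finset.induction_on with
    | empty => exact fun _ hs => absurd hs (by simp)
    | insert C s _ ih =>
      intro hs _
      rw [Finset.coe_insert, Set.insert_subset_iff] at hs
      let Z : Closeds X := ⟨C, isClosed_of_mem_irreducibleComponents C hs.1⟩
      have hZ : ((Scheme.IdealSheafData.vanishingIdeal Z).support : Set X) = C := by
        simp [Scheme.IdealSheafData.coe_support_vanishingIdeal, Z]
      rcases s.eq_empty_or_nonempty with rfl | hs0
      · refine ⟨_, h Z hs.1, fun D hD => ?_⟩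
        rw [Finset.mem_insert, or_iff_left (Finset.notMem_empty D)] at hD
        rw [hD, hZ]
      · obtain ⟨P, hP, hsup⟩ := ih hs.2 hs0
        refine ⟨_, isAmple_subscheme_mul f hL (h Z hs.1) hP, fun D hD => ?_⟩
        rw [Scheme.IdealSheafData.support_mul, Closeds.coe_sup, hZ]
        rcases Finset.mem_insert.1 hD with rfl | hD
        · exact Set.subset_union_left
        · exact (hsup D hD).trans Set.subset_union_right
  obtain ⟨P, hP, hsup⟩ := key hfin.toFinset (by simp) (by
    obtain ⟨x⟩ := hX
    exact ⟨_, hfin.mem_toFinset.2 (irreducibleComponent_mem_irreducibleComponents x)⟩)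
  refine (S2153.result P.subschemeι ?_ L hL).1 hP
  have hsur : Function.Surjective P.subschemeι.base := fun x => by
    have : x ∈ Set.range P.subschemeι := by
      rw [P.range_subschemeι]
      exact hsup _ (hfin.mem_toFinset.2 (irreducibleComponent_mem_irreducibleComponents x))
        mem_irreducibleComponent
    exact this
  exact isHomeomorph_iff_continuous_isClosedMap_bijective.2
    ⟨P.subschemeι.continuous, P.subschemeι.isClosedEmbedding.isClosedMap,
      P.subschemeι.isClosedEmbedding.injective, hsur⟩

end Groth.Agent.RB70

end
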