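import Groth.Agent.RB70.AmpleH1
import Groth.Agent.RB70.AmpleVanish
import Groth.Agent.EGA73.AmpleImmersion
import Groth.Agent.EGA73.AmpleBaseImmersion
import Groth.Agent.GenAff57.Ample
import Groth.Agent.Approx60.Segre
import Groth.Agent.Approx60.AmpleThickening
import Groth.Agent.Props58.PullTensor
import Groth.Agent.Crv77.TwistSection
import Mathlib.AlgebraicGeometry.Morphisms.Immersion

/-! Lifting sections of high powers of an ample module from a closed subscheme proper over the base. -/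

set_option autoImplicit false
set_option backward.isDefEq.respectTransparency.types false
set_option linter.style.haveILetI false
set_option maxHeartbeats 1000000
set_option synthInstance.maxHeartbeats 200000

universe u

open CategoryTheory CategoryTheory.Limits AlgebraicGeometry Opposite TopologicalSpace

noncomputable section

namespace Groth.Agent.RB70

open Amp73 Var76.LineBundle Var76.ZeroScheme

variable {A : Type u} [CommRing A] [IsNoetherianRing A] {P D : Scheme.{u}}

/-- On a scheme proper over a Noetherian ring, sections of high powers of an ample module on a closed subscheme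
lift to sections generating only inside a given neighbourhood. -/
theorem exists_lift_proper (p : P ⟶ Spec (CommRingCat.of A)) [IsProper p] {M : P.Modules}
    (hM : CohB1.IsAmple M) (d : D ⟶ P) [IsClosedImmersion d] (U : P.Opens) (hdU : ∀ z, d z ∈ U) :
    ∃ k₀ : ℕ, ∀ k, k₀ ≤ k → ∀ σ : Γ((Scheme.Modules.pullback d).obj (CohB1.tensorPow M k), ⊤),
      ∃ t : Coh.structureModule P ⟶ CohB1.tensorPow M k,
        CohB1.genLocus _ t ≤ U ∧ pullS d (CohB1.tensorPow M k) ⊤ (val _ t ⊤) = σ := by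
  classical
  haveI : IsLocallyNoetherian P := LocallyOfFiniteType.isLocallyNoetherian p
  haveI : CompactSpace P := QuasiCompact.compactSpace_of_compactSpace p
  haveI : QuasiSeparatedSpace P := quasiSeparatedSpace_of_quasiSeparated p
  haveI : AlgebraicGeometry.IsNoetherian P := {}
  haveI : IsLocallyNoetherian D := LocallyOfFiniteType.isLocallyNoetherian d
  obtain ⟨I, hIft, hIle, hI1⟩ := exists_ideal_nhd U (TopologicalSpace.NoetherianSpace.isCompact _)
  let u : Coh.structureModule P ⟶ (Scheme.Modules.pushforward d).obj (Coh.structureModule D) :=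
    SheafOfModules.unitToPushforwardObjUnit d.toRingCatSheafHom
  let φ₀ : ClSub.idealMod I ⟶ (Scheme.Modules.pushforward d).obj (Coh.structureModule D) :=
    ClSub.idealModι I ≫ u
  have hI : Coh.IsCoh (ClSub.idealMod I) := isCoh_idealMod hIft
  have hone : Coh.IsCoh (Coh.structureModule D) := QC70.isCoh_unit
  have hquot : Coh.IsCoh ((Scheme.Modules.pushforward d).obj (Coh.structureModule D)) :=
    QC70.isCoh_pushforward d _ hone
  obtain ⟨hJ, -⟩ := S9514.result P hI hquot φ₀
  obtain ⟨k₀, hk₀⟩ := exists_vanishing_ample p hM (kernel φ₀) hJ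
  refine ⟨k₀, fun k hk σ => ?_⟩
  let N := CohB1.tensorPow M k
  have hN : PicF.IsInvertible N := EGA73.isInvertible_tensorPow hM.1 _
  obtain ⟨w, hs⟩ := shortExact_factorThruImage (kernel.ι φ₀) φ₀ (kernel.condition _) (kernelIsKernel _)
  let Q := Abelian.image φ₀
  let π : CohB1.tensorMod (ClSub.idealMod I) N ⟶ CohB1.tensorMod Q N :=
    Crv77.twistMap (Abelian.factorThruImage φ₀) N
  have hsT : ((ShortComplex.mk (kernel.ι φ₀) (Abelian.factorThruImage φ₀) w).map (DCoh.tensorRightMod N)).ShortExact :=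
    Crv77.shortExact_tR_of_locally_flat (O := P.sheaf) N
      (Crv77.locally_flat_of_rank_one (Mero90.isFinLocFreeOfRank_of_isInvertible hN)) hs
  have hsur : Function.Surjective (π.app ⊤) := by
    haveI : Subsingleton (Sheaf.H (Crv77.abComplex
        ((ShortComplex.mk (kernel.ι φ₀) (Abelian.factorThruImage φ₀) w).map (DCoh.tensorRightMod N))).X₁ 1) :=
      hk₀ k hk 1 le_rfl
    exact Hilb90F24.surjective_of_H1 (Crv77.abComplex_shortExact hsT) isTerminalTop
  -- local lifts
  have hloc : ∀ z : P, ∃ (W : P.affineOpens) (_ : z ∈ W.1) (e : Γ(N, W.1)) (_ : IsFrame N W.1 e)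
      (m : Γ(ClSub.idealMod I, W.1)),
      d.app W.1 (OmegaSh.idealSect I W.1 m) • pullS d N W.1 e = res _ le_top σ := by
    intro z
    by_cases hz : z ∈ Set.range d
    · obtain ⟨y, rfl⟩ := hz
      obtain ⟨W, hzW, hWU, e, he⟩ := Mero90.exists_affine_frame hN (d y) U (hdU y)
      obtain ⟨m₁, hm₁⟩ := Curves2.exists_idealSect_of_mem I W (hI1 W hWU)
      obtain ⟨γ, hγ⟩ := ((isFrame_pullS d hN he) (d ⁻¹ᵁ W.1) le_rfl).2 (res _ le_top σ)
      dsimp only at hγ
      rw [Amp73.res_self] at hγ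
      have hsurd : Function.Surjective (d.app W.1) := d.app_surjective W.1 W.2
      obtain ⟨c, rfl⟩ := hsurd γ
      refine ⟨W, hzW, e, he, c • m₁, ?_⟩
      rw [show OmegaSh.idealSect I W.1 (c • m₁) = c * OmegaSh.idealSect I W.1 m₁ from
        Scheme.Modules.Hom.app_smul (ClSub.idealModι I) c m₁, hm₁, mul_one]
      exact hγ
    · obtain ⟨W, hzW, hWle, e, he⟩ := Mero90.exists_affine_frame hN z
        ⟨(Set.range d)ᶜ, d.isClosedEmbedding.isClosed_range.isOpen_compl⟩ hz
      refine ⟨W, hzW, e, he, 0, Var76.ZeroScheme.eq_of_locally _ _ _ fun y hy => absurd ⟨y, rfl⟩ (hWle hy)⟩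
  choose W hzW e he m hm using hloc
  let σ' : ∀ z, Γ(CohB1.tensorMod Q N, (W z).1) := fun z => π.app _ (tm (ClSub.idealMod I) N (m z) (e z))
  have hcompat : ∀ z z', res (CohB1.tensorMod Q N) (inf_le_left : (W z).1 ⊓ (W z').1 ≤ (W z).1) (σ' z) =
      res (CohB1.tensorMod Q N) (inf_le_right : (W z).1 ⊓ (W z').1 ≤ (W z').1) (σ' z') := by
    intro z z'
    let V := (W z).1 ⊓ (W z').1
    let hl : V ≤ (W z).1 := inf_le_left
    let hr : V ≤ (W z').1 := inf_le_right
    obtain ⟨v, hv⟩ := ((he z).res hl V le_rfl).2 (res N hr (e z'))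
    dsimp only at hv
    rw [Amp73.res_self] at hv
    let δ : Γ(ClSub.idealMod I, V) := res _ hl (m z) - v • res _ hr (m z')
    have hδ : φ₀.app V δ = 0 := by
      have hfr := isFrame_pullS d hN ((he z).res hl)
      have h1 := congrArg (res _ (d.preimage_mono hl)) (hm z)
      have h2 := congrArg (res _ (d.preimage_mono hr)) (hm z')
      rw [res_smul, res_pullS d N hl, res_res] at h1
      rw [res_smul, res_pullS d N hr, res_res] at h2
      rw [← hv, pullS_smul, smul_smul] at h2
      have key : ∀ a b : Γ(D, d ⁻¹ᵁ V), a • pullS d N V (res N hl (e z)) = b • pullS d N V (res N hl (e z)) → a = b :=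
        fun a b hab => (hfr (d ⁻¹ᵁ V) le_rfl).1 (by
          show a • res _ le_rfl (pullS d N V (res N hl (e z))) = b • res _ le_rfl (pullS d N V (res N hl (e z)))
          rw [Amp73.res_self]; exact hab)
      have h3 := key _ _ (h1.trans h2.symm)
      show d.app V (OmegaSh.idealSect I V (res _ hl (m z) - v • res _ hr (m z'))) = 0
      rw [map_sub, show OmegaSh.idealSect I V (v • res _ hr (m z')) = v * OmegaSh.idealSect I V (res _ hr (m z'))
        from Scheme.Modules.Hom.app_smul (ClSub.idealModι I) v _, map_sub, sub_eq_zero, map_mul,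
        show OmegaSh.idealSect I V (res _ hl (m z)) = fres hl (OmegaSh.idealSect I (W z).1 (m z)) from
          Mero90.app_res (ClSub.idealModι I) hl (m z),
        show OmegaSh.idealSect I V (res _ hr (m z')) = fres hr (OmegaSh.idealSect I (W z').1 (m z')) from
          Mero90.app_res (ClSub.idealModι I) hr (m z'), Approx60.app_fres, Approx60.app_fres]
      exact h3.trans (mul_comm _ _)
    have hfac : (Abelian.factorThruImage φ₀).app V δ = 0 := by
      refine QC70.app_injective_of_mono (Abelian.image.ι φ₀) V ?_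
      rw [map_zero]
      refine Eq.trans ?_ hδ
      exact congr(Scheme.Modules.Hom.app $(Abelian.image.fac φ₀) V δ)
    have hkey : π.app V (tm (ClSub.idealMod I) N δ (res N hl (e z))) = 0 := by
      rw [Crv77.twist_map_tm, hfac]
      have h0 := tm_smul_left (L := Q) (M := N) (0 : Γ(P, V)) 0 (res N hl (e z))
      rw [smul_zero, zero_smul] at h0
      exact h0
    show res _ hl (π.app _ _) = res _ hr (π.app _ _)
    rw [← Mero90.app_res, ← Mero90.app_res, res_tm, res_tm, ← hv, tm_smul_right, ← tm_smul_left]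
    rw [← sub_eq_zero, ← map_sub, ← hkey]
    refine congrArg (π.app V) ?_
    rw [sub_eq_iff_eq_add, ← tm_add_left, sub_add_cancel]
  obtain ⟨t', ht', -⟩ := TopCat.Sheaf.existsUnique_gluing'
    (⟨(CohB1.tensorMod Q N).presheaf, (CohB1.tensorMod Q N).isSheaf⟩ : TopCat.Sheaf _ P.toTopCat)
    (fun z => (W z).1) ⊤ (fun _ => homOfLE le_top) (fun z _ => Opens.mem_iSup.2 ⟨z, hzW z⟩) σ' hcompat
  obtain ⟨t, ht⟩ := hsur t'
  let s := (idealPairing I N).lift.app ⊤ t
  let τ := Var76.Frames.ofSection N s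
  have hval : ∀ V, val N τ V = res N le_top s := fun V => Var76.Frames.val_ofSection _ _ V
  refine ⟨τ, le_of_isFrame_lift hIle hN (res _ le_top t) ?_, ?_⟩
  · rw [Mero90.app_res, ← hval]
    exact isFrame_genLocus τ
  refine Var76.ZeroScheme.eq_of_locally _ _ _ fun y _ => ?_
  let z := d y
  refine ⟨d ⁻¹ᵁ (W z).1, le_top, hzW z, ?_⟩
  refine Eq.trans ?_ (hm z)
  rw [hval, Amp73.res_self]
  refine (res_pullS d N (le_top : (W z).1 ≤ ⊤) s).trans ?_
  have hd : π.app (W z).1 (res _ (le_top : (W z).1 ≤ ⊤) t - tm (ClSub.idealMod I) N (m z) (e z)) = 0 := by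
    rw [map_sub, Mero90.app_res, ht]
    exact sub_eq_zero.2 (ht' z)
  haveI : Mono ((ShortComplex.mk (kernel.ι φ₀) (Abelian.factorThruImage φ₀) w).map (DCoh.tensorRightMod N)).f :=
    hsT.mono_f
  obtain ⟨κ, hκ⟩ := QC70.exists_app_eq_of_exact _ hsT.exact (W z).1 _ hd
  obtain ⟨j, hj⟩ := exists_eq_tm_frame (L := kernel φ₀) (he z) le_rfl κ
  rw [Amp73.res_self] at hj
  have hkt : tm (ClSub.idealMod I) N ((kernel.ι φ₀).app (W z).1 j) (e z) =
      res _ (le_top : (W z).1 ≤ ⊤) t - tm (ClSub.idealMod I) N (m z) (e z) := by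
    rw [← hκ, ← hj]
    exact (Crv77.twist_map_tm (kernel.ι φ₀) N (W z).1 j (e z)).symm
  have hres : res (CohB1.tensorMod (ClSub.idealMod I) N) (le_top : (W z).1 ≤ ⊤) t =
      tm (ClSub.idealMod I) N (m z + (kernel.ι φ₀).app (W z).1 j) (e z) := by
    rw [tm_add_left, hkt, add_sub_cancel]
  have h0 : d.app (W z).1 (OmegaSh.idealSect I (W z).1 ((kernel.ι φ₀).app (W z).1 j)) = 0 :=
    congr(Scheme.Modules.Hom.app $(kernel.condition φ₀) (W z).1 j)
  have hu : res N (le_top : (W z).1 ≤ ⊤) s =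
      OmegaSh.idealSect I (W z).1 (m z + (kernel.ι φ₀).app (W z).1 j) • e z := by
    show res N (le_top : (W z).1 ≤ ⊤) ((idealPairing I N).lift.app ⊤ t) = _
    rw [← Mero90.app_res, hres]
    exact (idealPairing I N).lift_tmul (W z).1 _ (e z)
  rw [hu, pullS_smul, map_add, map_add, h0, add_zero]

/-- On a scheme of finite type over a Noetherian ring with an ample module, sections of suitable high powers on
a closed subscheme proper over the base lift to sections with affine locus of generation. -/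
theorem exists_affine_lift {Xt : Scheme.{u}} (p : Xt ⟶ Spec (CommRingCat.of A)) [LocallyOfFiniteType p]
    {M : Xt.Modules} (hM : CohB1.IsAmple M) (i : D ⟶ Xt) [IsClosedImmersion i] [IsProper (i ≫ p)] :
    ∃ N, 0 < N ∧ ∃ k₀ : ℕ, ∀ k, k₀ ≤ k → ∀ σ : Γ((Scheme.Modules.pullback i).obj (CohB1.tensorPow M (N * k)), ⊤),
      ∃ t : Coh.structureModule Xt ⟶ CohB1.tensorPow M (N * k),
        IsAffineOpen (CohB1.genLocus _ t) ∧ pullS i (CohB1.tensorPow M (N * k)) ⊤ (val _ t ⊤) = σ := by
  obtain ⟨n₀, hn₀, hva⟩ := EGA73.AmpleImmersion.eventually_isRelVeryAmplePn p hM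
    (PicLoc.isInvertible_structureModule Xt)
  obtain ⟨r, j, hj, hjp, ⟨e⟩⟩ := hva n₀ le_rfl
  haveI := hj
  let b : CohB1.ProjSpaceOver r (Spec (CommRingCat.of A)) ⟶ Spec (CommRingCat.of A) :=
    CohB1.ProjSpaceOver.toBase r _
  haveI : IsProper b := Approx60.Segre.isProper_toBase r _
  let O1 := Twist.twistOver r (Spec (CommRingCat.of A)) 1
  have hO1 : CohB1.IsAmple O1 :=
    (Amp73.isRelAmple_iff_isAmple b).1 (EGA73.VeryAmplePnAmple.isRelAmple_twistOver r _)
  let d := i ≫ j
  haveI : IsProper (d ≫ b) := by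
    rw [Category.assoc, show j ≫ b = p from hjp]; infer_instance
  haveI : IsProper d := IsProper.of_comp d b
  haveI : IsImmersion d := inferInstanceAs (IsImmersion (i ≫ j))
  haveI : IsClosedImmersion d := EGA73.AmpleBaseImmersion.isClosedImmersion_of_isImmersion_of_isProper d
  obtain ⟨k₀, hk₀⟩ := exists_lift_proper b hO1 d j.coborderRange
    fun z => subset_coborder ⟨i z, rfl⟩
  refine ⟨n₀, hn₀, k₀ + 1, fun k hk σ => ?_⟩
  haveI := Crv77.isIso_unitTm (EGA73.isInvertible_tensorPow hM.1 n₀)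
  let ε : (Scheme.Modules.pullback j).obj O1 ≅ CohB1.tensorPow M n₀ :=
    e.symm ≪≫ EGA73.tensUnitLeft (CohB1.tensorPow M n₀)
  let Φ : (Scheme.Modules.pullback j).obj (CohB1.tensorPow O1 k) ≅ CohB1.tensorPow M (n₀ * k) :=
    pullPowIso j hO1.1 k ≪≫ powIso ε k ≪≫ powMul M n₀ k
  let Ψ : (Scheme.Modules.pullback i).obj (CohB1.tensorPow M (n₀ * k)) ≅
      (Scheme.Modules.pullback d).obj (CohB1.tensorPow O1 k) :=
    (Scheme.Modules.pullback i).mapIso Φ.symm ≪≫ (Scheme.Modules.pullbackComp i j).app (CohB1.tensorPow O1 k)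
  obtain ⟨t₀, hgen, ht₀⟩ := hk₀ k (by omega) (Ψ.hom.app ⊤ σ)
  refine ⟨pullHom j t₀ ≫ Φ.hom, ?_, ?_⟩
  · rw [genLocus_comp_iso, genLocus_pullHom j (EGA73.isInvertible_tensorPow hO1.1 k) t₀]
    let G := CohB1.genLocus _ t₀
    have hG : IsAffineOpen G :=
      GenAff57.isAffineOpen_genLocus b ((isAmple_tensorPow_iff hO1.1 (by omega : 0 < k)).1 hO1) t₀
    have hG' : IsAffineOpen (j.coborderRange.ι ⁻¹ᵁ G) := by
      rw [← Scheme.Hom.isAffineOpen_iff_of_isOpenImmersion j.coborderRange.ι,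
        Scheme.Hom.image_preimage_eq_opensRange_inf, Scheme.Opens.opensRange_ι, inf_eq_right.2 hgen]
      exact hG
    have h2 := hG'.preimage j.liftCoborder
    rw [← Scheme.Hom.comp_preimage, Scheme.Hom.liftCoborder_ι] at h2
    exact h2
  · have hv : val _ (pullHom j t₀ ≫ Φ.hom) ⊤ = Φ.hom.app ⊤ (pullS j (CohB1.tensorPow O1 k) ⊤ (val _ t₀ ⊤)) :=
      congrArg (Φ.hom.app ⊤) (val_pullHom j t₀ ⊤)
    refine (ConcreteCategory.bijective_of_isIso (Ψ.hom.app ⊤)).1 ?_
    rw [← ht₀, hv]
    have h1 := map_app_pullS i Φ.inv ⊤ (Φ.hom.app ⊤ (pullS j (CohB1.tensorPow O1 k) ⊤ (val _ t₀ ⊤)))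
    have h2 : Φ.inv.app ⊤ (Φ.hom.app ⊤ (pullS j (CohB1.tensorPow O1 k) ⊤ (val _ t₀ ⊤))) =
        pullS j (CohB1.tensorPow O1 k) ⊤ (val _ t₀ ⊤) :=
      congr(Scheme.Modules.Hom.app $(Φ.hom_inv_id) ⊤ _)
    rw [h2] at h1
    have h3 : pullS i ((Scheme.Modules.pullback j).obj (CohB1.tensorPow O1 k)) ⊤
        (pullS j (CohB1.tensorPow O1 k) ⊤ (val _ t₀ ⊤)) =
        ((Scheme.Modules.pullbackComp i j).inv.app (CohB1.tensorPow O1 k)).app ⊤
          (pullS d (CohB1.tensorPow O1 k) ⊤ (val _ t₀ ⊤)) :=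
      (Props58.PullTensor.pullS_comp i j (CohB1.tensorPow O1 k) ⊤ (val _ t₀ ⊤)).symm
    refine (congrArg (((Scheme.Modules.pullbackComp i j).hom.app _).app ⊤) (h1.trans h3)).trans ?_
    exact congr(Scheme.Modules.Hom.app $((Scheme.Modules.pullbackComp i j).inv_hom_id_app _) ⊤ _)

end Groth.Agent.RB70

end
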