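import Groth.Agent.RB70.AmpleH1
import Groth.Agent.RB70.AmpleVanish
import Groth.Agent.RB70.ThickGen
import Groth.Agent.GSS45.ClosedHom
import Groth.Agent.QC70.Ideal
import Groth.Agent.E4O.InfDescent
import Groth.Agent.CartMod7.Affine

/-! Ampleness from two closed subschemes whose ideals multiply to zero. -/

set_option autoImplicit false
set_option backward.isDefEq.respectTransparency.types false
set_option linter.style.haveILetI false
set_option maxHeartbeats 1000000
set_option synthInstance.maxHeartbeats 200000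

universe u

open CategoryTheory CategoryTheory.Limits AlgebraicGeometry Opposite TopologicalSpace

noncomputable section

namespace Groth.Agent.RB70

variable {X Z : Scheme.{u}}

/-- Serre vanishing for a coherent module killed by the ideal of a closed subscheme. -/
theorem exists_vanish_killed {A : Type u} [CommRing A] [IsNoetherianRing A] (f : X ⟶ Spec (CommRingCat.of A))
    [IsProper f] (i : Z ⟶ X) [IsClosedImmersion i] {L : X.Modules} (hL : PicF.IsInvertible L)
    (hamp : CohB1.IsAmple ((Scheme.Modules.pullback i).obj L))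
    {G : X.Modules} (hG : Coh.IsCoh G) (hk : GSS45.Descend.IsKilled i G) :
    ∃ n₀ : ℕ, ∀ n, n₀ ≤ n → Subsingleton (Coh.HH X (CohB1.tensorMod G (CohB1.tensorPow L n)) 1) := by
  have h0 : Coh.IsCoh ((Scheme.Modules.pullback i).obj G) := E4O.isCoh_pullback i G hG
  obtain ⟨n₀, hn₀⟩ := exists_vanishing_ample (i ≫ f) hamp _ h0
  refine ⟨n₀, fun n hn => ?_⟩
  let M := CohB1.tensorMod ((Scheme.Modules.pullback i).obj G)
    (CohB1.tensorPow ((Scheme.Modules.pullback i).obj L) n)
  haveI : M.IsQuasicoherent := by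
    haveI := h0.1
    haveI := Mero90.isQCoh_of_isInvertible (EGA73.isInvertible_tensorPow hamp.1 n)
    exact QCTens72.isQuasicoherent_tensorMod _ _
  haveI := subsingleton_hh_push i M 1 (hn₀ n hn 1 le_rfl)
  obtain ⟨e⟩ := nonempty_push_twist i ((Scheme.Modules.pullback i).obj G) hL (Iso.refl _) n
  let e' := e ≪≫ EGA73.tensIso (GSS45.ClosedHom.pullPushIso i hk) (Iso.refl (CohB1.tensorPow L n))
  exact ValVan29.subsingleton_hh_of_iso e' 1 inferInstance

/-- `L` is ample if its restrictions to `V(I)` and `V(J)` are ample and `IJ = 0`. -/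
theorem isAmple_of_mul_eq_bot {A : Type u} [CommRing A] [IsNoetherianRing A] (f : X ⟶ Spec (CommRingCat.of A))
    [IsProper f] {L : X.Modules} (hL : PicF.IsInvertible L) (I J : X.IdealSheafData) (hIJ : I * J = ⊥)
    (hI : CohB1.IsAmple ((Scheme.Modules.pullback I.subschemeι).obj L))
    (hJ : CohB1.IsAmple ((Scheme.Modules.pullback J.subschemeι).obj L)) : CohB1.IsAmple L := by
  haveI : IsLocallyNoetherian X := LocallyOfFiniteType.isLocallyNoetherian f
  haveI : CompactSpace X := QuasiCompact.compactSpace_of_compactSpace f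
  haveI : QuasiSeparatedSpace X := quasiSeparatedSpace_of_quasiSeparated f
  refine isAmple_of_H1 hL fun F ι _ hF => ?_
  haveI := hF.1
  haveI := hF.2
  haveI := QC70.isQuasicoherent_idealMul I F
  have hIF : Coh.IsCoh ((Dual3.idealMul I).obj F) := ⟨‹_›, QC70.isFiniteType_idealMul I F⟩
  let S := ShortComplex.mk (Dual3.idealMulι I F) (cokernel.π _) (cokernel.condition _)
  have hS : S.ShortExact :=
    { exact := ShortComplex.exact_of_g_is_cokernel _ (cokernelIsCokernel _) }
  haveI : (cokernel (Dual3.idealMulι I F)).IsQuasicoherent := QC70.isQuasicoherent_cokernel _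
  have hQ : Coh.IsCoh (cokernel (Dual3.idealMulι I F)) :=
    ⟨‹_›, QC70.isFiniteType_of_epi (cokernel.π _)⟩
  have hk1 : GSS45.Descend.IsKilled J.subschemeι ((Dual3.idealMul I).obj F) := fun U a ha s => by
    rw [J.ker_subschemeι] at ha
    refine QC70.app_injective_of_mono (Dual3.idealMulι I F) U.1 ?_
    rw [map_zero, Scheme.Modules.Hom.app_smul]
    refine Submodule.smul_induction_on ((QC70.mem_idealMul_iff I F U _).1 ⟨s, rfl⟩) (fun b hb y _ => ?_)
      (fun y z hy hz => by rw [smul_add, hy, hz, add_zero])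
    have h0 : a * b ∈ (I * J).ideal U := by
      rw [Scheme.IdealSheafData.ideal_mul, Pi.mul_apply, mul_comm a b]
      exact Ideal.mul_mem_mul hb ha
    rw [hIJ, Scheme.IdealSheafData.ideal_bot, Pi.bot_apply, Ideal.mem_bot] at h0
    rw [smul_smul, h0, zero_smul]
  have hk2 : GSS45.Descend.IsKilled I.subschemeι (cokernel (Dual3.idealMulι I F)) := fun U a ha s => by
    rw [I.ker_subschemeι] at ha
    obtain ⟨x, rfl⟩ := CartMod7.app_surjective_of_epi (cokernel.π (Dual3.idealMulι I F)) U.2 s
    rw [← Scheme.Modules.Hom.app_smul]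
    obtain ⟨c, hc⟩ := (QC70.mem_idealMul_iff I F U (a • x)).2 (Submodule.smul_mem_smul ha trivial)
    rw [← hc]
    exact congr((Scheme.Modules.Hom.app $(cokernel.condition (Dual3.idealMulι I F)) U.1) c)
  obtain ⟨n₁, hn₁⟩ := exists_vanish_killed f J.subschemeι hL hJ hIF hk1
  obtain ⟨n₂, hn₂⟩ := exists_vanish_killed f I.subschemeι hL hI hQ hk2
  refine ⟨max n₁ n₂, ?_⟩
  let M := CohB1.tensorPow L (max n₁ n₂ + 1)
  have hsT : (S.map (DCoh.tensorRightMod M)).ShortExact :=
    Crv77.shortExact_tR_of_locally_flat (O := X.sheaf) M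
      (Crv77.locally_flat_of_rank_one (Mero90.isFinLocFreeOfRank_of_isInvertible
        (EGA73.isInvertible_tensorPow hL _))) hS
  exact @Coh69.ext_subsingleton_X₂ _ _ _ _ _ (Crv77.abComplex_shortExact hsT) _ 1
    (hn₁ _ (by omega)) (hn₂ _ (by omega))

end Groth.Agent.RB70

end
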