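import Groth.Agent.Coh69.QCohCech
import Groth.Agent.QCqs72.Basic
import Mathlib.AlgebraicGeometry.Morphisms.Separated

/-! Cech acyclicity of a standard covering of a quasi-compact open of a separated scheme. -/

set_option autoImplicit false
set_option backward.isDefEq.respectTransparency.types false

universe u

open CategoryTheory Limits AlgebraicGeometry Opposite TopologicalSpace

namespace Groth.Agent.RB70

open Coh69

variable {X : Scheme.{u}} {V : X.Opens} {ι : Type u} {f : ι → Γ(X, V)} (M : X.Modules)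

lemma isCompact_cOpen [X.IsSeparated] {κ : Type u} (U : κ → X.Opens)
    (hc : ∀ k, IsCompact (U k : Set X)) {n : ℕ} (i : Fin (n + 1) → κ) :
    IsCompact (cOpen U i : Set X) := by
  induction n with
  | zero =>
    have : cOpen U i = U (i 0) :=
      le_antisymm (cOpen_le _ i 0) (le_cOpen _ fun j => by rw [show j = 0 from Fin.ext (by omega)])
    rw [this]
    exact hc _
  | succ n ih =>
    rw [← Fin.cons_self_tail i, cOpen_cons]
    exact QuasiSeparatedSpace.inter_isCompact _ _ (U (i 0)).2 (hc _) (cOpen U (Fin.tail i)).2 (ih _)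

/-- Cech acyclicity of a standard covering of an affine open for quasi-coherent modules. -/
theorem cechAcyclic_standard_qcqs [X.IsSeparated] [M.IsQuasicoherent] [Finite ι]
    (hc : ∀ k, IsCompact (X.basicOpen (f k) : Set X)) (hf : Ideal.span (Set.range f) = ⊤) :
    CechAcyclic (fun k => X.basicOpen (f k)) M.presheaf := by
  let U := fun k => X.basicOpen (f k)
  have hle : ∀ {m : ℕ} (i : Fin (m + 1) → ι), cOpen U i ≤ V := fun i =>
    (cOpen_le U i 0).trans (X.basicOpen_le _)
  refine cechAcyclic_of_bijective (toCap M.presheaf V) (fun m i => ?_) ?_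
  · have : IsIso (homOfLE (inf_le_left : cOpen U i ⊓ V ≤ cOpen U i)) :=
      ⟨homOfLE (le_inf le_rfl (hle i)), Subsingleton.elim _ _, Subsingleton.elim _ _⟩
    exact ConcreteCategory.bijective_of_isIso
      (M.presheaf.map (homOfLE (inf_le_left : cOpen U i ⊓ V ≤ cOpen U i)).op)
  let : ∀ W : X.Opens, Module Γ(X, V) ((capPresheaf M.presheaf V).obj (op W)) :=
    fun W => capModule M W
  have hlin : ResLinear (capPresheaf M.presheaf V) Γ(X, V) := fun W W' h a s =>
    map_res_smul M (inf_le_inf_right V h) inf_le_right a s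
  have hpow : ∀ (W : X.Opens) (g : Γ(X, V)) (n : ℕ) (s : (capPresheaf M.presheaf V).obj (op W)),
      g ^ n • s = (show (capPresheaf M.presheaf V).obj (op W) from
        (X.presheaf.map (homOfLE (inf_le_right : W ⊓ V ≤ V)).op g) ^ n • (show Γ(M, W ⊓ V) from s)) :=
    fun W g n s => congrArg (fun z : Γ(X, W ⊓ V) => z • (show Γ(M, W ⊓ V) from s))
      (map_pow (X.presheaf.map (homOfLE (inf_le_right : W ⊓ V ≤ V)).op).hom g n)
  have key : ∀ (k : ι) {m : ℕ} (i : Fin (m + 1) → ι),
      cOpen U (Fin.cons k i : Fin (m + 2) → ι) ⊓ V =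
        X.basicOpen (X.presheaf.map (homOfLE (inf_le_right : cOpen U i ⊓ V ≤ V)).op (f k)) := by
    intro k m i
    rw [Scheme.basicOpen_res, cOpen_cons]
    ac_rfl
  have hloc : ∀ {m : ℕ} (i : Fin (m + 1) → ι), QC70.IsLocAt M (cOpen U i ⊓ V) := fun i => by
    rw [inf_eq_left.2 (hle i)]
    exact QCqs72.isLocAt_of_qcqs M (isCompact_cOpen U hc i)
      (IsQuasiSeparated.of_quasiSeparatedSpace _)
  refine cechAcyclic_of_localizing U _ hlin f hf (fun k m i s => ?_) (fun k m i t ht => ?_)
  · let s₀ : Γ(M, cOpen U (Fin.cons k i : Fin (m + 2) → ι) ⊓ V) := s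
    obtain ⟨n, t, ht⟩ := (hloc i).exists_of _
      (M.presheaf.map (homOfLE (key k i).ge).op s₀)
    refine ⟨n, t, ?_⟩
    have h := congrArg (M.presheaf.map (homOfLE (key k i).le).op) ht
    rw [Scheme.Modules.map_smul, map_pow, ring_map_map, ring_map_map, module_map_map,
      module_map_map] at h
    rw [hpow]
    refine h.trans ?_
    rw [show (homOfLE _).op = 𝟙 (op (cOpen U (Fin.cons k i : Fin (m + 2) → ι) ⊓ V)) from rfl,
      CategoryTheory.Functor.map_id]
    rfl
  · let t₀ : Γ(M, cOpen U i ⊓ V) := t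
    have ht₀ : M.presheaf.map (homOfLE (inf_le_inf_right V (cOpen_cons_le U k i))).op t₀ = 0 := ht
    obtain ⟨n, hn⟩ := (hloc i).eq_zero_of _ t₀ (by
      have h := congrArg (M.presheaf.map (homOfLE (key k i).ge).op) ht₀
      rw [map_zero, module_map_map] at h
      exact h)
    refine ⟨n, ?_⟩
    rw [hpow]
    exact hn

end Groth.Agent.RB70
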