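import Groth.Agent.RB70.PnModuleTwist
import Groth.Agent.SiteMod.FreeCompact
import Groth.Agent.TopCoh49.ColimCoh
import Groth.Agent.Mod48.Exact
import Groth.Agent.QCPull72.Closed
import Groth.Agent.TwTens96.Basic

/-! Higher direct images of sums of negative twists of modules from the base. -/

set_option autoImplicit false
set_option backward.isDefEq.respectTransparency.types false
set_option linter.style.haveILetI false
set_option maxHeartbeats 1000000
set_option synthInstance.maxHeartbeats 200000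

universe u

open CategoryTheory CategoryTheory.Limits AlgebraicGeometry Opposite TopologicalSpace

noncomputable section

namespace Groth.Agent.RB70

/-- Cohomology over a quasi-compact open of a sum of modules vanishes if that of each summand does. -/
theorem subsingleton_HE_coprod {X : Scheme.{u}} [QuasiSeparatedSpace X] {ι : Type u} (M : ι → X.Modules)
    {U : X.Opens} (hU : IsCompact (U : Set X)) (q : ℕ) (h : ∀ j, Subsingleton (Coh69.HE (Coh.toAb (M j)) q U)) :
    Subsingleton (Coh69.HE (Coh.toAb (∐ M)) q U) := by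
  let T := SheafOfModules.toSheaf.{u} X.ringCatSheaf
  let G : CohTop.Ab X.toTopCat ⥤ AddCommGrpCat.{u} :=
    (Sheaf.cohomologyPresheafFunctor (Opens.grothendieckTopology X) q).flip.obj (op U)
  have hmap : ∀ {P Q : CohTop.Ab X.toTopCat} (g : P ⟶ Q) (x : TopCoh49.E P q U),
      G.map g x = x.comp (Abelian.Ext.mk₀ g) (add_zero q) :=
    fun g x => TopCoh49.flip_extFunctor_map_app (TopCoh49.freeFun X.toTopCat) q g U x
  haveI : G.Additive := ⟨fun {P Q f g} => by
    ext x
    refine (hmap (f + g) x).trans ?_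
    rw [Abelian.Ext.mk₀_add, Abelian.Ext.comp_add]
    exact (congrArg₂ (· + ·) (hmap f x) (hmap g x)).symm⟩
  have hG : ∀ (K : Type u) [SmallCategory K] [IsFiltered K], PreservesColimitsOfShape K G :=
    fun K _ _ => TopCoh49.colim_HU hU q
  haveI : PreservesColimitsOfShape (Discrete ι) T :=
    Mod48.toSheaf_preservesColimitsOfShape (O := X.sheaf) (Discrete ι)
  have hs : Subsingleton (G.obj (∐ fun j => T.obj (M j))) := by
    refine subsingleton_of_forall_eq 0 fun x => ?_
    obtain ⟨S, hS⟩ := SiteMod.exists_sum_of_filtered G hG (fun j => T.obj (M j)) x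
    rw [hS]
    refine Finset.sum_eq_zero fun k _ => ?_
    haveI : Subsingleton (G.obj (T.obj (M k))) := h k
    rw [Subsingleton.elim (G.map _ x) 0, map_zero]
  exact (G.mapIso (PreservesCoproduct.iso T M)).addCommGroupIsoToAddEquiv.toEquiv.subsingleton

/-- Higher direct images of sums of twists of modules from the base vanish outside the classical degrees. -/
theorem isZero_RF_coprod (n : ℕ) (T : Scheme.{u}) [QuasiSeparatedSpace T] {ι : Type u} (G : ι → T.Modules)
    (hG : ∀ j, Coh.IsQCoh (G j)) (d : ι → ℤ) (i : ℕ)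
    (h : ∀ j, ¬ ((i = 0 ∧ 0 ≤ d j) ∨ (i = n ∧ d j ≤ -((n : ℤ) + 1)))) :
    IsZero ((Coh.RpushAb (KRR.pr n T) i).obj (Coh.toAb
      (∐ fun j => CohB1.tensorMod ((Scheme.Modules.pullback (KRR.pr n T)).obj (G j)) (Twist.twistOver n T (d j))))) := by
  haveI : QuasiSeparatedSpace (KRR.PY n T) := quasiSeparatedSpace_of_quasiSeparated (KRR.pr n T)
  refine Coh69.isZero_RpushAb_of_subsingleton _ _ _ fun U y hy => ?_
  obtain ⟨V, hV, hyV, hVU⟩ := exists_isAffineOpen_mem_and_subset hy
  refine ⟨V, hVU, hyV, ?_⟩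
  let j := KRR40.affPn n T hV
  have himg : j.isOpenEmbedding.functor.obj ⊤ = KRR.pr n T ⁻¹ᵁ V := KRR40.affPn_image_top n T hV
  refine subsingleton_HE_coprod _ ((KRR.pr n T).isCompact_preimage hV.isCompact) i fun k => ?_
  haveI : (G k).IsQuasicoherent := hG k
  let N := (Scheme.Modules.pullback hV.fromSpec).obj (G k)
  haveI : N.IsQuasicoherent := QCPull72.isQuasicoherent_pullback hV.fromSpec (G k)
  obtain ⟨et⟩ := KRR40.nonempty_pullback_affPn_twist n T hV (d k)
  let eG : (Scheme.Modules.pullback j).obj ((Scheme.Modules.pullback (KRR.pr n T)).obj (G k)) ≅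
      (Scheme.Modules.pullback (CohB1.ProjSpace.toSpec n Γ(T, V))).obj (tilde (moduleSpecΓFunctor.obj N)) :=
    (Scheme.Modules.pullbackComp j (KRR.pr n T)).app (G k) ≪≫
      (Scheme.Modules.pullbackCongr (KRR40.affPn_pr n T hV)).app (G k) ≪≫
      ((Scheme.Modules.pullbackComp (CohB1.ProjSpace.toSpec n Γ(T, V)) hV.fromSpec).app (G k)).symm ≪≫
      (Scheme.Modules.pullback (CohB1.ProjSpace.toSpec n Γ(T, V))).mapIso (asIso N.fromTildeΓ).symm
  let M := CohB1.tensorMod ((Scheme.Modules.pullback (KRR.pr n T)).obj (G k)) (Twist.twistOver n T (d k))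
  let e : (Scheme.Modules.pullback j).obj M ≅ CohB1.tensorMod
      ((Scheme.Modules.pullback (CohB1.ProjSpace.toSpec n Γ(T, V))).obj (tilde (moduleSpecΓFunctor.obj N)))
      (Twist.twistProjSpace n Γ(T, V) (d k)) :=
    (TwTens96.pullTensIso j _ _) ≪≫ EGA73.tensIso eG et
  have hs : Subsingleton (Coh.HH (CohB1.ProjSpace n Γ(T, V)) (M.restrict j) i) :=
    ValVan29.subsingleton_hh_of_iso (((Scheme.Modules.restrictFunctorIsoPullback j).app M) ≪≫ e).symm i
      (subsingleton_hh_tilde_twist n (d k) i (fun h' => h k (Or.inl h')) (fun h' => h k (Or.inr h')) _)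
  obtain ⟨e'⟩ := Coh69.restr_nonempty_equiv j.isOpenEmbedding (Coh.toAb M) i (⊤ : (CohB1.ProjSpace n Γ(T, V)).Opens)
  rw [himg] at e'
  exact (e'.trans (Coh69.hhEquiv (M.restrict j) i).symm).toEquiv.subsingleton

end Groth.Agent.RB70

end
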