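import Groth.Agent.Mum71.SchemeModel
import Groth.Agent.FCx40.DvrRank
import Groth.Prelude.Def_PerfAux

/-! Fibre ranks of a proper flat family over a discrete valuation ring. -/

set_option autoImplicit false
set_option maxSynthPendingDepth 6
set_option synthInstance.maxHeartbeats 200000
set_option linter.style.haveILetI false
set_option backward.isDefEq.respectTransparency.types false

universe u

noncomputable section

open CategoryTheory CategoryTheory.Limits AlgebraicGeometry TopologicalSpace Opposite TensorProduct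
open CohIII (T)
open Groth.Agent.Mum71

namespace Groth.Agent.RB70

variable (A : Type u) [CommRing A] [IsNoetherianRing A] (X : Scheme.{u})
  [X.Over (Spec (CommRingCat.of A))] [IsProper (X ↘ Spec (CommRingCat.of A))]

/-- The complex of a proper flat family over an affine base: cohomology over the ring, and the
dimensions of the cohomology of the fibres. -/
theorem exists_spec_model (F : X.Modules) (hF : Coh.IsCoh F)
    (hfl : FlatMod.IsFlatOver (X ↘ Spec (CommRingCat.of A)) F) :
    ∃ P : ChainComplex (ModuleCat.{u} A) ℤ,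
      (∀ i, Module.Finite A (P.X i) ∧ Module.Flat A (P.X i)) ∧
      (∀ p : ℕ, Nonempty (Coh.HH X F p ≃ₗ[A] P.homology (-(p : ℤ)))) ∧
      ∀ (p : ℕ) (y : ↥(Spec (CommRingCat.of A))),
        PerfAux.betti (X ↘ Spec (CommRingCat.of A)) F y p = CohIII.dRank P (-(p : ℤ)) y := by
  haveI := hF.1
  obtain ⟨ι, hι, U, L, φ, N, hU, hU', hL, hN, hφ⟩ := exists_model A F hF hfl
  refine ⟨toChain L, fun i => ⟨(hL _).1,
    haveI : Module.Free A ((toChain L).X i) := (hL _).2; inferInstance⟩, fun p => ?_, fun p y => ?_⟩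
  · obtain ⟨e₂⟩ := nonempty_hh_linear hU hU' hφ p
    obtain ⟨e₃⟩ := nonempty_TFun_toChain L (p : ℤ)
    exact ⟨(e₂.symm.trans (e₃.app (ModuleCat.of A A)).toLinearEquiv.symm).trans
      (FCx40.tOneEquiv (P := toChain L) (p := -(p : ℤ)) (sub_add_cancel _ 1)).symm⟩
  · let f : X ⟶ Spec (CommRingCat.of A) := X ↘ Spec (CommRingCat.of A)
    let k := (Spec (CommRingCat.of A)).residueField y
    let ρ : y.asIdeal.ResidueField ≃+* k :=
      (Scheme.Spec.residueFieldIso (CommRingCat.of A) y).symm.commRingCatIsoToRingEquiv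
    letI : Algebra A k := (ρ.toRingHom.comp (algebraMap A y.asIdeal.ResidueField)).toAlgebra
    let σ : y.asIdeal.ResidueField ≃ₐ[A] k := AlgEquiv.ofRingEquiv (f := ρ) fun _ => rfl
    letI ovk : (f.fiber y).Over (Spec (CommRingCat.of k)) := ⟨f.fiberToSpecResidueField y⟩
    have hη : Spec.map (CommRingCat.ofHom (algebraMap A k)) =
        (Spec (CommRingCat.of A)).fromSpecResidueField y := by
      rw [← Scheme.Spec.map_residueFieldIso_inv_eq_fromSpecResidueField, ← Spec.map_comp]
      rfl
    have hsq : IsPullback (f.fiberι y) (f.fiber y ↘ Spec (CommRingCat.of k))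
        (X ↘ Spec (CommRingCat.of A)) (Spec.map (CommRingCat.ofHom (algebraMap A k))) := by
      rw [hη]
      exact IsPullback.of_hasPullback _ _
    obtain ⟨e₀, he₀⟩ := exists_hh_sq_semilinear hsq hU hU' hφ p
    obtain ⟨e₁, he₁⟩ := exists_bcCx_equiv y.asIdeal.ResidueField (toChain L) (-(p : ℤ))
    obtain ⟨e₂⟩ := nonempty_TFun_toChain L (p : ℤ)
    let e₃ : T (toChain L) (-(p : ℤ)) (ModuleCat.of A y.asIdeal.ResidueField) ≃ₗ[A]
        T L (p : ℤ) (ModuleCat.of A k) :=
      (e₂.app _ ≪≫ (CohIII.TFun L (p : ℤ)).mapIso (σ.toLinearEquiv.toModuleIso :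
        ModuleCat.of A y.asIdeal.ResidueField ≅ ModuleCat.of A k)).toLinearEquiv
    let E : (CohIII.bcCx (algebraMap A y.asIdeal.ResidueField) (toChain L)).homology (-(p : ℤ)) ≃+
        PerfAux.fiberH f F y p :=
      (e₁.trans e₃.toAddEquiv).trans e₀
    symm
    refine finrank_eq_of_fraction σ (fun c => ?_) E fun a v => ?_
    · obtain ⟨z, s, hs, rfl⟩ := IsFractionRing.div_surjective (A := A ⧸ y.asIdeal) c
      obtain ⟨a, rfl⟩ := Ideal.Quotient.mk_surjective z
      obtain ⟨t, rfl⟩ := Ideal.Quotient.mk_surjective s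
      refine ⟨a, t, ?_, ?_⟩
      · rw [IsScalarTower.algebraMap_apply A (A ⧸ y.asIdeal) y.asIdeal.ResidueField]
        exact IsFractionRing.to_map_ne_zero_of_mem_nonZeroDivisors hs
      · rw [IsScalarTower.algebraMap_apply A (A ⧸ y.asIdeal) y.asIdeal.ResidueField t,
          IsScalarTower.algebraMap_apply A (A ⧸ y.asIdeal) y.asIdeal.ResidueField a,
          Ideal.Quotient.algebraMap_eq]
        exact mul_div_cancel₀ _ (IsFractionRing.to_map_ne_zero_of_mem_nonZeroDivisors hs)
    · show e₀ (e₃ (e₁ (algebraMap A y.asIdeal.ResidueField a • v))) = _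
      rw [he₁, map_smul, he₀]
      rfl

/-- Over a discrete valuation ring the special and generic Betti numbers agree exactly when the two
adjacent cohomology modules are free. -/
theorem betti_eq_iff_free [IsDomain A] [IsDiscreteValuationRing A] (F : X.Modules) (hF : Coh.IsCoh F)
    (hfl : FlatMod.IsFlatOver (X ↘ Spec (CommRingCat.of A)) F) (p : ℕ)
    (s : ↥(Spec (CommRingCat.of A))) (hs : s ≠ genericPoint ↥(Spec (CommRingCat.of A))) :
    PerfAux.betti (X ↘ Spec (CommRingCat.of A)) F s p =
        PerfAux.betti (X ↘ Spec (CommRingCat.of A)) F (genericPoint ↥(Spec (CommRingCat.of A))) p ↔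
      Module.Free A (Coh.HH X F p) ∧ Module.Free A (Coh.HH X F (p + 1)) := by
  obtain ⟨P, hP, hH, hb⟩ := exists_spec_model A X F hF hfl
  have hgen : (genericPoint ↥(Spec (CommRingCat.of A))).asIdeal = ⊥ := by
    rw [genericPoint_eq_bot_of_affine]; rfl
  have hne : s.asIdeal ≠ ⊥ := fun h => hs (PrimeSpectrum.ext (h.trans hgen.symm))
  have hmax : s = IsLocalRing.closedPoint A :=
    PrimeSpectrum.ext (IsLocalRing.eq_maximalIdeal (Ring.DimensionLEOne.maximalOfPrime hne s.isPrime))
  obtain ⟨e₀⟩ := hH p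
  obtain ⟨e₁⟩ := hH (p + 1)
  rw [hb, hb, hmax]
  have hflat := fun i => (hP i).2
  have hfin : ∀ i, Module.Finite A (P.homology i) := fun i =>
    haveI := (hP i).1
    Module.Finite.of_surjective (FCx40.pcls P i (i - 1) (sub_add_cancel i 1))
      (FCx40.pcls_surjective _)
  have hq : -((p + 1 : ℕ) : ℤ) + 1 = -(p : ℤ) := by omega
  have key : (∀ i : ℤ, Module.Free A (P.X i ⧸ LinearMap.range (P.d (i + 1) i).hom) ↔
      Module.Free A (P.homology i)) := fun i => by
    haveI := FCx40.flat_range_dvr hflat i (i - 1)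
    haveI := hfin i
    haveI := FCx40.finite_coker (fun j => (hP j).1) (i + 1) i
    have h := FCx40.flat_coker_iff_flat_homology (P := P) (sub_add_cancel i 1) (rfl : i + 1 = i + 1)
    exact ⟨fun _ => haveI := h.1 inferInstance; Module.free_of_flat_of_isLocalRing,
      fun _ => haveI := h.2 inferInstance; Module.free_of_flat_of_isLocalRing⟩
  have both := FCx40.both_iff_free (P := P) hP hq (rfl : (-(p : ℤ)) + 1 = -(p : ℤ) + 1)
  have hk := key (-((p + 1 : ℕ) : ℤ))
  rw [hq] at hk
  rw [key, hk] at both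
  rw [show Module.Free A (Coh.HH X F p) ↔ Module.Free A (P.homology (-(p : ℤ))) from
      ⟨fun _ => .of_equiv e₀, fun _ => .of_equiv e₀.symm⟩,
    show Module.Free A (Coh.HH X F (p + 1)) ↔ Module.Free A (P.homology (-((p + 1 : ℕ) : ℤ))) from
      ⟨fun _ => .of_equiv e₁, fun _ => .of_equiv e₁.symm⟩, ← both]
  constructor
  · intro h
    refine FCx40.both_of_dRank_eq hP fun y hy => ?_
    have : y = genericPoint ↥(Spec (CommRingCat.of A)) := PrimeSpectrum.ext (by
      rw [hgen]
      simpa [IsDomain.minimalPrimes_eq_singleton_bot] using hy)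
    rw [this]
    exact h.symm
  · intro h
    exact (FCx40.dRank_eq_closedPoint_of_both hP h _).symm

end Groth.Agent.RB70
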