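import Groth.Agent.RB70.AmpleVanish
import Groth.Agent.GrSerre43.Eventual
import Groth.Agent.EGA73.ProjProper
import Groth.Agent.EGA73.GradedFinite
import Groth.Agent.EGA73.TildeFinite
import Groth.Agent.Amp73.ProjAmple
import Groth.Agent.Mum71.RpushLin
import Groth.Agent.EGAProj74.RelEmbVal
import Groth.Agent.S4400
import Groth.Prelude.Def_ega3

/-! Euler characteristics of twisted tilde modules in high degrees. -/

set_option autoImplicit false
set_option synthInstance.maxHeartbeats 200000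
set_option maxHeartbeats 1000000
set_option linter.style.haveILetI false
set_option backward.isDefEq.respectTransparency.types false

noncomputable section

universe u

open CategoryTheory Limits AlgebraicGeometry TopologicalSpace Opposite

namespace Groth.Agent.RB70.EulerTilde

variable {A S : Type u} [CommRing A] [CommRing S] [Algebra A S] (𝒜 : ℕ → Submodule A S) [GradedAlgebra 𝒜]

/-- A constant acts on sections of `M(n)~` through multiplication on numerators. -/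
theorem toGlobal_smul_globalOf {M : Type u} [AddCommGroup M] [Module A M] [Module S M] [IsScalarTower A S M]
    (ℳ : ℕ → Submodule A M) [SetLike.GradedSMul 𝒜 ℳ] {n : ℕ} (a : A) (m : ℳ n) :
    (show Γ(GrTilde.tilde 𝒜 ℳ (n : ℤ), ⊤) from GrTilde.globalOf 𝒜 ℳ (a • m)) =
      (show Γ(Proj 𝒜, ⊤) from Coh.toGlobal ((Proj 𝒜) ↘ Spec (CommRingCat.of A)) a) •
        (show Γ(GrTilde.tilde 𝒜 ℳ (n : ℤ), ⊤) from GrTilde.globalOf 𝒜 ℳ m) := by
  refine Subtype.ext (funext fun y => Subtype.ext ?_)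
  let φ : CommRingCat.of A ⟶ CommRingCat.of (𝒜 0) := CommRingCat.ofHom (algebraMap A (𝒜 0))
  have h : (show Γ(Proj 𝒜, ⊤) from Coh.toGlobal ((Proj 𝒜) ↘ Spec (CommRingCat.of A)) a) =
      (Proj.toSpecZero 𝒜).appTop ((Scheme.ΓSpecIso (.of (𝒜 0))).inv (algebraMap A (𝒜 0) a)) := by
    change ((Scheme.ΓSpecIso (CommRingCat.of A)).inv ≫ (Proj.toSpecZero 𝒜 ≫ Spec.map φ).appTop) a = _
    rw [Scheme.Hom.comp_appTop, ← Category.assoc, ← Scheme.ΓSpecIso_inv_naturality]
    rfl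
  have hv := EGAProj74.toSpecZero_appTop_val (𝒜 := 𝒜) (algebraMap A (𝒜 0) a) y.1 trivial
  rw [h]
  show LocalizedModule.mk ((a • m : ℳ n) : M) 1 = _
  refine Eq.symm ((congrArg (· • (LocalizedModule.mk (m : M) 1 : GrTilde.LocMod 𝒜 (M := M) y.1)) hv).trans ?_)
  rw [LocalizedModule.mk_smul_mk, mul_one, SetLike.GradeZero.coe_algebraMap, algebraMap_smul]
  rfl

/-- Higher cohomology of `M(n)~` vanishes and `H⁰` is `M_n` for large `n`. -/
theorem exists_bound [IsNoetherianRing A] (h0 : ∀ s ∈ 𝒜 0, s ∈ Set.range (algebraMap A S)) {r : ℕ}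
    (g : Fin r → S) (hg1 : ∀ i, g i ∈ 𝒜 1) (hspan : Submodule.span A (Set.range g) = 𝒜 1)
    (hgen : Algebra.adjoin A (Set.range g) = ⊤) {M : Type u} [AddCommGroup M] [Module A M] [Module S M]
    [IsScalarTower A S M] [Module.Finite S M] (ℳ : ℕ → Submodule A M) [DirectSum.Decomposition ℳ]
    [SetLike.GradedSMul 𝒜 ℳ] :
    ∃ N : ℕ, ∀ n : ℕ, N ≤ n →
      (∀ q : ℕ, 1 ≤ q → Subsingleton (Coh.HH (Proj 𝒜) (GrTilde.tilde 𝒜 ℳ (n : ℤ)) q)) ∧
      Nonempty (↥(ℳ n) ≃ₗ[A] Coh.HH (Proj 𝒜) (GrTilde.tilde 𝒜 ℳ (n : ℤ)) 0) := by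
  classical
  haveI : Algebra.FiniteType A S := ⟨⟨Finset.univ.image g, by simpa using hgen⟩⟩
  haveI : _root_.IsNoetherianRing S := Algebra.FiniteType.isNoetherianRing A S
  let s : Finset S := Finset.univ.image g
  have hs1 : ∀ f ∈ s, f ∈ 𝒜 1 := fun f hf => by
    obtain ⟨i, -, rfl⟩ := Finset.mem_image.1 hf
    exact hg1 i
  have hadj : Algebra.adjoin (𝒜 0) (s : Set S) = ⊤ := by
    refine top_le_iff.1 fun x hxT => ?_
    clear hxT
    have hx : x ∈ Algebra.adjoin A (Set.range g) := hgen ▸ Algebra.mem_top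
    induction hx using Algebra.adjoin_induction with
    | mem y hy => exact Algebra.subset_adjoin (by simpa [s] using hy)
    | algebraMap a =>
      exact (Algebra.adjoin (𝒜 0) (s : Set S)).algebraMap_mem
        ⟨algebraMap A S a, SetLike.algebraMap_mem_graded 𝒜 a⟩
    | add _ _ _ _ ha hb => exact add_mem ha hb
    | mul _ _ _ _ ha hb => exact mul_mem ha hb
  have hirr := EGA73.irrelevant_eq_span_of_adjoin_eq_top (𝒜 := 𝒜)
    (E := (s : Set S)) (fun e he => ⟨1, one_pos, hs1 e he⟩) hadj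
  have hdeg1 := Amp73.span_degree_one s hs1 hirr
  let f : Proj 𝒜 ⟶ Spec (CommRingCat.of A) := (Proj 𝒜) ↘ Spec (CommRingCat.of A)
  haveI : IsProper f := by
    refine EGA73.isProper_projTo_of_gen (𝒜 := 𝒜) ?_ (CommRingCat.ofHom (algebraMap A (𝒜 0))) s
      (fun x hx => hs1 x hx) (fun x hx => ?_)
    · refine top_le_iff.1 fun x hxT => ?_
      clear hxT
      have hx : x ∈ Algebra.adjoin A (Set.range g) := hgen ▸ Algebra.mem_top
      induction hx using Algebra.adjoin_induction with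
      | mem y hy =>
        obtain ⟨i, rfl⟩ := hy
        exact Subring.subset_closure (Or.inr (hg1 i))
      | algebraMap a => exact Subring.subset_closure (Or.inl (SetLike.algebraMap_mem_graded 𝒜 a))
      | add _ _ _ _ ha hb => exact add_mem ha hb
      | mul _ _ _ _ ha hb => exact mul_mem ha hb
    · rw [← hspan, ← show (s : Set S) = Set.range g by simp [s], Submodule.mem_span_finset] at hx
      obtain ⟨c, -, hc⟩ := hx
      refine ⟨c, hc.symm.trans (Finset.sum_congr rfl fun t _ => ?_)⟩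
      simp [Algebra.smul_def]
  have hamp : CohB1.IsAmple (Twist.twist 𝒜 1) := Amp73.isAmple_twist_one s hs1 hirr
  have hTF0 : (Submodule.span S (⋃ i ∈ Set.Ici 0, (ℳ i : Set M))) = ⊤ := by
    refine top_le_iff.1 fun x _ => ?_
    rw [← DirectSum.sum_support_decompose ℳ x]
    exact Submodule.sum_mem _ fun i _ => Submodule.subset_span
      (Set.mem_biUnion (Nat.zero_le i) (SetLike.coe_mem _))
  have hTF : ∃ k : ℕ, (Submodule.span S (⋃ i ∈ Set.Ici k, (ℳ i : Set M))).FG :=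
    ⟨0, hTF0 ▸ Module.Finite.fg_top⟩
  have hcoh : Coh.IsCoh (GrTilde.tilde 𝒜 ℳ 0) :=
    ⟨EGA73.isQCoh_tilde 𝒜 ℳ 0, EGA73.TildeFinite.isFT_tilde 𝒜 ℳ ⟨s, hirr.symm⟩ hTF⟩
  obtain ⟨n₀, hn₀⟩ := exists_vanishing_ample f hamp _ hcoh
  obtain ⟨N, hN⟩ := GrSerre43.eventually_bijective (𝒜 := 𝒜) (ℳ := ℳ) hTF
  refine ⟨max n₀ N, fun n hn => ⟨fun q hq => ?_, ?_⟩⟩
  · obtain ⟨e⟩ := S4400.result 𝒜 hdeg1 ℳ (n : ℤ)
    obtain ⟨i⟩ := EGA73.nonempty_twist_iso_tensorPow (𝒜 := 𝒜) hdeg1 n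
    exact ValVan29.subsingleton_hh_of_iso (e ≪≫ EGA73.tensIso (Iso.refl _) i).symm q
      (hn₀ n ((le_max_left _ _).trans hn) q hq)
  · obtain ⟨E, hE⟩ := Mum71.exists_hzero (GrTilde.tilde 𝒜 ℳ (n : ℤ))
    let ψ : ↥(ℳ n) → Γ(GrTilde.tilde 𝒜 ℳ (n : ℤ), ⊤) := fun m => GrTilde.globalOf 𝒜 ℳ m
    have hψ : Function.Bijective ψ := hN n ((le_max_right _ _).trans hn)
    have hadd : ∀ m m', ψ (m + m') = ψ m + ψ m' := fun m m' =>
      (GrMod.alpha 𝒜 ℳ n).map_add m m'
    refine ⟨LinearEquiv.ofBijective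
      { toFun := fun m => E.symm (ψ m)
        map_add' := fun m m' => by rw [hadd, map_add]
        map_smul' := fun a m => ?_ } (E.symm.bijective.comp hψ)⟩
    rw [RingHom.id_apply]
    apply E.injective
    rw [E.apply_symm_apply]
    refine (toGlobal_smul_globalOf 𝒜 ℳ a m).trans ?_
    refine Eq.trans ?_ (hE _ _).symm
    rw [E.apply_symm_apply]
    rfl

end Groth.Agent.RB70.EulerTilde
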