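import Mathlib.RingTheory.Flat.Basic
import Mathlib.RingTheory.Filtration
import Mathlib.RingTheory.LocalRing.ResidueField.Basic
import Mathlib.LinearAlgebra.TensorProduct.Tower
import Mathlib.LinearAlgebra.TensorProduct.Quotient
import Mathlib.LinearAlgebra.FreeModule.Basic
import Mathlib.LinearAlgebra.Basis.VectorSpace
import Mathlib.Algebra.Module.Torsion.Basic

/-! A map of flat modules injective on the closed fibre is injective modulo every power of the
maximal ideal. -/

set_option autoImplicit false

universe u

open TensorProduct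

namespace Groth.Agent.RB70

variable {A : Type u} [CommRing A] (m : Ideal A) [m.IsMaximal]
  {M N : Type u} [AddCommGroup M] [Module A M] [AddCommGroup N] [Module A N] [Module.Flat A N]
  (u : M →ₗ[A] N)

omit [Module.Flat A N] in
theorem injective_lTensor_of_killed (h : Function.Injective (u.lTensor (A ⧸ m)))
    (W : Type u) [AddCommGroup W] [Module A W] (hW : ∀ a ∈ m, ∀ w : W, a • w = 0) :
    Function.Injective (u.lTensor W) := by
  letI : Field (A ⧸ m) := Ideal.Quotient.field m
  letI : Module (A ⧸ m) W := Module.IsTorsionBySet.module (R := A) (I := m) (M := W)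
    fun w a => hW a.1 a.2 w
  haveI : IsScalarTower A (A ⧸ m) W := IsScalarTower.of_algebraMap_smul fun _ _ => rfl
  haveI : Module.Flat (A ⧸ m) W := Module.Flat.of_free
  let uk : (A ⧸ m) ⊗[A] M →ₗ[A ⧸ m] (A ⧸ m) ⊗[A] N := u.baseChange (A ⧸ m)
  have hk : Function.Injective uk := h
  let eM := TensorProduct.AlgebraTensorModule.cancelBaseChange A (A ⧸ m) (A ⧸ m) W M
  let eN := TensorProduct.AlgebraTensorModule.cancelBaseChange A (A ⧸ m) (A ⧸ m) W N
  have key : ∀ z, u.lTensor W (eM z) = eN (uk.lTensor W z) := fun z => by
    induction z using TensorProduct.induction_on with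
    | zero => simp only [map_zero]
    | add a b ha hb => simp only [map_add, ha, hb]
    | tmul w y =>
      induction y using TensorProduct.induction_on with
      | zero => simp only [TensorProduct.tmul_zero, map_zero]
      | add a b ha hb => simp only [TensorProduct.tmul_add, map_add, ha, hb]
      | tmul c x =>
        show u.lTensor W (eM (w ⊗ₜ (c ⊗ₜ x))) = eN (w ⊗ₜ (c ⊗ₜ u x))
        rw [TensorProduct.AlgebraTensorModule.cancelBaseChange_tmul,
          TensorProduct.AlgebraTensorModule.cancelBaseChange_tmul, LinearMap.lTensor_tmul]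
  intro a b hab
  obtain ⟨a', rfl⟩ := eM.surjective a
  obtain ⟨b', rfl⟩ := eM.surjective b
  rw [key, key] at hab
  exact congrArg eM (Module.Flat.lTensor_preserves_injective_linearMap uk hk (eN.injective hab))

theorem injective_lTensor_of_pow_killed (h : Function.Injective (u.lTensor (A ⧸ m))) (n : ℕ) :
    ∀ (W : Type u) [AddCommGroup W] [Module A W], (∀ a ∈ m ^ n, ∀ w : W, a • w = 0) →
      Function.Injective (u.lTensor W) := by
  induction n with
  | zero =>
    intro W _ _ hW
    haveI : Subsingleton W := subsingleton_of_forall_eq 0 fun w => by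
      simpa using hW 1 (by simp) w
    haveI : Subsingleton (W ⊗[A] M) := subsingleton_of_forall_eq 0 fun z => by
      induction z using TensorProduct.induction_on with
      | zero => rfl
      | add a b ha hb => rw [ha, hb, add_zero]
      | tmul w x => rw [Subsingleton.elim w 0, TensorProduct.zero_tmul]
    exact Function.injective_of_subsingleton _
  | succ n ih =>
    intro W _ _ hW
    let W' : Submodule A W := m • ⊤
    have h' : Function.Injective (u.lTensor W') := ih W' fun a ha w => Subtype.ext <| by
      show a • (w : W) = 0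
      refine Submodule.smul_induction_on w.2 (fun b hb y _ => ?_) fun y z hy hz => ?_
      · rw [← mul_smul]
        exact hW _ (pow_succ m n ▸ Ideal.mul_mem_mul ha hb) y
      · rw [smul_add, hy, hz, add_zero]
    have h'' : Function.Injective (u.lTensor (W ⧸ W')) :=
      injective_lTensor_of_killed m u h _ fun a ha w => by
        obtain ⟨y, rfl⟩ := Submodule.Quotient.mk_surjective W' w
        rw [← Submodule.Quotient.mk_smul, Submodule.Quotient.mk_eq_zero]
        exact Submodule.smul_mem_smul ha Submodule.mem_top
    rw [injective_iff_map_eq_zero]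
    intro z hz
    have hq : W'.mkQ.rTensor M z = 0 := h'' (by
      rw [← LinearMap.comp_apply, LinearMap.lTensor_comp_rTensor, ← LinearMap.rTensor_comp_lTensor,
        LinearMap.comp_apply, hz, map_zero, map_zero])
    obtain ⟨w, rfl⟩ := ((rTensor_exact M (LinearMap.exact_subtype_mkQ W') (Submodule.mkQ_surjective W')) z).mp hq
    have h0 : W'.subtype.rTensor N (u.lTensor W' w) = 0 := by
      rw [← LinearMap.comp_apply, LinearMap.rTensor_comp_lTensor, ← LinearMap.lTensor_comp_rTensor,
        LinearMap.comp_apply, hz]
    have h1 : u.lTensor W' w = 0 :=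
      Module.Flat.rTensor_preserves_injective_linearMap _ W'.subtype_injective (h0.trans (map_zero _).symm)
    rw [h' (h1.trans (map_zero _).symm), map_zero]

/-- The kernel of a map injective on the closed fibre lies in every power of the maximal ideal. -/
theorem ker_le_pow_smul (h : Function.Injective (u.lTensor (A ⧸ m))) (n : ℕ) :
    LinearMap.ker u ≤ m ^ n • (⊤ : Submodule A M) := by
  intro x hx
  have hinj := injective_lTensor_of_pow_killed m u h n (A ⧸ m ^ n) fun a ha w => by
    obtain ⟨b, rfl⟩ := Ideal.Quotient.mk_surjective w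
    rw [Algebra.smul_def, Ideal.Quotient.algebraMap_eq, ← map_mul, Ideal.Quotient.eq_zero_iff_mem]
    exact Ideal.mul_mem_right b _ ha
  have h0 : ((1 : A ⧸ m ^ n) ⊗ₜ[A] x) = 0 := hinj (by
    rw [LinearMap.lTensor_tmul, LinearMap.mem_ker.mp hx, TensorProduct.tmul_zero, map_zero])
  have h1 : TensorProduct.quotTensorEquivQuotSMul M (m ^ n) ((1 : A ⧸ m ^ n) ⊗ₜ[A] x) = 0 := by
    rw [h0, map_zero]
  rw [← map_one (Ideal.Quotient.mk (m ^ n)), TensorProduct.quotTensorEquivQuotSMul_mk_tmul, one_smul,
    Submodule.Quotient.mk_eq_zero] at h1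
  exact h1

end Groth.Agent.RB70
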