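import Mathlib.AlgebraicGeometry.Fiber
import Mathlib.AlgebraicGeometry.ResidueField

/-! The fibre of a morphism at a point of an affine open, over the residue field of the prime. -/

set_option autoImplicit false
set_option backward.isDefEq.respectTransparency.types false

universe u

noncomputable section

open CategoryTheory CategoryTheory.Limits AlgebraicGeometry

namespace Groth.Agent.RB70

variable {A : Type u} [CommRing A] {X Y XA : Scheme.{u}} {f : X ⟶ Y} {ι : XA ⟶ X}
  {fA : XA ⟶ Spec (CommRingCat.of A)} {j : Spec (CommRingCat.of A) ⟶ Y} [IsOpenImmersion j]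

/-- The fibre lies over the residue field of the prime. -/
theorem exists_fibre_square (sqA : IsPullback ι fA f j) (x : Spec (CommRingCat.of A)) :
    ∃ (s : f.fiber (j x) ⟶ Spec (CommRingCat.of x.asIdeal.ResidueField)) (g : f.fiber (j x) ⟶ XA),
      g ≫ ι = f.fiberι (j x) ∧
        IsPullback g s fA (Spec.map (CommRingCat.ofHom (algebraMap A x.asIdeal.ResidueField))) := by
  let R := CommRingCat.of A
  let k : Spec (CommRingCat.of x.asIdeal.ResidueField) ⟶ Spec R :=
    Spec.map (CommRingCat.ofHom (algebraMap A x.asIdeal.ResidueField))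
  let ψ : Spec (CommRingCat.of x.asIdeal.ResidueField) ⟶ Spec (Y.residueField (j x)) :=
    Spec.map (Scheme.Spec.residueFieldIso R x).hom ≫ Spec.map (j.residueFieldMap x)
  haveI : IsIso ψ := inferInstance
  have hψ : ψ ≫ Y.fromSpecResidueField (j x) = k ≫ j := by
    rw [Category.assoc, Scheme.Hom.SpecMap_residueFieldMap_fromSpecResidueField,
      ← Scheme.Spec.map_residueFieldIso_inv_eq_fromSpecResidueField, Category.assoc, ← Spec.map_comp_assoc,
      Iso.inv_hom_id, Spec.map_id, Category.id_comp]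
  let s := f.fiberToSpecResidueField (j x) ≫ inv ψ
  have hw : f.fiberι (j x) ≫ f = s ≫ k ≫ j := by
    rw [← hψ, Category.assoc, IsIso.inv_hom_id_assoc]
    exact f.fiber_fac (j x)
  have big : IsPullback (f.fiberι (j x)) s f (k ≫ j) := by
    refine (IsPullback.of_hasPullback f (Y.fromSpecResidueField (j x))).of_iso
      (Iso.refl _) (Iso.refl _) (asIso ψ).symm (Iso.refl _) (by simp; rfl) (by simp [s]; rfl) (by simp) ?_
    simp [← hψ]
  obtain ⟨g, hg1, hg2⟩ : ∃ g : f.fiber (j x) ⟶ XA, g ≫ ι = f.fiberι (j x) ∧ g ≫ fA = s ≫ k :=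
    ⟨sqA.lift (f.fiberι (j x)) (s ≫ k) (hw.trans (Category.assoc s k j).symm), sqA.lift_fst _ _ _, sqA.lift_snd _ _ _⟩
  refine ⟨s, g, hg1, IsPullback.of_right (h₁₂ := ι) ?_ hg2 sqA⟩
  rw [hg1]
  exact big

end Groth.Agent.RB70
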