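import Groth.Agent.RB70.FinSurjDescend
import Groth.Agent.EGA73.BiratNorm
import Groth.Agent.EGA73.DetNorm
import Groth.Agent.FlatMor68.FiniteFlatFree
import Groth.Agent.FinLF57.Basic
import Groth.Agent.Coh69.ProperOver
import Groth.Agent.Div89.FreeStalks
import Groth.Agent.QC70.PushFinite

/-! Relative ampleness descends along finite surjective morphisms, normal or flat outside a subset proper over
the base. -/

set_option autoImplicit false
set_option backward.isDefEq.respectTransparency.types false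
set_option linter.style.haveILetI false
set_option maxHeartbeats 1000000
set_option synthInstance.maxHeartbeats 200000

universe u

open CategoryTheory CategoryTheory.Limits AlgebraicGeometry Opposite TopologicalSpace

noncomputable section

namespace Groth.Agent.RB70.FinSurj

open Amp73 Var76.LineBundle Var76.ZeroScheme

variable {X X' : Scheme.{u}}

/-- Charts of a restriction give charts. -/
theorem isChart_of_morphismRestrict (π : X' ⟶ X) {W : X.Opens} {V : W.toScheme.Opens}
    (h : EGA73.IsChart (π ∣_ W) V) : EGA73.IsChart π (W.ι ''ᵁ V) := by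
  obtain ⟨n, s', hs'⟩ := h
  let s : Fin n → Γ(X', π ⁻¹ᵁ (W.ι ''ᵁ V)) := fun i =>
    (X'.presheaf.map (homOfLE (image_morphismRestrict_preimage π W V).ge).op).hom (s' i)
  refine ⟨n, s, fun W' hW' => ?_⟩
  obtain ⟨V', rfl⟩ : ∃ V' : W.toScheme.Opens, W.ι ''ᵁ V' = W' := ⟨W.ι ⁻¹ᵁ W', by
    rw [Scheme.Hom.image_preimage_eq_opensRange_inf, Scheme.Opens.opensRange_ι,
      inf_eq_right.2 (hW'.trans ((W.ι.image_mono le_top).trans W.ι_image_top.le))]⟩
  have h' : V' ≤ V := (W.ι.image_le_image_iff _ _).1 hW'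
  let e : Γ((π ⁻¹ᵁ W).toScheme, (π ∣_ W) ⁻¹ᵁ V') →+* Γ(X', π ⁻¹ᵁ (W.ι ''ᵁ V')) :=
    (X'.presheaf.map (homOfLE (image_morphismRestrict_preimage π W V').ge).op).hom
  have he : Function.Bijective e := by
    have : IsIso (homOfLE (image_morphismRestrict_preimage π W V').ge) := by
      rw [Subsingleton.elim (homOfLE _) (eqToHom (image_morphismRestrict_preimage π W V').symm)]
      infer_instance
    exact ConcreteCategory.bijective_of_isIso _
  have hfun : (fun a : Fin n → Γ(X, W.ι ''ᵁ V') =>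
      ∑ i, π.app (W.ι ''ᵁ V') (a i) * fres (π.preimage_mono hW') (s i)) =
      e ∘ fun a : Fin n → Γ(X, W.ι ''ᵁ V') =>
        ∑ i, (π ∣_ W).app V' (a i) * fres ((π ∣_ W).preimage_mono h') (s' i) := by
    funext a
    show _ = e _
    rw [map_sum]
    refine Finset.sum_congr rfl fun i _ => ?_
    rw [map_mul, morphismRestrict_app]
    congr 1
    · show _ = fres (image_morphismRestrict_preimage π W V').ge
        (fres (image_morphismRestrict_preimage π W V').le (π.app (W.ι ''ᵁ V') (a i)))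
      rw [fres_fres, Amp73.fres_self]
    · show fres (π.preimage_mono hW') (fres (X := X') (image_morphismRestrict_preimage π W V).ge (s' i)) =
        fres (image_morphismRestrict_preimage π W V').ge
          (fres (X := X') ((π ⁻¹ᵁ W).ι.image_mono ((π ∣_ W).preimage_mono h')) (s' i))
      rw [fres_fres, fres_fres]
  rw [hfun]
  exact he.comp (hs' V' h')

/-- A finite morphism is flat over its charts. -/
theorem flat_of_isChart (g : X' ⟶ X) [IsFinite g] {V : X.Opens} (hV : EGA73.IsChart g V) :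
    Flat (g ∣_ V) := by
  haveI : IsFinite (g ∣_ V) := IsZariskiLocalAtTarget.restrict (P := @IsFinite) ‹_› V
  refine (FinLF57.isFinLocFree_of_free (g ∣_ V) fun y => ?_).2.1
  obtain ⟨U, hU, hyU, -⟩ := exists_isAffineOpen_mem_and_subset (U := (⊤ : V.toScheme.Opens)) (x := y) trivial
  obtain ⟨n, s, hs⟩ := EGA73.IsChart.morphismRestrict g
    (hV.mono g (show V.ι ''ᵁ U ≤ V from (V.ι.image_mono le_top).trans V.ι_image_top.le))
  obtain ⟨b, -⟩ := hs.exists_basis (g ∣_ V)
  exact ⟨U, hU, hyU, hU.preimage _, n, b, trivial⟩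

/-- Charts pass to closed subschemes. -/
theorem exists_isChart_pullback [IsLocallyNoetherian X] {R : Scheme.{u}} (g : X' ⟶ X) [IsFinite g]
    (i : R ⟶ X) [IsLocallyNoetherian R] {V : X.Opens} (hV : EGA73.IsChart g V) (y : R) (hy : i y ∈ V) :
    ∃ V' : R.Opens, y ∈ V' ∧ EGA73.IsChart (pullback.snd g i) V' := by
  let gr := pullback.snd g i
  let Vr := i ⁻¹ᵁ V
  haveI := flat_of_isChart g hV
  haveI : IsFinite gr := MorphismProperty.pullback_snd g i ‹_›
  haveI : IsFinite (gr ∣_ Vr) := IsZariskiLocalAtTarget.restrict (P := @IsFinite) ‹_› Vr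
  haveI : Flat (gr ∣_ Vr) := by
    have A : IsPullback (((gr ⁻¹ᵁ Vr).ι) ≫ pullback.fst g i) (gr ∣_ Vr) g (Vr.ι ≫ i) :=
      (isPullback_morphismRestrict gr Vr).flip.paste_horiz (IsPullback.of_hasPullback g i)
    have B : IsPullback (g ⁻¹ᵁ V).ι (g ∣_ V) g V.ι := (isPullback_morphismRestrict g V).flip
    have e : ((gr ⁻¹ᵁ Vr).ι ≫ pullback.fst g i) ≫ g = ((gr ∣_ Vr) ≫ (i ∣_ V)) ≫ V.ι := by
      rw [A.w, Category.assoc, morphismRestrict_ι]
    let k := B.lift ((gr ⁻¹ᵁ Vr).ι ≫ pullback.fst g i) ((gr ∣_ Vr) ≫ (i ∣_ V)) e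
    have A' : IsPullback (k ≫ (g ⁻¹ᵁ V).ι) (gr ∣_ Vr) g ((i ∣_ V) ≫ V.ι) := by
      rw [B.lift_fst, morphismRestrict_ι]; exact A
    exact MorphismProperty.of_isPullback (P := @Flat) (A'.of_right (B.lift_snd _ _ e) B) ‹_›
  obtain ⟨V', hyV', hV'⟩ := EGA73.exists_isChart_of_isFinLocFree (gr ∣_ Vr)
    (FlatMor68.FiniteFlatFree.push_isFinLocFree (gr ∣_ Vr)) ⟨y, hy⟩
  exact ⟨Vr.ι ''ᵁ V', ⟨⟨y, hy⟩, hyV', rfl⟩, isChart_of_morphismRestrict gr hV'⟩

theorem normalPt_of_iso {R : Scheme.{u}} {y : R} {x : X} (e : X.presheaf.stalk x ≃+* R.presheaf.stalk y)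
    (h : EGA73.NormalPt x) : EGA73.NormalPt y := by
  obtain ⟨h1, h2⟩ := h
  haveI := h1
  haveI := h2
  exact ⟨e.symm.toMulEquiv.isDomain, IsIntegrallyClosed.of_equiv e⟩

/-- A normal point stays normal in a thickened subscheme. -/
theorem normalPt_of_thickening {R : Scheme.{u}} (i : R ⟶ X) [IsClosedImmersion i] [Surjective i] {y : R}
    (h : EGA73.NormalPt (i y)) : EGA73.NormalPt y := by
  haveI := h.1
  refine normalPt_of_iso (RingEquiv.ofBijective (i.stalkMap y).hom ⟨?_, i.stalkMap_surjective y⟩) h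
  refine (injective_iff_map_eq_zero _).2 fun a ha => ?_
  obtain ⟨U, hU, s, rfl⟩ := X.presheaf.exists_germ_eq a
  rw [Scheme.Hom.germ_stalkMap_apply] at ha
  obtain ⟨O, hO, hyO, hres⟩ : ∃ (O : R.Opens) (hO : O ≤ i ⁻¹ᵁ U), y ∈ O ∧ fres hO (i.app U s) = 0 := by
    obtain ⟨O, hyO, iU, iV, heq⟩ := R.presheaf.germ_eq (U := i ⁻¹ᵁ U) (V := i ⁻¹ᵁ U) y hU hU (i.app U s) 0 (ha.trans (map_zero _).symm)
    exact ⟨O, leOfHom iU, hyO, heq.trans (map_zero _)⟩
  obtain ⟨O', hO'⟩ := VarGal.exists_opens i O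
  have hyO' : i y ∈ O' := hO'.ge hyO
  obtain ⟨W, hW, hxW, hWle⟩ := exists_isAffineOpen_mem_and_subset (U := O' ⊓ U) (x := i y) ⟨hyO', hU⟩
  have h0 : i.app W (fres (fun z hz => (hWle hz).2) s) = 0 := by
    rw [Approx60.app_fres, ← fres_fres hO (V := O) (W := i ⁻¹ᵁ W) (fun z hz => hO'.le (hWle hz).1), hres]
    exact map_zero _
  obtain ⟨n, hn⟩ := VarGal.isNilpotent_of_app_eq_zero i hW.isCompact h0
  rw [← X.presheaf.germ_res_apply (homOfLE (fun z hz => (hWle hz).2 : W ≤ U)) (i y) hxW s]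
  refine (IsNilpotent.eq_zero ⟨n, ?_⟩)
  rw [← map_pow]
  exact (congrArg _ hn).trans (map_zero _)

theorem surjective_of_dense {P Q : Scheme.{u}} (h : Q ⟶ P) [IsFinite h] (W : P.Opens) [IsIso (h ∣_ W)]
    (hW : Dense (W : Set P)) : Surjective h := by
  refine ⟨fun x => ?_⟩
  have hsub : (W : Set P) ⊆ Set.range h := fun y hy => by
    obtain ⟨w, hw⟩ := (h ∣_ W).surjective ⟨y, hy⟩
    refine ⟨(h ⁻¹ᵁ W).ι w, ?_⟩
    rw [← Scheme.Hom.comp_apply, ← morphismRestrict_ι, Scheme.Hom.comp_apply, hw]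
    rfl
  exact h.isClosedMap.isClosed_range.closure_subset_iff.mpr hsub (hW x)

variable {A : Type u} [CommRing A] [IsNoetherianRing A]

/-- The inverse image of an invertible module on a reduced closed subscheme proper over the base is ample when
its inverse image along a finite surjective morphism is ample. -/
theorem isAmple_closed (p : X ⟶ Spec (CommRingCat.of A)) [LocallyOfFiniteType p] [CompactSpace X]
    (g : X' ⟶ X) [IsFinite g] [Surjective g] {L : X.Modules} (hL : PicF.IsInvertible L)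
    (hg : CohB1.IsAmple ((Scheme.Modules.pullback g).obj L)) (T : Closeds X) :
    ∀ (P : Scheme.{u}) (k : P ⟶ X) [IsClosedImmersion k] [IsReduced P] [IsProper (k ≫ p)],
      Set.range k = T → CohB1.IsAmple ((Scheme.Modules.pullback k).obj L) := by
  haveI : IsLocallyNoetherian X := LocallyOfFiniteType.isLocallyNoetherian p
  haveI : AlgebraicGeometry.IsNoetherian X := {}
  induction T using WellFoundedLT.induction with
  | _ T IH =>
  intro P k _ _ _ hkT
  haveI : IsLocallyNoetherian P := LocallyOfFiniteType.isLocallyNoetherian k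
  haveI : CompactSpace P := QuasiCompact.compactSpace_of_compactSpace k
  haveI : AlgebraicGeometry.IsNoetherian P := {}
  have hkL : PicF.IsInvertible ((Scheme.Modules.pullback k).obj L) := Amp73.isInvertible_pullback k hL
  rcases isEmpty_or_nonempty P with hP | hP
  · exact Amp73.isAmple_iff.2 ⟨hkL, inferInstance, fun x => isEmptyElim x⟩
  let gT := pullback.snd g k
  haveI : IsFinite gT := MorphismProperty.pullback_snd g k ‹_›
  haveI : Surjective gT := MorphismProperty.pullback_snd g k ‹_›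
  haveI : IsClosedImmersion (pullback.fst g k) := MorphismProperty.pullback_fst g k ‹_›
  have hgT : CohB1.IsAmple ((Scheme.Modules.pullback gT).obj ((Scheme.Modules.pullback k).obj L)) :=
    Amp73.isAmple_of_iso ((Scheme.Modules.pullbackComp (pullback.fst g k) g).app L ≪≫
        (Scheme.Modules.pullbackCongr pullback.condition).app L ≪≫
        ((Scheme.Modules.pullbackComp gT k).app L).symm)
      (Amp73.isAmple_pullback _ (Amp73.isQuasiAffine_of_isAffineHom _) hg)
  obtain ⟨G⟩ := EGA73.exists_genCharts gT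
  haveI := G.isFinite_h
  haveI : IsIso (G.h ∣_ G.generic) := G.isIso_restrict fun y hy => by
    obtain ⟨η, hη⟩ := TopologicalSpace.Opens.mem_iSup.1 hy
    exact Or.inr ⟨G.Ω η, hη, _, _, G.natBasis η⟩
  haveI : Surjective G.h := surjective_of_dense G.h G.generic G.dense_generic
  let Zc : Closeds P := ⟨(G.generic : Set P)ᶜ, G.generic.2.isClosed_compl⟩
  let ι := (Scheme.IdealSheafData.vanishingIdeal Zc).subschemeι
  haveI : IsReduced (Scheme.IdealSheafData.vanishingIdeal Zc).subscheme :=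
    SchBasics.isReduced_vanishingIdeal_subscheme Zc
  haveI : IsProper ((ι ≫ k) ≫ p) := by rw [Category.assoc]; infer_instance
  let T' : Closeds X := ⟨Set.range (ι ≫ k), (ι ≫ k).isClosedEmbedding.isClosed_range⟩
  have hlt : T' < T := by
    refine lt_of_le_of_ne (fun x hx => ?_) fun he => ?_
    · obtain ⟨w, rfl⟩ := hx
      exact hkT.le ⟨ι w, (Scheme.Hom.comp_apply ι k w).symm⟩
    · obtain ⟨y, hy⟩ := G.dense_generic.nonempty
      obtain ⟨w, hw⟩ : k y ∈ (T' : Set X) := by rw [he, ← hkT]; exact ⟨y, rfl⟩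
      rw [Scheme.Hom.comp_apply] at hw
      have h2 : y ∈ Set.range ι := ⟨w, k.isClosedEmbedding.injective hw⟩
      rw [SchBasics.range_vanishingIdeal_subschemeι] at h2
      exact h2 hy
  refine isAmple_descend (k ≫ p) G.h G.generic hkL (G.isAmple_pullback_h hkL hgT) Zc rfl ?_
  exact Amp73.isAmple_of_iso ((Scheme.Modules.pullbackComp ι k).app L).symm (IH T' hlt _ (ι ≫ k) rfl)

/-- Ampleness descends along a finite surjective morphism which is flat or has normal target outside a closed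
subset proper over the base. -/
theorem isAmple_of_pullback (p : X ⟶ Spec (CommRingCat.of A)) [LocallyOfFiniteType p] [CompactSpace X]
    (g : X' ⟶ X) [IsFinite g] [Surjective g] {L : X.Modules} (hL : PicF.IsInvertible L)
    (hg : CohB1.IsAmple ((Scheme.Modules.pullback g).obj L)) {Z : Set X} (hZ : ClSub.IsProperOver p Z)
    (hgood : ∀ x ∉ Z, EGA73.NormalPt x ∨ ∃ V : X.Opens, x ∈ V ∧ EGA73.IsChart g V) : CohB1.IsAmple L := by
  haveI : IsLocallyNoetherian X := LocallyOfFiniteType.isLocallyNoetherian p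
  let I := Scheme.IdealSheafData.vanishingIdeal (X := X) ⊤
  let i := I.subschemeι
  haveI : IsReduced I.subscheme := SchBasics.isReduced_vanishingIdeal_subscheme _
  haveI : Surjective i := ⟨fun x => (SchBasics.range_vanishingIdeal_subschemeι (⊤ : Closeds X)).ge trivial⟩
  refine Approx60.isAmple_of_thickening i hL ?_
  haveI : IsLocallyNoetherian I.subscheme := LocallyOfFiniteType.isLocallyNoetherian i
  haveI : CompactSpace I.subscheme := QuasiCompact.compactSpace_of_compactSpace i
  haveI : AlgebraicGeometry.IsNoetherian I.subscheme := {}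
  have hiL : PicF.IsInvertible ((Scheme.Modules.pullback i).obj L) := Amp73.isInvertible_pullback i hL
  let gr := pullback.snd g i
  haveI : IsFinite gr := MorphismProperty.pullback_snd g i ‹_›
  haveI : Surjective gr := MorphismProperty.pullback_snd g i ‹_›
  haveI : IsClosedImmersion (pullback.fst g i) := MorphismProperty.pullback_fst g i (inferInstance : IsClosedImmersion i)
  have hgr : CohB1.IsAmple ((Scheme.Modules.pullback gr).obj ((Scheme.Modules.pullback i).obj L)) :=
    Amp73.isAmple_of_iso ((Scheme.Modules.pullbackComp (pullback.fst g i) g).app L ≪≫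
        (Scheme.Modules.pullbackCongr pullback.condition).app L ≪≫
        ((Scheme.Modules.pullbackComp gr i).app L).symm)
      (Amp73.isAmple_pullback _ (Amp73.isQuasiAffine_of_isAffineHom _) hg)
  obtain ⟨hc, hp⟩ := Coh69.PO.preimage (p := i ≫ p) i rfl hZ
  let Zc : Closeds I.subscheme := ⟨⇑i ⁻¹' Z, hc⟩
  let W : I.subscheme.Opens := ⟨(⇑i ⁻¹' Z)ᶜ, hc.isOpen_compl⟩
  haveI : IsProper ((Scheme.IdealSheafData.vanishingIdeal Zc).subschemeι ≫ i ≫ p) := hp
  obtain ⟨G⟩ := EGA73.exists_genCharts gr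
  haveI := G.isFinite_h
  haveI : IsIso (G.h ∣_ W) := G.isIso_restrict fun y hy => by
    rcases hgood (i y) hy with h | ⟨V, hV, hch⟩
    · exact Or.inl (normalPt_of_thickening i h)
    · exact Or.inr (exists_isChart_pullback g i hch y hV)
  haveI : IsIso (G.h ∣_ G.generic) := G.isIso_restrict fun y hy => by
    obtain ⟨η, hη⟩ := TopologicalSpace.Opens.mem_iSup.1 hy
    exact Or.inr ⟨G.Ω η, hη, _, _, G.natBasis η⟩
  haveI : Surjective G.h := surjective_of_dense G.h G.generic G.dense_generic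
  let ι := (Scheme.IdealSheafData.vanishingIdeal Zc).subschemeι
  haveI : IsReduced (Scheme.IdealSheafData.vanishingIdeal Zc).subscheme :=
    SchBasics.isReduced_vanishingIdeal_subscheme Zc
  refine isAmple_descend (i ≫ p) G.h W hiL (G.isAmple_pullback_h hiL hgr) Zc (compl_compl _).symm ?_
  exact isAmple_closed (i ≫ p) gr hiL hgr ⟨Set.range ι, ι.isClosedEmbedding.isClosed_range⟩ _ ι rfl

/-- Ampleness relative to a morphism of finite type over a locally Noetherian scheme descends along a finite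
surjective morphism. -/
theorem isRelAmple_of_pullback {Y : Scheme.{u}} (f : X ⟶ Y) [IsLocallyNoetherian Y] [LocallyOfFiniteType f]
    [QuasiCompact f] (g : X' ⟶ X) [IsFinite g] [Surjective g] {L : X.Modules} (hL : PicF.IsInvertible L)
    {Z : Set X} (hZ : ClSub.IsProperOver f Z)
    (hreg : ∀ x : X, x ∉ Z → (IsDomain (X.presheaf.stalk x) ∧ IsIntegrallyClosed (X.presheaf.stalk x)) ∨
      Module.Free (X.presheaf.stalk x) (((Coh.push g).obj (Coh.structureModule X')).presheaf.stalk x))
    (h : RelAmple.IsRelAmple (g ≫ f) ((Scheme.Modules.pullback g).obj L)) : RelAmple.IsRelAmple f L := by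
  haveI : IsLocallyNoetherian X := LocallyOfFiniteType.isLocallyNoetherian f
  haveI : IsLocallyNoetherian X' := LocallyOfFiniteType.isLocallyNoetherian g
  have hgood : ∀ x ∉ Z, EGA73.NormalPt x ∨ ∃ V : X.Opens, x ∈ V ∧ EGA73.IsChart g V := by
    intro x hx
    refine (hreg x hx).imp id fun hfree => ?_
    obtain ⟨U, hU, hUfree⟩ := Div89.exists_open_freeLocus
      (QC70.isCoh_pushforward_of_isFinite g _ (QC70.isCoh_unit (X := X')))
    exact EGA73.exists_isChart_of_restrict g ((hU x).2 hfree) hUfree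
  refine ⟨inferInstance, fun V => ?_⟩
  let U := f ⁻¹ᵁ V.1
  haveI : IsNoetherianRing Γ(Y, V.1) := IsLocallyNoetherian.component_noetherian V
  let p : (U : Scheme.{u}) ⟶ Spec (CommRingCat.of Γ(Y, V.1)) := (f ∣_ V.1) ≫ V.2.isoSpec.hom
  haveI : LocallyOfFiniteType (f ∣_ V.1) := IsZariskiLocalAtTarget.restrict (P := @LocallyOfFiniteType) ‹_› _
  haveI : LocallyOfFiniteType p := inferInstanceAs (LocallyOfFiniteType ((f ∣_ V.1) ≫ V.2.isoSpec.hom))
  haveI : CompactSpace (U : Scheme.{u}) :=
    isCompact_iff_compactSpace.1 (QuasiCompact.isCompact_preimage _ V.1.2 V.2.isCompact)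
  haveI : IsFinite (g ∣_ U) := IsZariskiLocalAtTarget.restrict (P := @IsFinite) ‹_› U
  haveI : Surjective (g ∣_ U) := IsZariskiLocalAtTarget.restrict (P := @Surjective) ‹_› U
  have hZ' : ClSub.IsProperOver p (⇑U.ι ⁻¹' Z) := by
    obtain ⟨R, k, hk, -, hr, hpk⟩ := Coh69.PO.exists_model
      (Coh69.PO.preimage_of_isPullback (isPullback_morphismRestrict f V.1).flip hZ)
    refine (Coh69.PO.iff_of_range k hr).2 ?_
    show IsProper (k ≫ (f ∣_ V.1) ≫ V.2.isoSpec.hom)
    rw [← Category.assoc]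
    infer_instance
  refine isAmple_of_pullback p (g ∣_ U) (EGA73.isInvertible_restrict hL _)
    (Amp73.isAmple_of_iso (Amp73.pullSquareIso (g ∣_ U) U.ι (g ⁻¹ᵁ U).ι g (morphismRestrict_ι g U) L).symm
      (h.2 V)) hZ' fun x hx => ?_
  rcases hgood (U.ι x) hx with hn | ⟨V', hV', hch⟩
  · exact Or.inl (normalPt_of_iso (U.stalkIso x).symm.commRingCatIsoToRingEquiv hn)
  · exact Or.inr ⟨U.ι ⁻¹ᵁ V', hV', EGA73.IsChart.morphismRestrict g (hch.mono g (U.ι.image_preimage_le V'))⟩

end Groth.Agent.RB70.FinSurj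

end
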