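import Groth.Agent.ParaF26.DescPush
import Groth.Agent.LimTop61.PullBC
import Groth.Agent.QC70.Closure

/-! The base change map of direct images along a flat morphism is bijective on small affine opens. -/

set_option autoImplicit false
set_option backward.isDefEq.respectTransparency.types false
set_option linter.style.haveILetI false
set_option maxHeartbeats 1000000
set_option synthInstance.maxHeartbeats 200000

universe u

open CategoryTheory CategoryTheory.Limits AlgebraicGeometry Opposite TopologicalSpace TensorProduct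

noncomputable section

namespace Groth.Agent.RB70

open QC70

variable {X Y X' Y' : Scheme.{u}} (f : X ⟶ Y) (g : Y' ⟶ Y) (g' : X' ⟶ X) (f' : X' ⟶ Y')

theorem isIso_of_bijective_basis {P Q : Y'.Modules} (β : P ⟶ Q)
    (h : ∀ y : Y', ∀ U : Y'.Opens, y ∈ U → ∃ W ≤ U, y ∈ W ∧ Function.Bijective (β.app W)) : IsIso β := by
  haveI : Mono β := mono_of_app_injective _ fun U => by
    rw [injective_iff_map_eq_zero]
    refine fun s hs => section_ext P s 0 fun p hp => ?_
    obtain ⟨W, hWU, hpW, hW⟩ := h p U hp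
    refine ⟨W, hWU, hpW, hW.1 ?_⟩
    rw [app_res, hs, res_zero, res_zero, map_zero]
  haveI : Epi β := epi_of_locally_surjective _ fun U s p hp => by
    obtain ⟨W, hWU, hpW, hW⟩ := h p U hp
    obtain ⟨t, ht⟩ := hW.2 (res Q hWU s)
    exact ⟨W, hWU, t, hpW, ht⟩
  exact isIso_of_mono_of_epi β

theorem bijective_baseChange_app (H : IsPullback g' f' f g) [QuasiCompact f] [QuasiSeparated f] [Flat g]
    (M : X.Modules) [M.IsQuasicoherent] {V : Y.Opens} {W : Y'.Opens} (hV : IsAffineOpen V)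
    (hW : IsAffineOpen W) (hWV : W ≤ g ⁻¹ᵁ V)
    (β : (Scheme.Modules.pullback g).obj ((Scheme.Modules.pushforward f).obj M) ⟶
      (Scheme.Modules.pushforward f').obj ((Scheme.Modules.pullback g').obj M))
    (hO : f' ⁻¹ᵁ W ≤ g' ⁻¹ᵁ (f ⁻¹ᵁ V))
    (hβ : ∀ x : Γ(M, f ⁻¹ᵁ V), β.app W (QCPull72.unitSec g ((Scheme.Modules.pushforward f).obj M) hWV x) =
      res ((Scheme.Modules.pullback g').obj M) hO (Amp73.pullS g' M (f ⁻¹ᵁ V) x)) :
    Function.Bijective (β.app W) := by
  let N := (Scheme.Modules.pushforward f).obj M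
  let G := (Scheme.Modules.pullback g').obj M
  haveI : N.IsQuasicoherent := QCqs72.isQuasicoherent_pushforward M f
  letI := (g.appLE V W hWV).hom.toAlgebra
  obtain ⟨E₁, hE₁⟩ := LimTop61.exists_baseChange_equiv g N hV hW hWV
  letI := ParaF26.FlatSec.mdl f M (le_refl (f ⁻¹ᵁ V))
  let c : Γ(N, V) ≃ₗ[Γ(Y, V)] Γ(M, f ⁻¹ᵁ V) :=
    { toFun := fun x => x
      invFun := fun x => x
      map_add' := fun _ _ => rfl
      map_smul' := fun a x => by
        show f.app V a • (show Γ(M, f ⁻¹ᵁ V) from x) = f.appLE V (f ⁻¹ᵁ V) le_rfl a • (show Γ(M, f ⁻¹ᵁ V) from x)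
        rw [Scheme.Hom.app_eq_appLE]
      left_inv := fun _ => rfl
      right_inv := fun _ => rfl }
  let E₂ := c.baseChange Γ(Y, V) Γ(Y', W) _ _
  have hμ := ParaF26.FlatSec.μ_bijective f g f' g' H M hWV hV hW le_rfl (f.isCompact_preimage hV.isCompact)
    (ParaF26.DescPush.isQuasiSeparated_preimage f hV)
  let μ := ParaF26.FlatSec.μ f g f' g' H M hWV (le_refl (f ⁻¹ᵁ V))
  have hO' : f' ⁻¹ᵁ W ≤ g' ⁻¹ᵁ (f ⁻¹ᵁ V) ⊓ f' ⁻¹ᵁ W := le_inf hO le_rfl
  have key : ∀ z, β.app W (E₁.symm z) = res G hO' (μ (E₂ z)) := by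
    intro z
    induction z with
    | zero =>
      refine (congrArg (fun t => (β.app W).hom t) E₁.symm.map_zero).trans ?_
      refine (AddMonoidHom.map_zero (β.app W).hom).trans ?_
      refine Eq.trans ?_ (congrArg (fun t => res G hO' (μ t)) E₂.map_zero).symm
      exact Eq.trans (res_zero hO').symm (congrArg (res G hO') μ.map_zero).symm
    | add a b ha hb =>
      refine (congrArg (fun t => (β.app W).hom t) (E₁.symm.map_add a b)).trans ?_
      refine (AddMonoidHom.map_add (β.app W).hom _ _).trans ((congrArg₂ (· + ·) ha hb).trans ?_)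
      refine Eq.trans ?_ (congrArg (fun t => res G hO' (μ t)) (E₂.map_add a b)).symm
      exact (res_add hO' _ _).symm.trans (congrArg (res G hO') (μ.map_add (E₂ a) (E₂ b))).symm
    | tmul a x =>
      have h1 : E₁.symm (a ⊗ₜ x) = a • QCPull72.unitSec g N hWV x := by
        rw [LinearEquiv.symm_apply_eq, map_smul, hE₁, TensorProduct.smul_tmul', smul_eq_mul, mul_one]
      have h2 : E₂ (a ⊗ₜ x) = a ⊗ₜ (show Γ(M, f ⁻¹ᵁ V) from x) := rfl
      rw [h1, h2, ParaF26.FlatSec.μ_tmul, res_smul, res_res]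
      refine (Scheme.Modules.Hom.app_smul β a _).trans ?_
      refine (congrArg (fun t : Γ((Scheme.Modules.pushforward f').obj G, W) => a • t) (hβ x)).trans ?_
      show f'.app W a • res G hO (Amp73.pullS g' M (f ⁻¹ᵁ V) (show Γ(M, f ⁻¹ᵁ V) from x)) = _
      refine congrArg (fun r : Γ(X', f' ⁻¹ᵁ W) =>
        r • res G hO (Amp73.pullS g' M (f ⁻¹ᵁ V) (show Γ(M, f ⁻¹ᵁ V) from x))) ?_
      rw [Scheme.Hom.app_eq_appLE]
      exact (ConcreteCategory.congr_hom (Scheme.Hom.appLE_map f'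
        (inf_le_right : g' ⁻¹ᵁ (f ⁻¹ᵁ V) ⊓ f' ⁻¹ᵁ W ≤ f' ⁻¹ᵁ W) (homOfLE hO').op) a).symm
  have hb : Function.Bijective fun z => β.app W (E₁.symm z) := by
    simp only [key]
    have he : g' ⁻¹ᵁ (f ⁻¹ᵁ V) ⊓ f' ⁻¹ᵁ W = f' ⁻¹ᵁ W := le_antisymm inf_le_right hO'
    exact (ParaF26.bijective_res_of_eq G hO' he.le).comp (hμ.comp E₂.bijective)
  exact (Function.Bijective.of_comp_iff _ E₁.symm.bijective).1 hb

theorem isIso_baseChangeMap (H : IsPullback g' f' f g) [QuasiCompact f] [QuasiSeparated f] [Flat g]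
    (M : X.Modules) [M.IsQuasicoherent] :
    IsIso ((Scheme.Modules.pullback g).map ((Scheme.Modules.pushforward f).map
        ((Scheme.Modules.pullbackPushforwardAdjunction g').unit.app M)) ≫
      (Scheme.Modules.pullback g).map ((Scheme.Modules.pushforwardComp g' f ≪≫
          Scheme.Modules.pushforwardCongr H.w ≪≫ (Scheme.Modules.pushforwardComp f' g).symm).hom.app
        ((Scheme.Modules.pullback g').obj M)) ≫
      (Scheme.Modules.pullbackPushforwardAdjunction g).counit.app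
        ((Scheme.Modules.pushforward f').obj ((Scheme.Modules.pullback g').obj M))) := by
  let G := (Scheme.Modules.pullback g').obj M
  let u : (Scheme.Modules.pushforward f).obj M ⟶
      (Scheme.Modules.pushforward g).obj ((Scheme.Modules.pushforward f').obj G) :=
    (Scheme.Modules.pushforward f).map ((Scheme.Modules.pullbackPushforwardAdjunction g').unit.app M) ≫
      (Scheme.Modules.pushforwardComp g' f ≪≫
          Scheme.Modules.pushforwardCongr H.w ≪≫ (Scheme.Modules.pushforwardComp f' g).symm).hom.app G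
  have hu : ∀ (V : Y.Opens) (x : Γ(M, f ⁻¹ᵁ V)) (h : f' ⁻¹ᵁ (g ⁻¹ᵁ V) ≤ g' ⁻¹ᵁ (f ⁻¹ᵁ V)),
      u.app V x = res G h (Amp73.pullS g' M (f ⁻¹ᵁ V) x) := fun V x h => rfl
  let adj := Scheme.Modules.pullbackPushforwardAdjunction g
  let β := (adj.homEquiv _ _).symm u
  suffices hβ : IsIso β by
    rw [show β = _ from Adjunction.homEquiv_counit adj _ _ u, Functor.map_comp, Category.assoc] at hβ
    exact hβ
  refine isIso_of_bijective_basis β fun y U hy => ?_
  obtain ⟨_, ⟨V, hV, rfl⟩, hyV, -⟩ := Y.isBasis_affineOpens.exists_subset_of_mem_open (Set.mem_univ (g y)) isOpen_univ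
  obtain ⟨_, ⟨W, hW, rfl⟩, hyW, hWU⟩ := Y'.isBasis_affineOpens.exists_subset_of_mem_open
    (show y ∈ U ⊓ g ⁻¹ᵁ V from ⟨hy, hyV⟩) (U ⊓ g ⁻¹ᵁ V).2
  have hWV : W ≤ g ⁻¹ᵁ V := fun z hz => (hWU hz).2
  have he : f' ⁻¹ᵁ (g ⁻¹ᵁ V) ≤ g' ⁻¹ᵁ (f ⁻¹ᵁ V) := fun z hz => by
    show f (g' z) ∈ V
    rw [← Scheme.Hom.comp_apply, H.w, Scheme.Hom.comp_apply]
    exact hz
  refine ⟨W, fun z hz => (hWU hz).1, hyW, bijective_baseChange_app f g g' f' H M hV hW hWV β
    ((f'.preimage_mono hWV).trans he) fun x => ?_⟩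
  have hq : adj.unit.app _ ≫ (Scheme.Modules.pushforward g).map β = u :=
    (Adjunction.homEquiv_unit adj _ _ β).symm.trans ((adj.homEquiv _ _).apply_symm_apply u)
  refine (app_res β hWV ((QCPull72.pullUnit g _).app V x)).trans ?_
  refine (congrArg (res ((Scheme.Modules.pushforward f').obj G) hWV)
    ((congr(Scheme.Modules.Hom.app $hq V x)).trans (hu V x he))).trans ?_
  refine (QCqs72.pushforward_res (M := G) f' hWV _).trans ?_
  exact res_res _ _ _

end Groth.Agent.RB70

end
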