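import Groth.Agent.RB70.GrSys
import Groth.Agent.Formal27.Affine
import Groth.Agent.Formal27.Torsion
import Groth.Agent.S9514

/-! The kernels of a coherent formal module form a finitely generated graded system. -/

set_option autoImplicit false
set_option backward.isDefEq.respectTransparency.types false
set_option linter.style.haveILetI false
set_option maxHeartbeats 1000000
set_option synthInstance.maxHeartbeats 200000

universe u

open CategoryTheory CategoryTheory.Limits AlgebraicGeometry Opposite TopologicalSpace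

noncomputable section

namespace Groth.Agent.RB70.FormalKer

open Formal27 QC70

variable {A : Type u} [CommRing A] [IsNoetherianRing A] {X : Scheme.{u}} [X.Over (Spec (CommRingCat.of A))]
  [IsLocallyNoetherian X] {I : Ideal A} {G : ℕᵒᵖ ⥤ X.Modules} (hG : Formal.IsCohFormal I G)

/-- The transition map. -/
abbrev tr (G : ℕᵒᵖ ⥤ X.Modules) (n : ℕ) : G.obj (op (n + 1)) ⟶ G.obj (op n) :=
  G.map (homOfLE (Nat.le_succ n)).op

include hG in
omit [IsNoetherianRing A] [IsLocallyNoetherian X] in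
theorem exists_modPow_iso (n : ℕ) :
    ∃ e : Formal.modPow I (n + 1) (G.obj (op (n + 1))) ≅ G.obj (op n),
      Formal.modPowπ I (n + 1) _ ≫ e.hom = tr G n := by
  obtain ⟨h, hiso⟩ := hG.2.2 n
  exact ⟨@asIso _ _ _ _ (cokernel.desc _ _ h) hiso, cokernel.π_desc _ _ _⟩

include hG in
omit [IsNoetherianRing A] [IsLocallyNoetherian X] in
theorem tr_app_eq_zero_iff (n : ℕ) {V : X.Opens} (hV : IsAffineOpen V) (x : Γ(G.obj (op (n + 1)), V)) :
    (tr G n).app V x = 0 ↔ x ∈ IM (G.obj (op (n + 1))) (I ^ (n + 1)) V := by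
  haveI := (hG.1 (n + 1)).1
  obtain ⟨e, he⟩ := exists_modPow_iso hG n
  rw [← modPowπ_app_eq_zero_iff hV x, ← he]
  exact map_eq_zero_iff (e.hom.app V).hom (ConcreteCategory.bijective_of_isIso (e.hom.app V)).1

include hG in
omit [IsNoetherianRing A] [IsLocallyNoetherian X] in
theorem exists_mulMap (n : ℕ) {a : A} (ha : a ∈ I) :
    ∃ m : G.obj (op n) ⟶ G.obj (op (n + 1)), tr G n ≫ m = Formal.smulMod A _ a := by
  obtain ⟨e, he⟩ := exists_modPow_iso hG n
  refine ⟨e.inv ≫ cokernel.desc _ (Formal.smulMod A _ a) (smulFamily_comp_eq_zero _ fun b hb => ?_), ?_⟩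
  · rw [← smulMod_mul]
    exact hG.2.1 (n + 1) _ (pow_succ' I (n + 1) ▸ Ideal.mul_mem_mul ha hb)
  · rw [← he, Category.assoc, e.hom_inv_id_assoc]
    exact cokernel.π_desc _ _ _

include hG in
/-- The kernels of the transition maps form a finitely generated commuting system. -/
theorem exists_system :
    ∃ (r : ℕ) (T : Fin r → ∀ n, kernel (tr G n) ⟶ kernel (tr G (n + 1))),
      (∀ a b n, T a n ≫ T b (n + 1) = T b n ≫ T a (n + 1)) ∧
      ∀ {κ : Type u} (U : κ → X.affineOpens) (n : ℕ), GenAt U fun j => T j n := by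
  classical
  haveI : ∀ n, (G.obj (op n)).IsQuasicoherent := fun n => (hG.1 n).1
  haveI hepi : ∀ n, Epi (tr G n) := fun n => epi_step hG n
  choose m hm using fun (n : ℕ) (a : I) => exists_mulMap hG (n + 1) a.2
  have hm1 : ∀ n (a : I), m n a ≫ tr G (n + 1) = Formal.smulMod A _ (a : A) := fun n a => by
    rw [← cancel_epi (tr G (n + 1)), ← Category.assoc, hm, smulMod_comp]
  have hkill : ∀ n (a : I), Formal.smulMod A (kernel (tr G n)) (a : A) = 0 := fun n a => by
    refine Scheme.Modules.hom_ext _ _ fun W => ?_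
    ext x
    refine section_ext _ _ 0 fun q hq => ?_
    obtain ⟨_, ⟨U, hU, rfl⟩, hqU, hUW⟩ := X.isBasis_affineOpens.exists_subset_of_mem_open hq W.2
    refine ⟨U, hUW, hqU, ?_⟩
    rw [res_zero]
    refine (app_res (Formal.smulMod A _ (a : A)) hUW x).symm.trans ?_
    refine app_injective_of_mono (kernel.ι (tr G n)) U ?_
    rw [map_zero]
    refine (congr(Scheme.Modules.Hom.app $((smulMod_comp (kernel.ι (tr G n)) (a : A)).symm) U
      (res _ hUW x))).trans ?_
    refine IM_induction (p := fun y => (Formal.smulMod A (G.obj (op (n + 1))) (a : A)).app U y = 0)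
      ((tr_app_eq_zero_iff hG n hU _).mp (congr(Scheme.Modules.Hom.app $(kernel.condition (tr G n)) U
        (res _ hUW x)))) (fun b hb y => ?_) (map_zero _) fun x y hx hy => by rw [map_add, hx, hy, add_zero]
    refine (congr(Scheme.Modules.Hom.app $((smulMod_mul (G.obj (op (n + 1))) (a : A) b).symm) U y)).trans ?_
    rw [hG.2.1 (n + 1) _ (pow_succ' I (n + 1) ▸ Ideal.mul_mem_mul a.2 hb)]
    rfl
  have hT : ∀ n (a : I), (kernel.ι (tr G n) ≫ m n a) ≫ tr G (n + 1) = 0 := fun n a => by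
    rw [Category.assoc, hm1, smulMod_comp, hkill, zero_comp]
  obtain ⟨r, g, hg⟩ := Submodule.fg_iff_exists_fin_generating_family.mp (IsNoetherian.noetherian I)
  have hgI : ∀ j, g j ∈ I := fun j => hg ▸ Submodule.subset_span ⟨j, rfl⟩
  let t : ∀ n (a : I), kernel (tr G n) ⟶ kernel (tr G (n + 1)) := fun n a =>
    kernel.lift _ (kernel.ι (tr G n) ≫ m n a) (hT n a)
  refine ⟨r, fun j n => t n ⟨g j, hgI j⟩, fun a b n => ?_, fun {κ} U n s => ?_⟩
  · have hmm : ∀ a b : I, tr G (n + 1 + 1) ≫ tr G (n + 1) ≫ m n a ≫ m (n + 1) b =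
        Formal.smulMod A (G.obj (op (n + 1 + 1 + 1))) ((b : A) * (a : A)) := fun a b => by
      rw [← Category.assoc (tr G (n + 1)), hm n a, ← Category.assoc, smulMod_comp, Category.assoc,
        hm (n + 1) b, smulMod_mul]
    have two : ∀ a b : I, m n a ≫ m (n + 1) b = m n b ≫ m (n + 1) a := fun a b => by
      rw [← cancel_epi (tr G (n + 1 + 1) ≫ tr G (n + 1)), Category.assoc, Category.assoc, hmm, hmm, mul_comm]
    rw [← cancel_mono (kernel.ι (tr G (n + 1 + 1)))]
    simp only [t, Category.assoc, kernel.lift_ι, kernel.lift_ι_assoc]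
    rw [two]
  · refine eq_top_iff.mpr fun c _ => ?_
    let S := ⨆ j, LinearMap.range (E4O.Sep.appL (t n ⟨g j, hgI j⟩) (U s).1)
    let e : Γ(kernel (tr G (n + 1)), (U s).1) → Γ(G.obj (op (n + 1 + 1)), (U s).1) := fun c =>
      (kernel.ι (tr G (n + 1))).app _ c
    have hadd : ∀ x y, e (x + y) = e x + e y := fun x y => map_add ((kernel.ι (tr G (n + 1))).app _).hom x y
    have h0 : e 0 = 0 := map_zero ((kernel.ι (tr G (n + 1))).app _).hom
    suffices h : ∀ y ∈ IM (G.obj (op (n + 1 + 1))) (I ^ (n + 1 + 1)) (U s).1, ∃ c' ∈ S, e c' = y by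
      obtain ⟨c', hc', hcc⟩ := h _ ((tr_app_eq_zero_iff hG (n + 1) (U s).2 _).mp
        (congr(Scheme.Modules.Hom.app $(kernel.condition (tr G (n + 1))) (U s).1 c)))
      rwa [app_injective_of_mono (kernel.ι (tr G (n + 1))) (U s).1 hcc] at hc'
    intro y hy
    have hprod : ∀ a₁ ∈ I, ∀ a₂ ∈ I ^ (n + 1), ∀ x : Γ(G.obj (op (n + 1 + 1)), (U s).1),
        ∃ c' ∈ S, e c' = gi A X (U s).1 (a₁ * a₂) • x := by
      intro a₁ ha₁
      rw [← hg] at ha₁
      induction ha₁ using Submodule.span_induction with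
      | mem a ha =>
        obtain ⟨j, rfl⟩ := ha
        intro a₂ ha₂ x
        haveI : Mono (ShortComplex.mk (kernel.ι (tr G n)) (tr G n) (kernel.condition _)).f :=
          inferInstanceAs (Mono (kernel.ι _))
        obtain ⟨u, hu⟩ := exists_app_eq_of_exact _ (ShortComplex.exact_of_f_is_kernel
          (ShortComplex.mk (kernel.ι (tr G n)) (tr G n) (kernel.condition _)) (kernelIsKernel _)) (U s).1
          ((tr G (n + 1)).app (U s).1 (gi A X (U s).1 a₂ • x))
          ((tr_app_eq_zero_iff hG n (U s).2 _).mpr (by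
            rw [Scheme.Modules.Hom.app_smul]; exact smul_mem_IM ha₂ _))
        refine ⟨(t n ⟨g j, hgI j⟩).app _ u, Submodule.mem_iSup_of_mem j ⟨u, rfl⟩, ?_⟩
        refine (congr(Scheme.Modules.Hom.app $(kernel.lift_ι _ _ (hT n ⟨g j, hgI j⟩)) (U s).1 u)).trans ?_
        refine (congrArg (fun z => (m n ⟨g j, hgI j⟩).app (U s).1 z) hu).trans ?_
        rw [map_mul, mul_smul]
        exact congr(Scheme.Modules.Hom.app $(hm n ⟨g j, hgI j⟩) (U s).1 _)
      | zero =>
        intro a₂ _ x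
        exact ⟨0, zero_mem _, by rw [zero_mul, map_zero, zero_smul]; exact h0⟩
      | add a b _ _ ha hb =>
        intro a₂ ha₂ x
        obtain ⟨c₁, h₁, e₁⟩ := ha a₂ ha₂ x
        obtain ⟨c₂, h₂, e₂⟩ := hb a₂ ha₂ x
        exact ⟨c₁ + c₂, add_mem h₁ h₂, by rw [hadd, e₁, e₂, add_mul, map_add, add_smul]⟩
      | smul c a _ ha =>
        intro a₂ ha₂ x
        rw [smul_eq_mul, mul_comm c a, mul_assoc]
        exact ha _ (Ideal.mul_mem_left _ c ha₂) x
    refine IM_induction (p := fun y => ∃ c' ∈ S, e c' = y) hy (fun a ha x => ?_) ⟨0, zero_mem _, h0⟩ ?_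
    · rw [pow_succ'] at ha
      refine Submodule.mul_induction_on ha (fun a₁ h₁ a₂ h₂ => hprod a₁ h₁ a₂ h₂ x) ?_
      rintro a b ⟨c₁, h₁, e₁⟩ ⟨c₂, h₂, e₂⟩
      exact ⟨c₁ + c₂, add_mem h₁ h₂, by rw [hadd, e₁, e₂, map_add, add_smul]⟩
    · rintro x y ⟨c₁, h₁, e₁⟩ ⟨c₂, h₂, e₂⟩
      exact ⟨c₁ + c₂, add_mem h₁ h₂, by rw [hadd, e₁, e₂]⟩

include hG in
/-- Uniform vanishing for the kernels. -/
theorem exists_vanishing [IsProper (X ↘ Spec (CommRingCat.of A))] {L : X.Modules} (hL : CohB1.IsAmple L) :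
    ∃ n₀ : ℕ, ∀ d, n₀ ≤ d → ∀ n q : ℕ, 1 ≤ q →
      Subsingleton (Coh.HH X (CohB1.tensorMod (kernel (tr G n)) (CohB1.tensorPow L d)) q) := by
  classical
  obtain ⟨r, T, hT, hgen⟩ := exists_system hG
  haveI : CompactSpace X := QuasiCompact.compactSpace_of_compactSpace (X ↘ Spec (CommRingCat.of A))
  choose U hU using fun x : X =>
    (show ∃ U : X.affineOpens, x ∈ U.1 from by
      obtain ⟨_, ⟨U, hU, rfl⟩, hxU, -⟩ :=
        X.isBasis_affineOpens.exists_subset_of_mem_open (Set.mem_univ x) isOpen_univ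
      exact ⟨⟨U, hU⟩, hxU⟩)
  obtain ⟨t, ht⟩ := isCompact_univ.elim_finite_subcover (fun x => ((U x).1 : Set X))
    (fun x => (U x).1.2) fun x _ => Set.mem_iUnion.2 ⟨x, hU x⟩
  exact exists_vanishing_graded (X ↘ Spec (CommRingCat.of A)) hL (U := fun x : t => U x.1)
    (fun x => by
      obtain ⟨y, hy, hxy⟩ := Set.mem_iUnion₂.1 (ht (Set.mem_univ x))
      exact ⟨⟨y, hy⟩, hxy⟩)
    r (fun n => kernel (tr G n)) (fun n => (S9514.result X (hG.1 (n + 1)) (hG.1 n) _).1) T hT 0
    fun n _ => hgen _ n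

end Groth.Agent.RB70.FormalKer

end
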