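import Groth.Agent.Amp73.CounitEpi
import Groth.Agent.Amp73.PullTensor
import Groth.Agent.Amp73.Local
import Groth.Agent.Desc59.FlatH0
import Groth.Agent.QC70.Hom

/-! Global generation of an invertible module spreads out from the local ring of a point of the base. -/

set_option autoImplicit false
set_option maxSynthPendingDepth 6
set_option synthInstance.maxHeartbeats 200000
set_option maxHeartbeats 1000000
set_option linter.style.haveILetI false
set_option backward.isDefEq.respectTransparency.types false

universe u

noncomputable section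

open CategoryTheory CategoryTheory.Limits AlgebraicGeometry TopologicalSpace Opposite TensorProduct

namespace Groth.Agent.RB70

open Var76.LineBundle Var76.ZeroScheme

variable {X : Scheme.{u}}

/-- A globally generated invertible module has a global section not vanishing at a given point. -/
theorem exists_toFibre_ne_zero {L : X.Modules} (hL : PicF.IsInvertible L)
    (h : Curv2.IsGloballyGenerated L) (x : X) :
    ∃ t : Γ(L, ⊤), (Amp73.toFibre x L).app ⊤ t ≠ 0 := by
  obtain ⟨ι, p, hp⟩ := h
  let p' : (∐ fun _ : ι => QC70.unitMod X) ⟶ L := p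
  haveI : Epi p' := hp
  by_contra hcon
  push Not at hcon
  obtain ⟨W, hxW, -, e, he⟩ := Mero90.exists_affine_frame hL x ⊤ trivial
  refine Amp73.toFibre_ne_zero_of_isFrame hL hxW he ?_
  have h0 : Amp73.toFibre x L = 0 := by
    rw [← cancel_epi p', comp_zero]
    refine Sigma.hom_ext _ _ fun i => ?_
    rw [comp_zero, ← Category.assoc]
    refine Scheme.Modules.hom_ext _ _ fun V => ?_
    ext a
    refine (QC70.app_toUnit (Sigma.ι (fun _ : ι => QC70.unitMod X) i ≫ p' ≫ Amp73.toFibre x L) a).trans ?_
    have h1 : (Sigma.ι (fun _ : ι => QC70.unitMod X) i ≫ p' ≫ Amp73.toFibre x L).app ⊤ (QC70.toUnit 1) = 0 :=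
      hcon ((Sigma.ι (fun _ : ι => QC70.unitMod X) i ≫ p').app ⊤ (QC70.toUnit 1))
    rw [h1, QC70.res_zero, smul_zero]
    rfl
  rw [h0]
  rfl

theorem mem_genLocus_of_isFrame {L : X.Modules} (s : Γ(L, ⊤)) {V : X.Opens}
    (h : IsFrame L V (res L (le_top : V ≤ ⊤) s)) {x : X} (hx : x ∈ V) :
    x ∈ CohB1.genLocus L (Var76.Frames.ofSection L s) := by
  refine (Amp73.isFrame_iff_le_genLocus (Var76.Frames.ofSection L s) V).1 ?_ hx
  rwa [Var76.Frames.val_ofSection]

end Groth.Agent.RB70
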