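import Mathlib.RingTheory.FiniteType
import Mathlib.RingTheory.Noetherian.Basic
import Mathlib.LinearAlgebra.DFinsupp

/-! Graded submodules of systems with commuting raising operators are generated in bounded degree. -/

set_option autoImplicit false
set_option maxHeartbeats 1000000
set_option synthInstance.maxHeartbeats 100000

universe u

namespace Groth.Agent.RB70

variable {R : Type u} [CommRing R] [IsNoetherianRing R] {M : ℕ → Type u} [∀ k, AddCommGroup (M k)]
  [∀ k, Module R (M k)] [∀ k, Module.Finite R (M k)] {r : ℕ}

theorem exists_gen_bound (T : Fin r → ∀ k, M k →ₗ[R] M (k + 1))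
    (hT : ∀ i j k (x : M k), T i (k + 1) (T j k x) = T j (k + 1) (T i k x)) {d : ℕ}
    (hgen : ∀ k, d ≤ k → ⨆ i, LinearMap.range (T i k) = ⊤)
    (N : ∀ k, Submodule R (M k)) (hN : ∀ i k, N k ≤ (N (k + 1)).comap (T i k)) :
    ∃ d', ∀ k, d' ≤ k → N (k + 1) ≤ ⨆ i, (N k).map (T i k) := by
  classical
  let V := Π₀ k, M k
  let E : Fin r → Module.End R V := fun i =>
    DFinsupp.lsum ℕ fun k => (DFinsupp.lsingle (k + 1)).comp (T i k)
  have hE : ∀ i k (x : M k), E i (DFinsupp.single k x) = DFinsupp.single (k + 1) (T i k x) := fun i k x =>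
    DFinsupp.lsum_single ..
  have hEzero : ∀ i (v : V), E i v 0 = 0 := fun i v => by
    induction v using DFinsupp.induction with
    | h0 => rw [map_zero]; rfl
    | ha k x f _ _ ih =>
      rw [map_add, DFinsupp.add_apply, ih, hE, DFinsupp.single_eq_of_ne (Nat.succ_ne_zero k).symm, add_zero]
  have hEsucc : ∀ i (v : V) k, E i v (k + 1) = T i k (v k) := fun i v k => by
    induction v using DFinsupp.induction with
    | h0 => rw [map_zero]; exact (map_zero (T i k)).symm
    | ha l x f _ _ ih =>
      rw [map_add, DFinsupp.add_apply, ih, hE, DFinsupp.add_apply, map_add]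
      refine congrArg (· + T i k (f k)) ?_
      by_cases h : l = k
      · subst h; simp
      · rw [DFinsupp.single_eq_of_ne (fun e => h (Nat.succ_injective e).symm),
          DFinsupp.single_eq_of_ne (fun e => h e.symm), map_zero]
  have hcomm : ∀ a ∈ Set.range E, ∀ b ∈ Set.range E, a * b = b * a := by
    rintro _ ⟨i, rfl⟩ _ ⟨j, rfl⟩
    refine DFinsupp.lhom_ext' fun k => LinearMap.ext fun x => ?_
    show E i (E j (DFinsupp.single k x)) = E j (E i (DFinsupp.single k x))
    rw [hE, hE, hE, hE, hT]
  let S := Algebra.adjoin R (Set.range E)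
  letI : CommRing S := { (inferInstance : Ring S) with
    mul_comm := fun a b => Subtype.ext (Algebra.commute_of_mem_adjoin_of_forall_mem_commute b.2 (fun c hc =>
      (Algebra.commute_of_mem_adjoin_of_forall_mem_commute a.2 fun e he => (hcomm e he c hc).symm).symm)) }
  haveI : Algebra.FiniteType R S :=
    ⟨(Subalgebra.fg_top S).mpr ⟨(Set.finite_range E).toFinset, by rw [Set.Finite.coe_toFinset]⟩⟩
  haveI : IsNoetherianRing S := Algebra.FiniteType.isNoetherianRing R S
  let eS : Fin r → S := fun i => ⟨E i, Algebra.subset_adjoin ⟨i, rfl⟩⟩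
  -- the whole module is finite over the algebra of operators
  let W : Submodule S V := Submodule.span S {v | ∃ k ≤ d, ∃ x : M k, v = DFinsupp.single k x}
  have hW : ∀ k (x : M k), DFinsupp.single k x ∈ W := by
    intro k
    induction k with
    | zero => exact fun x => Submodule.subset_span ⟨0, Nat.zero_le d, x, rfl⟩
    | succ k ih =>
      intro x
      by_cases hk : d ≤ k
      · have hx : x ∈ ⨆ i, LinearMap.range (T i k) := by rw [hgen k hk]; trivial
        induction hx using Submodule.iSup_induction' with
        | mem i y hy =>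
          obtain ⟨z, rfl⟩ := hy
          rw [← hE]
          exact W.smul_mem (eS i) (ih z)
        | zero => rw [DFinsupp.single_zero]; exact zero_mem W
        | add y z _ _ iy iz => rw [DFinsupp.single_add]; exact add_mem iy iz
      · exact Submodule.subset_span ⟨k + 1, by omega, x, rfl⟩
  choose gs hgs using fun k => Module.Finite.fg_top (R := R) (M := M k)
  haveI : Module.Finite S V := by
    refine ⟨⟨(Finset.range (d + 1)).biUnion fun k => (gs k).image (DFinsupp.single k), top_le_iff.mp fun v _ => ?_⟩⟩
    induction v using DFinsupp.induction with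
    | h0 => exact zero_mem _
    | ha k x f _ _ ih =>
      refine add_mem ((Submodule.span_le.mpr ?_) (hW k x)) (ih trivial)
      rintro _ ⟨l, hl, y, rfl⟩
      have hy : y ∈ Submodule.span R (gs l : Set (M l)) := by rw [hgs]; trivial
      induction hy using Submodule.span_induction with
      | mem z hz =>
        exact Submodule.subset_span (Finset.mem_biUnion.mpr
          ⟨l, Finset.mem_range.mpr (by omega), Finset.mem_image_of_mem _ hz⟩)
      | zero => rw [DFinsupp.single_zero]; exact zero_mem _
      | add a b _ _ ia ib => rw [DFinsupp.single_add]; exact add_mem ia ib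
      | smul c a _ ia =>
        rw [DFinsupp.single_smul]
        exact Submodule.smul_of_tower_mem _ c ia
  haveI : IsNoetherian S V := isNoetherian_of_isNoetherianRing_of_finite S V
  -- the graded submodule
  let N' : Submodule S V :=
    { carrier := {v | ∀ k, v k ∈ N k}
      zero_mem' := fun k => zero_mem _
      add_mem' := fun ha hb k => add_mem (ha k) (hb k)
      smul_mem' := fun s v hv => by
        obtain ⟨s, hs⟩ := s
        show ∀ k, (s • v) k ∈ N k
        induction hs using Algebra.adjoin_induction generalizing v with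
        | mem e he =>
          obtain ⟨i, rfl⟩ := he
          rintro (_ | k)
          · rw [show (E i • v) 0 = 0 from hEzero i v]; exact zero_mem _
          · rw [show (E i • v) (k + 1) = T i k (v k) from hEsucc i v k]; exact hN i k (hv k)
        | algebraMap c =>
          intro k
          exact (N k).smul_mem c (hv k)
        | add a b _ _ ia ib => exact fun k => add_mem (ia v hv k) (ib v hv k)
        | mul a b _ _ ia ib => exact ia (b • v) (ib v hv) }
  obtain ⟨g, hg⟩ := (IsNoetherian.noetherian N')
  let d' := g.sup fun v : V => v.support.sup id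
  refine ⟨d', fun k hk x hx => ?_⟩
  let P : Submodule S V :=
    { carrier := {v | v ∈ N' ∧ ∀ l, d' ≤ l → v (l + 1) ∈ ⨆ i, (N l).map (T i l)}
      zero_mem' := ⟨zero_mem _, fun l _ => zero_mem _⟩
      add_mem' := fun ha hb => ⟨add_mem ha.1 hb.1, fun l hl => add_mem (ha.2 l hl) (hb.2 l hl)⟩
      smul_mem' := fun s v hv => by
        refine ⟨N'.smul_mem s hv.1, ?_⟩
        obtain ⟨s, hs⟩ := s
        show ∀ l, d' ≤ l → (s • v) (l + 1) ∈ ⨆ i, (N l).map (T i l)
        induction hs using Algebra.adjoin_induction generalizing v with
        | mem e he =>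
          obtain ⟨i, rfl⟩ := he
          intro l _
          rw [show (E i • v) (l + 1) = T i l (v l) from hEsucc i v l]
          exact Submodule.mem_iSup_of_mem i ⟨v l, hv.1 l, rfl⟩
        | algebraMap c => exact fun l hl => Submodule.smul_mem _ c (hv.2 l hl)
        | add a b _ _ ia ib => exact fun l hl => add_mem (ia v hv l hl) (ib v hv l hl)
        | mul a b ha hb ia ib =>
          exact ia (b • v) ⟨N'.smul_mem ⟨b, hb⟩ hv.1, ib v hv⟩ }
  have hP : N' ≤ P := by
    rw [← hg]
    refine Submodule.span_le.mpr fun v hv => ⟨hg ▸ Submodule.subset_span hv, fun l hl => ?_⟩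
    have : v (l + 1) = 0 := by
      by_contra h
      have h1 : l + 1 ≤ v.support.sup id := Finset.le_sup (f := id) (DFinsupp.mem_support_iff.mpr h)
      have h2 : v.support.sup id ≤ d' := Finset.le_sup (f := fun v : V => v.support.sup id) hv
      omega
    rw [this]
    exact zero_mem _
  have hxN : DFinsupp.single (k + 1) x ∈ N' := fun l => by
    by_cases h : k + 1 = l
    · subst h; rw [DFinsupp.single_eq_same]; exact hx
    · rw [DFinsupp.single_eq_of_ne (Ne.symm h)]; exact zero_mem _
  have := (hP hxN).2 k hk
  rwa [DFinsupp.single_eq_same] at this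

end Groth.Agent.RB70
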