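import Mathlib.RingTheory.Localization.BaseChange
import Mathlib.LinearAlgebra.TensorProduct.Basic
import Mathlib.LinearAlgebra.Isomorphisms

/-! Cohomology of a localized three-term complex is the localization. -/

set_option autoImplicit false

universe u

open TensorProduct LinearMap
open Function (Surjective)

namespace Groth.Agent.RB70

variable {A : Type u} [CommRing A] (S : Submonoid A) {B : Type u} [CommRing B] [Algebra A B]
  [IsLocalization S B]

theorem isLocalizedModule_tmul_one (C : Type u) [AddCommGroup C] [Module A C] :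
    IsLocalizedModule S ((TensorProduct.mk A C B).flip (1 : B)) := by
  have h : IsLocalizedModule S (TensorProduct.mk A B C 1) := inferInstance
  have := IsLocalizedModule.of_linearEquiv S (TensorProduct.mk A B C 1) (TensorProduct.comm A B C)
  exact this

variable {C₀ C₁ C₂ H H' : Type u} [AddCommGroup C₀] [Module A C₀] [AddCommGroup C₁] [Module A C₁]
  [AddCommGroup C₂] [Module A C₂] [AddCommGroup H] [Module A H] [AddCommGroup H'] [Module A H']
  (d₀ : C₀ →ₗ[A] C₁) (d₁ : C₁ →ₗ[A] C₂)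

/-- Classes of localized cocycles are the localization of classes of cocycles. -/
theorem exists_isLocalizedModule_cocycles
    (q : ker d₁ →ₗ[A] H) (hq : Surjective q)
    (hk : ∀ z, q z = 0 ↔ ∃ w, d₀ w = (z : C₁))
    (q' : ker (d₁.rTensor B) →ₗ[A] H') (hq' : Surjective q')
    (hk' : ∀ z, q' z = 0 ↔ ∃ w, d₀.rTensor B w = (z : C₁ ⊗[A] B)) :
    ∃ f : H →ₗ[A] H', IsLocalizedModule S f := by
  have hι := fun (C : Type u) (_ : AddCommGroup C) (_ : Module A C) => isLocalizedModule_tmul_one (B := B) S C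
  let ι : ker d₁ →ₗ[A] ker (d₁.rTensor B) :=
    (((TensorProduct.mk A C₁ B).flip 1) ∘ₗ (ker d₁).subtype).codRestrict _ fun z => by
      show d₁.rTensor B ((z : C₁) ⊗ₜ[A] (1 : B)) = 0
      rw [rTensor_tmul, LinearMap.mem_ker.mp z.2, zero_tmul]
  have hle : ker q ≤ ker (q' ∘ₗ ι) := fun z hz => by
    obtain ⟨w, hw⟩ := (hk z).mp hz
    refine (hk' _).mpr ⟨w ⊗ₜ[A] (1 : B), ?_⟩
    rw [rTensor_tmul, hw]
    rfl
  let f : H →ₗ[A] H' :=
    ((ker q).liftQ (q' ∘ₗ ι) hle) ∘ₗ (q.quotKerEquivOfSurjective hq).symm.toLinearMap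
  have hf : ∀ z, f (q z) = q' (ι z) := fun z => by
    show (ker q).liftQ (q' ∘ₗ ι) hle ((q.quotKerEquivOfSurjective hq).symm (q z)) = _
    rw [show (q.quotKerEquivOfSurjective hq).symm (q z) = Submodule.Quotient.mk z from
      (LinearEquiv.symm_apply_eq _).mpr rfl]
    rfl
  refine ⟨f, fun s => ?_, fun y => ?_, fun {x₁ x₂} h => ?_⟩
  · obtain ⟨b, hb⟩ := (IsLocalization.map_units B s).exists_left_inv
    let m : ∀ (C : Type u) [AddCommGroup C] [Module A C], C ⊗[A] B →ₗ[A] C ⊗[A] B := fun C _ _ =>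
      (LinearMap.mul A B b).lTensor C
    have hm : ∀ (C : Type u) [AddCommGroup C] [Module A C] (x : C ⊗[A] B), (s : A) • m C x = x := by
      intro C _ _ x
      induction x using TensorProduct.induction_on with
      | zero => simp [m]
      | tmul c e =>
        show (s : A) • (c ⊗ₜ[A] (b * e)) = _
        rw [← tmul_smul, Algebra.smul_def, ← mul_assoc, mul_comm (algebraMap A B s), hb, one_mul]
      | add x y hx hy => rw [map_add, smul_add, hx, hy]
    have hc : ∀ {C C' : Type u} [AddCommGroup C] [Module A C] [AddCommGroup C'] [Module A C']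
        (d : C →ₗ[A] C') (x : C ⊗[A] B), d.rTensor B (m C x) = m C' (d.rTensor B x) := by
      intro C C' _ _ _ _ d x
      induction x using TensorProduct.induction_on with
      | zero => simp [m]
      | tmul c e => rfl
      | add x y hx hy => simp only [map_add, hx, hy]
    rw [Module.End.isUnit_iff]
    refine ⟨fun y₁ y₂ h => ?_, fun y => ?_⟩
    · change (s : A) • y₁ = (s : A) • y₂ at h
      rw [← sub_eq_zero, ← smul_sub] at h
      rw [← sub_eq_zero]
      obtain ⟨z, hz⟩ := hq' (y₁ - y₂)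
      rw [← hz, ← map_smul, hk'] at h
      obtain ⟨w, hw⟩ := h
      rw [← hz, hk']
      refine ⟨m C₀ w, ?_⟩
      rw [hc, hw, Submodule.coe_smul, map_smul, hm]
    · obtain ⟨z, rfl⟩ := hq' y
      have hz : d₁.rTensor B (m C₁ z) = 0 :=
        (hc d₁ z.1).trans ((congrArg (m C₂) z.2).trans (map_zero _))
      refine ⟨q' ⟨m C₁ z, hz⟩, ?_⟩
      show (s : A) • q' _ = _
      rw [← map_smul]
      exact congrArg q' (Subtype.ext (hm C₁ z))
  · obtain ⟨z, rfl⟩ := hq' y
    have := hι C₁ inferInstance inferInstance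
    obtain ⟨⟨x, s⟩, hx⟩ := IsLocalizedModule.surj S ((TensorProduct.mk A C₁ B).flip 1) (z : C₁ ⊗[A] B)
    have h0 : d₁ x ⊗ₜ[A] (1 : B) = 0 := by
      have e := congrArg (d₁.rTensor B) hx
      rw [Submonoid.smul_def, map_smul, show d₁.rTensor B (z : C₁ ⊗[A] B) = 0 from z.2, smul_zero] at e
      exact e.symm
    have := hι C₂ inferInstance inferInstance
    obtain ⟨t, ht⟩ := (IsLocalizedModule.eq_zero_iff S ((TensorProduct.mk A C₂ B).flip 1)).mp h0
    have htx : (t : A) • x ∈ ker d₁ := by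
      rw [LinearMap.mem_ker, map_smul]
      exact ht
    refine ⟨⟨q ⟨_, htx⟩, t * s⟩, ?_⟩
    rw [hf, Submonoid.smul_def, ← map_smul]
    refine congrArg q' (Subtype.ext ?_)
    show (((t * s : S) : A)) • (z : C₁ ⊗[A] B) = ((t : A) • x) ⊗ₜ[A] (1 : B)
    rw [Submonoid.coe_mul, mul_smul, ← Submonoid.smul_def s, hx]
    exact (smul_tmul' (t : A) x (1 : B))
  · obtain ⟨z₁, rfl⟩ := hq x₁
    obtain ⟨z₂, rfl⟩ := hq x₂
    rw [hf, hf, ← sub_eq_zero, ← map_sub, ← map_sub, hk'] at h
    obtain ⟨w, hw⟩ := h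
    have := hι C₀ inferInstance inferInstance
    have := hι C₁ inferInstance inferInstance
    obtain ⟨⟨v, s⟩, hv⟩ := IsLocalizedModule.surj S ((TensorProduct.mk A C₀ B).flip 1) w
    have h0 : (d₀ v - (s : A) • ((z₁ - z₂ : ker d₁) : C₁)) ⊗ₜ[A] (1 : B) = 0 := by
      rw [TensorProduct.sub_tmul, sub_eq_zero, ← smul_tmul']
      have e := congrArg (d₀.rTensor B) hv
      rw [Submonoid.smul_def, map_smul, hw] at e
      exact e.symm
    obtain ⟨t, ht⟩ := (IsLocalizedModule.eq_zero_iff S ((TensorProduct.mk A C₁ B).flip 1)).mp h0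
    refine ⟨t * s, ?_⟩
    rw [Submonoid.smul_def, ← sub_eq_zero, Submonoid.smul_def, ← map_smul, ← map_smul, ← map_sub, hk]
    refine ⟨(t : A) • v, ?_⟩
    have ht' : (t : A) • (d₀ v - (s : A) • ((z₁ - z₂ : ker d₁) : C₁)) = 0 := ht
    rw [smul_sub, sub_eq_zero] at ht'
    rw [map_smul, ht', Submonoid.coe_mul, smul_smul, ← smul_sub]
    rfl

end Groth.Agent.RB70
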