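import Groth.Agent.Mum71.SquareLin
import Groth.Agent.RB70.LocCocycle

/-! Cohomology commutes with localization of the affine base. -/

set_option autoImplicit false
set_option maxSynthPendingDepth 6
set_option synthInstance.maxHeartbeats 200000
set_option maxHeartbeats 800000
set_option linter.style.haveILetI false
set_option backward.isDefEq.respectTransparency.types false

universe u

noncomputable section

open CategoryTheory CategoryTheory.Limits AlgebraicGeometry TopologicalSpace Opposite TensorProduct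
open CohIII (T tensorObj)

namespace Groth.Agent.RB70

open Coh69 CechComp71 QC70 QCPull72 FF71 Mum71

variable {A : Type u} [CommRing A] {X : Scheme.{u}} [X.Over (Spec (CommRingCat.of A))]
  {ι : Type u} {U : ι → X.Opens} {F : X.Modules}

/-- Classes of Čech cocycles with coefficients, linearly. -/
theorem exists_cls_linear [Finite ι] {M : Type u} [AddCommGroup M] [Module A M] {X' : Scheme.{u}}
    {U' : ι → X'.Opens} {N : X'.Modules} (θ : Coef (A := A) U F U' N M) (hU' : ⨆ i, U' i = ⊤)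
    (hac : AcyclicOn U' (Coh.toAb N)) {H : Type u} [AddCommGroup H] [Module A H] (p : ℕ)
    (j : Coh.HH X' N p ≃+ H)
    (hlin : ∀ (a : A) (x : Ch U F p ⊗[A] M) (z z' : MZ U' N p), z.1 = θ.Φ p x → z'.1 = θ.Φ p (a • x) →
      j (toHH U' hU' N p z') = a • j (toHH U' hU' N p z)) :
    ∃ q : LinearMap.ker (((chCx A U F).d (p : ℤ) ((p : ℤ) + 1)).hom.rTensor M) →ₗ[A] H,
      Function.Surjective q ∧ ∀ z, q z = 0 ↔
        ∃ w, ((chCx A U F).d ((p : ℤ) - 1) (p : ℤ)).hom.rTensor M w = z.1 := by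
  let K := tensorObj (chCx A U F) (ModuleCat.of A M)
  let c : LinearMap.ker (((chCx A U F).d (p : ℤ) ((p : ℤ) + 1)).hom.rTensor M) →+ H :=
    j.toAddMonoidHom.comp (θ.cls hU' p)
  refine ⟨{ c with map_smul' := fun a z => ?_ }, fun y => ?_, fun z => ?_⟩
  · exact hlin a z.1 (θ.cyc p z) (θ.cyc p (a • z)) rfl rfl
  · obtain ⟨w, hw⟩ := ((toHH_surjective hU' hac p).comp (θ.cyc_bijective p).2) (j.symm y)
    exact ⟨w, (congrArg j hw).trans (j.apply_symm_apply y)⟩
  · refine Iff.trans (map_eq_zero_iff _ j.injective) ?_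
    refine (θ.toHH_cyc_eq_zero_iff hU' hac p z).trans ?_
    exact FCx40.hcls_eq_zero_iff (K := K) (CochainComplex.prev ℤ (p : ℤ)) (CochainComplex.next ℤ (p : ℤ)) z

variable {B : Type u} [CommRing B] [Algebra A B] {X' : Scheme.{u}} [X'.Over (Spec (CommRingCat.of B))]
  {g : X' ⟶ X}
  (hsq : IsPullback g (X' ↘ Spec (CommRingCat.of B)) (X ↘ Spec (CommRingCat.of A))
    (Spec.map (CommRingCat.ofHom (algebraMap A B))))
  [F.IsQuasicoherent] [Finite ι] (hU : ⨆ i, U i = ⊤)
  (hU' : ∀ (n : ℕ) (i : Fin (n + 1) → ι), IsAffineOpen (cOpen U i))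
  (S : Submonoid A) [IsLocalization S B]

include hsq hU hU' in
theorem exists_hh_localization (p : ℕ) :
    letI : Module A (Coh.HH X' ((Scheme.Modules.pullback g).obj F) p) := Module.compHom _ (algebraMap A B)
    ∃ f : Coh.HH X F p →ₗ[A] Coh.HH X' ((Scheme.Modules.pullback g).obj F) p,
      IsLocalizedModule S f := by
  letI : Module A (Coh.HH X' ((Scheme.Modules.pullback g).obj F) p) := Module.compHom _ (algebraMap A B)
  have hUp : ⨆ i, preU g U i = ⊤ := by
    show ⨆ i, g ⁻¹ᵁ U i = ⊤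
    rw [← Scheme.Hom.preimage_iSup, hU]
    rfl
  haveI := isAffineHom_of_sq hsq
  haveI : ((Scheme.Modules.pullback g).obj F).IsQuasicoherent := isQuasicoherent_pullback _ _
  have hac : AcyclicOn (preU g U) (Coh.toAb ((Scheme.Modules.pullback g).obj F)) :=
    acyclicOn_of_isAffineOpen _ _ fun n i => by
      rw [cOpen_preU]
      exact (hU' n i).preimage _
  obtain ⟨q', hq', hk'⟩ := exists_cls_linear (sqBCoef hsq F hU') hUp hac p (AddEquiv.refl _)
    (fun a x z z' hz hz' => by
      show toHH _ _ _ p z' = algebraMap A B a • toHH _ _ _ p z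
      rw [← FF71.toHH_smulZ]
      congr 1
      refine Subtype.ext (hz'.trans ((sqBCoef_Φ_smul hsq hU' p a x).trans ?_))
      rw [← hz]
      exact (smulZ_val _ _ p _ z).symm)
  obtain ⟨q₁, hq₁, hk₁⟩ := exists_cls_linear (idCoef (A := A) U F) hU (acyclicOn_of_isAffineOpen _ F hU') p
    (AddEquiv.refl _) (fun a x z z' hz hz' => by
      show toHH _ _ _ p z' = a • toHH _ _ _ p z
      rw [← FF71.toHH_smulZ]
      congr 1
      refine Subtype.ext (hz'.trans ((idCoef_Φ_smul U F p a x).trans ?_))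
      rw [← hz]
      exact (smulZ_val _ _ p _ z).symm)
  let d₀ := ((chCx A U F).d ((p : ℤ) - 1) (p : ℤ)).hom
  let d₁ := ((chCx A U F).d (p : ℤ) ((p : ℤ) + 1)).hom
  let r : LinearMap.ker d₁ →ₗ[A] LinearMap.ker (d₁.rTensor A) :=
    ((TensorProduct.rid A _).symm.toLinearMap ∘ₗ (LinearMap.ker d₁).subtype).codRestrict _ fun z => by
      show d₁.rTensor A ((z : (chCx A U F).X (p : ℤ)) ⊗ₜ[A] (1 : A)) = 0
      rw [LinearMap.rTensor_tmul, LinearMap.mem_ker.mp z.2, TensorProduct.zero_tmul]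
  have hrid : ∀ {C C' : Type u} [AddCommGroup C] [Module A C] [AddCommGroup C'] [Module A C']
      (d : C →ₗ[A] C') (x : C ⊗[A] A),
      TensorProduct.rid A C' (d.rTensor A x) = d (TensorProduct.rid A C x) := by
    intro C C' _ _ _ _ d x
    induction x using TensorProduct.induction_on with
    | zero => simp
    | tmul c a => simp
    | add x y hx hy => simp only [map_add, hx, hy]
  refine exists_isLocalizedModule_cocycles S d₀ d₁ (q₁ ∘ₗ r) (fun y => ?_) (fun z => ?_) q' hq' hk'
  · obtain ⟨z, rfl⟩ := hq₁ y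
    have hz : TensorProduct.rid A _ z.1 ∈ LinearMap.ker d₁ := by
      rw [LinearMap.mem_ker, ← hrid]
      exact (congrArg _ z.2).trans (map_zero _)
    refine ⟨⟨_, hz⟩, congrArg q₁ (Subtype.ext ?_)⟩
    exact (TensorProduct.rid A _).symm_apply_apply z.1
  · refine (hk₁ (r z)).trans ⟨fun ⟨w, hw⟩ => ⟨TensorProduct.rid A _ w, ?_⟩, fun ⟨w, hw⟩ => ⟨w ⊗ₜ 1, ?_⟩⟩
    · exact (hrid d₀ w).symm.trans ((congrArg _ hw).trans ((TensorProduct.rid A _).apply_symm_apply _))
    · show d₀.rTensor A (w ⊗ₜ[A] (1 : A)) = _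
      rw [LinearMap.rTensor_tmul, hw]
      rfl

end Groth.Agent.RB70
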