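import Groth.Agent.FCx40.TF
import Mathlib.RingTheory.Spectrum.Prime.FreeLocus
import Mathlib.Algebra.Module.FinitePresentation
import Mathlib.LinearAlgebra.TensorProduct.RightExactness

/-! Lifting of homology classes up to a scalar where the cokernel of the differential is free. -/

set_option autoImplicit false
set_option synthInstance.maxHeartbeats 200000

universe u

open CategoryTheory CategoryTheory.Limits TensorProduct LinearMap
open Function (Surjective Injective Exact Bijective)

namespace Groth.Agent.RB70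

variable {A : Type u} [CommRing A]

/-- A surjection onto a module free at a prime splits there up to a scalar outside the prime. -/
theorem exists_scaled_section {M C : Type u} [AddCommGroup M] [Module A M] [AddCommGroup C] [Module A C]
    [Module.FinitePresentation A C] (π : M →ₗ[A] C) (hπ : Surjective π) (x : PrimeSpectrum A)
    (h : x ∈ Module.freeLocus A C) :
    ∃ r ∉ x.asIdeal, ∃ σ : C →ₗ[A] M, π ∘ₗ σ = r • LinearMap.id := by
  let S := x.asIdeal.primeCompl
  let Ap := Localization.AtPrime x.asIdeal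
  let fC := LocalizedModule.mkLinearMap S C
  let fM := LocalizedModule.mkLinearMap S M
  let πp : LocalizedModule S M →ₗ[Ap] LocalizedModule S C := LocalizedModule.map S π
  have hπp : Surjective πp := LocalizedModule.map_surjective S π hπ
  haveI : Module.Free Ap (LocalizedModule S C) := h
  obtain ⟨τ, hτ⟩ := Module.projective_lifting_property πp LinearMap.id hπp
  obtain ⟨σ, s, hσ⟩ :=
    Module.FinitePresentation.exists_lift_of_isLocalizedModule S fM ((τ.restrictScalars A).comp fC)
  have h1 : fC ∘ₗ (π ∘ₗ σ) = fC ∘ₗ ((s : A) • LinearMap.id) := LinearMap.ext fun c => by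
    have e1 : fM (σ c) = (s : A) • τ (fC c) := LinearMap.congr_fun hσ c
    have e2 : πp (fM (σ c)) = fC (π (σ c)) := LocalizedModule.map_mk S π (σ c) 1
    show fC (π (σ c)) = fC ((s : A) • c)
    rw [← e2, e1, LinearMap.map_smul_of_tower, map_smul]
    exact congrArg ((s : A) • ·) (LinearMap.congr_fun hτ (fC c))
  obtain ⟨s₁, hs₁⟩ := Module.Finite.exists_smul_of_comp_eq_of_isLocalizedModule S fC _ _ h1
  refine ⟨s₁ * s, (s₁ * s).2, (s₁ : A) • σ, ?_⟩
  rw [LinearMap.comp_smul, ← smul_smul]
  exact hs₁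

variable (P : ChainComplex (ModuleCat.{u} A) ℤ)

/-- Classes lift along surjections up to one scalar outside a prime where the cokernel of the
differential is free. -/
theorem exists_scalar_lift {p q : ℤ} (hpq : q + 1 = p)
    [Module.FinitePresentation A (P.X q ⧸ range (P.d p q).hom)] (x : PrimeSpectrum A)
    (h : x ∈ Module.freeLocus A (P.X q ⧸ range (P.d p q).hom)) :
    ∃ r ∉ x.asIdeal, ∀ {M N : ModuleCat.{u} A} (g : M ⟶ N), Surjective g.hom →
      ∀ t : CohIII.T P p N, ∃ t' : CohIII.T P p M,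
        FCx40.tmap P p g t' = FCx40.tmap P p (r • 𝟙 N) t := by
  obtain ⟨r, hr, σ, hσ⟩ := exists_scaled_section _ (Submodule.mkQ_surjective _) x h
  refine ⟨r, hr, fun {M N} g hg t => ?_⟩
  let d := (P.d p q).hom
  let π := (range d).mkQ
  have hρ : ∀ y, (r • (LinearMap.id : P.X q →ₗ[A] P.X q) - σ ∘ₗ π) y ∈ range d := fun y => by
    rw [← Submodule.Quotient.mk_eq_zero]
    show π (r • y - σ (π y)) = 0
    rw [map_sub, map_smul, show π (σ (π y)) = r • π y from LinearMap.congr_fun hσ (π y), sub_self]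
  let ρ : P.X q →ₗ[A] range d := LinearMap.codRestrict _ _ hρ
  have hρd : (range d).subtype ∘ₗ ρ ∘ₗ d = r • d := LinearMap.ext fun y => by
    show r • d y - σ (π (d y)) = r • d y
    rw [show π (d y) = 0 from (Submodule.Quotient.mk_eq_zero _).2 ⟨y, rfl⟩, map_zero, sub_zero]
  obtain ⟨⟨z'', hz''⟩, rfl⟩ := FCx40.tcls_surjective hpq N t
  obtain ⟨z, rfl⟩ := LinearMap.lTensor_surjective (P.X p) hg z''
  let ι := (ker g.hom).subtype
  have h0 : g.hom.lTensor (P.X q) (d.rTensor M z) = 0 := by
    rw [← LinearMap.mem_ker.mp hz'', ← LinearMap.comp_apply, lTensor_comp_rTensor, ← rTensor_comp_lTensor, LinearMap.comp_apply]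
  obtain ⟨w, hw⟩ := ((lTensor_exact (P.X q) (LinearMap.exact_subtype_ker_map g.hom) hg) _).mp h0
  obtain ⟨v, hv⟩ := LinearMap.rTensor_surjective (ker g.hom) d.surjective_rangeRestrict (ρ.rTensor _ w)
  let z' := r • z - ι.lTensor (P.X p) v
  have hz' : d.rTensor M z' = 0 := by
    have e : d.rTensor (ker g.hom) v = ((range d).subtype ∘ₗ ρ).rTensor (ker g.hom) w := by
      rw [rTensor_comp, LinearMap.comp_apply, ← hv, ← LinearMap.comp_apply, ← rTensor_comp]
      rfl
    rw [map_sub, map_smul, ← LinearMap.comp_apply (d.rTensor M) (ι.lTensor (P.X p)), rTensor_comp_lTensor,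
      ← lTensor_comp_rTensor, LinearMap.comp_apply, e, ← LinearMap.comp_apply (ι.lTensor (P.X q)), lTensor_comp_rTensor,
      ← rTensor_comp_lTensor, LinearMap.comp_apply, hw, ← LinearMap.comp_apply, ← rTensor_comp, comp_assoc, hρd, rTensor_smul,
      LinearMap.smul_apply, sub_self]
  refine ⟨FCx40.tcls P p q hpq M ⟨z', LinearMap.mem_ker.mpr hz'⟩, ?_⟩
  rw [FCx40.map_tcls, FCx40.map_tcls]
  refine congrArg _ (Subtype.ext ?_)
  show g.hom.lTensor (P.X p) z' = (r • 𝟙 N : N ⟶ N).hom.lTensor (P.X p) (g.hom.lTensor (P.X p) z)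
  rw [map_sub, map_smul, ← LinearMap.comp_apply (g.hom.lTensor (P.X p)) (ι.lTensor (P.X p)), ← lTensor_comp,
    LinearMap.comp_ker_subtype, lTensor_zero, LinearMap.zero_apply, sub_zero, ModuleCat.hom_smul, ModuleCat.hom_id,
    lTensor_smul, LinearMap.smul_apply, lTensor_id, LinearMap.id_apply]

/-- Classes come, up to a scalar outside the prime, from a submodule with torsion cokernel there. -/
theorem exists_smul_mem_range_tmap (hP : ∀ i, Module.Flat A (P.X i)) {p q : ℤ} (hpq : q + 1 = p)
    (x : PrimeSpectrum A) {N N' : ModuleCat.{u} A} (ι : N ⟶ N') (hι : Injective ι.hom)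
    (hs : ∀ b : N', ∃ s ∉ x.asIdeal, s • b ∈ range ι.hom) (t : CohIII.T P p N') :
    ∃ s ∉ x.asIdeal, ∃ t' : CohIII.T P p N,
      FCx40.tmap P p ι t' = FCx40.tmap P p (s • 𝟙 N') t := by
  have hgen : ∀ z : P.X p ⊗[A] N', ∃ s ∉ x.asIdeal, s • z ∈ range (ι.hom.lTensor (P.X p)) := fun z => by
    induction z using TensorProduct.induction_on with
    | zero => exact ⟨1, x.isPrime.one_notMem, by rw [smul_zero]; exact zero_mem _⟩
    | tmul y b =>
      obtain ⟨s, hsx, c, hc⟩ := hs b
      exact ⟨s, hsx, y ⊗ₜ c, by rw [lTensor_tmul, hc, TensorProduct.tmul_smul]⟩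
    | add a b ha hb =>
      obtain ⟨s, hsx, ha⟩ := ha
      obtain ⟨s', hsx', hb⟩ := hb
      refine ⟨s * s', fun h => (x.isPrime.mem_or_mem h).elim hsx hsx', ?_⟩
      rw [smul_add]
      refine add_mem ?_ ?_
      · rw [mul_comm, mul_smul]
        exact Submodule.smul_mem _ _ ha
      · rw [mul_smul]
        exact Submodule.smul_mem _ _ hb
  obtain ⟨⟨z, hz⟩, rfl⟩ := FCx40.tcls_surjective hpq N' t
  obtain ⟨s, hsx, z', hz'⟩ := hgen z
  haveI := hP q
  have h0 : (P.d p q).hom.rTensor N z' = 0 :=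
    Module.Flat.lTensor_preserves_injective_linearMap ι.hom hι (by
      rw [map_zero, ← LinearMap.comp_apply, lTensor_comp_rTensor, ← rTensor_comp_lTensor,
        LinearMap.comp_apply, hz', map_smul, LinearMap.mem_ker.mp hz, smul_zero])
  refine ⟨s, hsx, FCx40.tcls P p q hpq N ⟨z', LinearMap.mem_ker.mpr h0⟩, ?_⟩
  rw [FCx40.map_tcls, FCx40.map_tcls]
  refine congrArg _ (Subtype.ext ?_)
  show ι.hom.lTensor (P.X p) z' = (s • 𝟙 N' : N' ⟶ N').hom.lTensor (P.X p) z
  rw [hz', ModuleCat.hom_smul, ModuleCat.hom_id, lTensor_smul, LinearMap.smul_apply, lTensor_id,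
    LinearMap.id_apply]

end Groth.Agent.RB70
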