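import Groth.Agent.Univ70.Main
import Groth.Agent.Univ70.HomCorep
import Groth.Agent.RB70.FibreMod
import Groth.Agent.RB70.PushHom
import Groth.Agent.RB70.ScaledLift
import Groth.Agent.Mum71.LocalCrit
import Groth.Agent.Coh69.AffinePush
import Groth.Agent.Formal27.SmulMod
import Groth.Agent.LimTop61.LocFreeStage
import Groth.Agent.CD47.Resolution
import Mathlib.RingTheory.LocalRing.ResidueField.Ideal

/-! Lifting of homomorphisms between locally free modules from a fibre, up to a scalar. -/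

set_option autoImplicit false
set_option backward.isDefEq.respectTransparency.types false
set_option maxSynthPendingDepth 6
set_option synthInstance.maxHeartbeats 200000
set_option maxHeartbeats 1000000
set_option linter.style.haveILetI false

universe u

noncomputable section

open CategoryTheory CategoryTheory.Limits AlgebraicGeometry TopologicalSpace Opposite MonoidalCategory
open Groth.Agent.QC70

namespace Groth.Agent.RB70

variable {A : Type u} [CommRing A]

/-- A field of fractions of `A/p` is the residue field, linearly over `A`. -/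
theorem nonempty_residueField_equiv {B : Type u} [CommRing B] [Algebra A B] (x : PrimeSpectrum A)
    (hker : ∀ a ∈ x.asIdeal, algebraMap A B a = 0)
    (hunit : ∀ s ∉ x.asIdeal, IsUnit (algebraMap A B s))
    (hfrac : ∀ b : B, ∃ a, ∃ s ∉ x.asIdeal, algebraMap A B s * b = algebraMap A B a) :
    Nontrivial B → Nonempty (x.asIdeal.ResidueField ≃ₗ[A] B) := fun _ => by
  let q : A ⧸ x.asIdeal →+* B := Ideal.Quotient.lift x.asIdeal (algebraMap A B) hker
  have hu : ∀ y : (nonZeroDivisors (A ⧸ x.asIdeal) : Submonoid _), IsUnit (q y) := by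
    rintro ⟨y, hy⟩
    obtain ⟨s, rfl⟩ := Ideal.Quotient.mk_surjective y
    refine hunit s fun hs => ?_
    exact (mem_nonZeroDivisors_iff_ne_zero.mp hy) (Ideal.Quotient.eq_zero_iff_mem.mpr hs)
  let φ : x.asIdeal.ResidueField →+* B := IsLocalization.lift hu
  have hφ : ∀ a, φ (algebraMap A x.asIdeal.ResidueField a) = algebraMap A B a := fun a => by
    rw [← Ideal.algebraMap_quotient_residueField_mk, IsLocalization.lift_eq]
    rfl
  let l : x.asIdeal.ResidueField →ₗ[A] B :=
    { toFun := φ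
      map_add' := map_add φ
      map_smul' := fun a z => by
        show φ (a • z) = a • φ z
        rw [Algebra.smul_def, Algebra.smul_def, map_mul, hφ] }
  refine ⟨LinearEquiv.ofBijective l ⟨φ.injective, fun b => ?_⟩⟩
  obtain ⟨a, s, hs, h⟩ := hfrac b
  refine ⟨algebraMap A _ a / algebraMap A _ s, ?_⟩
  show φ _ = b
  apply (hunit s hs).mul_left_cancel
  rw [← hφ s, ← map_mul, mul_div_cancel₀, hφ, hφ, h]
  rw [ne_eq, Ideal.algebraMap_residueField_eq_zero]
  exact hs

variable {X : Scheme.{u}} [X.Over (Spec (CommRingCat.of A))] {F : X.Modules}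

/-- `𝓗om(F, G ⊗ M) ≅ 𝓗om(F, G) ⊗ M`. -/
def tensorHomIso (hF : FlatMod.IsFinLocFree F) (G : X.Modules) :
    CohIII.tensorAFunctor A G ⋙ homFunctor F ≅ CohIII.tensorAFunctor A (homMod F G) :=
  let D := dualMod F
  let s : DCoh.tensorRightMod G ≅ Mod48.tR (O := X.sheaf) G :=
    NatIso.ofComponents (fun _ => Iso.refl _)
      (fun f => (Category.comp_id _).trans (Category.id_comp _).symm)
  let s' : DCoh.tensorRightMod (homMod F G) ≅ Mod48.tR (O := X.sheaf) (homMod F G) :=
    NatIso.ofComponents (fun _ => Iso.refl _)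
      (fun f => (Category.comp_id _).trans (Category.id_comp _).symm)
  let t : Mod48.tR (O := X.sheaf) (Mod48.tens (O := X.sheaf) G D) ≅
      Mod48.tR (O := X.sheaf) (homMod F G) :=
    (ModSite.tensorBi X.sheaf).flip.mapIso ((Univ70.dualIso hF).app G)
  let r : DCoh.tensorRightMod G ⋙ homFunctor F ≅ DCoh.tensorRightMod (homMod F G) :=
    Functor.isoWhiskerRight s (homFunctor F) ≪≫
      Functor.isoWhiskerLeft (Mod48.tR (O := X.sheaf) G) (Univ70.dualIso hF).symm ≪≫
        Mod48.tensAssocNat (O := X.sheaf) G D ≪≫ t ≪≫ s'.symm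
  Functor.isoWhiskerLeft (tilde.functor (CommRingCat.of A))
    (Functor.isoWhiskerLeft (Scheme.Modules.pullback (X ↘ Spec (CommRingCat.of A))) r)

variable (G : X.Modules)

/-- `Hom(F, G ⊗ M) ≅ H^0(X, 𝓗om(F, G) ⊗ M)`. -/
def homH0Equiv (hF : FlatMod.IsFinLocFree F) (M : ModuleCat.{u} A) :
    (F ⟶ (CohIII.tensorAFunctor A G).obj M) ≃+ (Univ70.HA A (homMod F G) 0).obj M :=
  (Univ70.homGlobalEquiv F _).trans
    ((asIso (((tensorHomIso hF G).hom.app M).app ⊤)).addCommGroupIsoToAddEquiv.trans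
      (Serre71.hzero _).symm)

theorem homH0Equiv_natural [IsNoetherianRing A] (hF : FlatMod.IsFinLocFree F) {M N : ModuleCat.{u} A}
    (g : M ⟶ N) (v : F ⟶ (CohIII.tensorAFunctor A G).obj M) :
    homH0Equiv G hF N (v ≫ (CohIII.tensorAFunctor A G).map g) =
      (Univ70.HA A (homMod F G) 0).map g (homH0Equiv G hF M v) := by
  apply (Serre71.hzero (X := X) ((CohIII.tensorAFunctor A (homMod F G)).obj N)).injective
  refine (AddEquiv.apply_symm_apply _ _).trans ?_
  refine Eq.trans ?_ (Serre71.hzero_hmap (A := A) ((CohIII.tensorAFunctor A (homMod F G)).map g)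
    (homH0Equiv G hF M v)).symm
  refine Eq.trans ?_ (congrArg _ (AddEquiv.apply_symm_apply _ _).symm)
  exact congr(($((tensorHomIso hF G).hom.naturality g)).app ⊤ (Univ70.homGlobalEquiv F _ v))

variable {B : Type u} [CommRing B] [Algebra A B] {X' : Scheme.{u}} [X'.Over (Spec (CommRingCat.of B))]
  {g : X' ⟶ X}
  (hsq : IsPullback g (X' ↘ Spec (CommRingCat.of B)) (X ↘ Spec (CommRingCat.of A))
    (Spec.map (CommRingCat.ofHom (algebraMap A B))))

include hsq in
/-- Vanishing on the fibre in terms of the universal functor. -/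
theorem subsingleton_HA_of_fibre [G.IsQuasicoherent] [IsLocallyNoetherian X'] (hF : FlatMod.IsFinLocFree F)
    (hG : FlatMod.IsFinLocFree G)
    (h : Subsingleton (Coh.HH X'
      (homMod ((Scheme.Modules.pullback g).obj F) ((Scheme.Modules.pullback g).obj G)) 1)) :
    Subsingleton ((Univ70.HA A (homMod F G) 1).obj (ModuleCat.of A B)) := by
  haveI := Mum71.isAffineHom_of_sq hsq
  obtain ⟨e, -⟩ := exists_iso_tA_push hsq G
  let F' := (Scheme.Modules.pullback g).obj F
  let G' := (Scheme.Modules.pullback g).obj G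
  haveI : (homMod F' G').IsQuasicoherent :=
    (isCoh_homMod (CD47.isCoh_of_isFinLocFree (LimTop61.isFinLocFree_pullback g hF))
      (CD47.isCoh_of_isFinLocFree (LimTop61.isFinLocFree_pullback g hG))).1
  obtain ⟨p⟩ := Coh69.nonempty_hh_push g (homMod F' G') 1
  let i : (CohIII.tensorAFunctor A (homMod F G)).obj (ModuleCat.of A B) ≅
      (Coh.push g).obj (homMod F' G') :=
    ((tensorHomIso hF G).app _).symm ≪≫ (homFunctor F).mapIso e ≪≫ ((pushHom g F).app G').symm
  haveI := p.symm.toEquiv.subsingleton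
  exact (Crv77.hEquiv A i 1).toEquiv.subsingleton

variable (x : PrimeSpectrum A)

include hsq in
/-- If `H¹` of the Hom sheaf of the fibre vanishes, homomorphisms of the fibre lift up to scalars. -/
theorem exists_hom_lift_scaled [IsNoetherianRing A] [IsProper (X ↘ Spec (CommRingCat.of A))]
    [IsLocallyNoetherian X'] [Nontrivial B]
    (hker : ∀ a ∈ x.asIdeal, algebraMap A B a = 0)
    (hunit : ∀ s ∉ x.asIdeal, IsUnit (algebraMap A B s))
    (hfrac : ∀ b : B, ∃ a, ∃ s ∉ x.asIdeal, algebraMap A B s * b = algebraMap A B a)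
    (hF : FlatMod.IsFinLocFree F) (hG : FlatMod.IsFinLocFree G)
    (hfl : FlatMod.IsFlatOver (X ↘ Spec (CommRingCat.of A)) G)
    (h : Subsingleton (Coh.HH X'
      (homMod ((Scheme.Modules.pullback g).obj F) ((Scheme.Modules.pullback g).obj G)) 1))
    (u₀ : (Scheme.Modules.pullback g).obj F ⟶ (Scheme.Modules.pullback g).obj G) :
    ∃ s ∉ x.asIdeal, ∃ u : F ⟶ G, (Scheme.Modules.pullback g).map u =
      (Scheme.Modules.pullback g).map (Formal.smulMod A F s) ≫ u₀ := by
  haveI : IsLocallyNoetherian X :=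
    LocallyOfFiniteType.isLocallyNoetherian (X ↘ Spec (CommRingCat.of A))
  haveI := Props58.LocFree.isQuasicoherent_of_isFinLocFree hG
  have hcG := CD47.isCoh_of_isFinLocFree hG
  obtain ⟨P, hP, -, -, hTA⟩ := Univ70.exists_univCx (A := A) (homMod F G)
    (isCoh_homMod (CD47.isCoh_of_isFinLocFree hF) hcG) (Univ70.isFlatOver_homMod _ hF hcG hfl)
  obtain ⟨e₁⟩ := hTA 1
  obtain ⟨e₀'⟩ := hTA 0
  let q : ℤ := -((1 : ℕ) : ℤ)
  have hq0 : -((0 : ℕ) : ℤ) = q + 1 := by norm_num [q]
  let e₀ : Univ70.HA A (homMod F G) 0 ≅ CohIII.TFun P (q + 1) := e₀' ≪≫ eqToIso (by rw [hq0])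
  -- the universal complex has free cokernel at `x`
  have hd : CohIII.dRank P q x = 0 := by
    obtain ⟨κ⟩ := nonempty_residueField_equiv x hker hunit hfrac inferInstance
    refine Mum71.dRank_eq_zero_of_isZero x ?_
    haveI := subsingleton_HA_of_fibre G hsq hF hG h
    have hz := ModuleCat.isZero_of_subsingleton ((Univ70.HA A (homMod F G) 1).obj (ModuleCat.of A B))
    exact hz.of_iso ((CohIII.TFun P q).mapIso (κ.toModuleIso :
      ModuleCat.of A x.asIdeal.ResidueField ≅ ModuleCat.of A B) ≪≫ (e₁.app _).symm)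
  haveI := FCx40.finite_coker (fun i => (hP i).1) (q + 1) q
  haveI : Module.FinitePresentation A (P.X q ⧸ LinearMap.range (P.d (q + 1) q).hom) :=
    Module.finitePresentation_of_finite A _
  obtain ⟨r, hr, hlift⟩ := exists_scalar_lift P (p := q + 1) rfl x (Mum71.vanish_at hP q x hd).2.1
  -- the homomorphism as a class
  obtain ⟨e, he⟩ := exists_iso_tA_push hsq G
  let T := CohIII.tensorAFunctor A G
  let a : ∀ M : ModuleCat.{u} A, (F ⟶ T.obj M) ≃+ CohIII.T P (q + 1) M := fun M =>
    (homH0Equiv G hF M).trans (e₀.app M).toLinearEquiv.toAddEquiv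
  have na : ∀ {M N : ModuleCat.{u} A} (f : M ⟶ N) (v : F ⟶ T.obj M),
      a N (v ≫ T.map f) = FCx40.tmap P (q + 1) f (a M v) := fun {M N} f v =>
    (congrArg (e₀.hom.app N) (homH0Equiv_natural G hF f v)).trans
      (congr($(e₀.hom.naturality f) (homH0Equiv G hF M v)))
  let adj := Scheme.Modules.pullbackPushforwardAdjunction g
  let ψ := adj.homEquiv _ _ u₀
  let v₀ : F ⟶ T.obj (ModuleCat.of A B) := ψ ≫ e.inv
  -- into the quotient by the prime
  let N := ModuleCat.of A (A ⧸ x.asIdeal)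
  let π : ModuleCat.of A A ⟶ N := ModuleCat.ofHom (Submodule.mkQ x.asIdeal)
  let j : A ⧸ x.asIdeal →ₗ[A] B := Submodule.liftQ x.asIdeal (Algebra.linearMap A B) hker
  let ι : N ⟶ ModuleCat.of A B := ModuleCat.ofHom j
  have hι : Function.Injective ι.hom := by
    refine (injective_iff_map_eq_zero j).mpr fun z hz => ?_
    obtain ⟨c, rfl⟩ := Submodule.mkQ_surjective _ z
    refine (Submodule.Quotient.mk_eq_zero _).mpr ?_
    by_contra hc
    exact (hunit c hc).ne_zero hz
  obtain ⟨s, hs, t, ht⟩ := exists_smul_mem_range_tmap P (fun i => (hP i).2) (p := q + 1) rfl x ι hι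
    (fun b => by
      obtain ⟨c, s, hs, hb⟩ := hfrac b
      exact ⟨s, hs, x.asIdeal.mkQ c, hb.symm.trans (Algebra.smul_def s b).symm⟩) (a _ v₀)
  obtain ⟨t', ht'⟩ := hlift π (Submodule.mkQ_surjective _) t
  let u' := (a _).symm t'
  have hu' : u' ≫ T.map (π ≫ ι) = v₀ ≫ Formal.smulMod A (T.obj (ModuleCat.of A B)) (r * s) := by
    rw [← Univ70.map_smul_id A G]
    refine (a _).injective ?_
    rw [na, na, (show a _ u' = t' from (a _).apply_symm_apply t')]
    have hc : ∀ {L M N' : ModuleCat.{u} A} (f : L ⟶ M) (f' : M ⟶ N') (z : CohIII.T P (q + 1) L),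
        FCx40.tmap P (q + 1) (f ≫ f') z = FCx40.tmap P (q + 1) f' (FCx40.tmap P (q + 1) f z) :=
      fun f f' z => congr(($((CohIII.TFun P (q + 1)).map_comp f f')).hom z)
    rw [hc, ht', ← hc,
      show (r • 𝟙 N) ≫ ι = ι ≫ (r • 𝟙 (ModuleCat.of A B)) by simp, hc, ht, ← hc,
      show (s • 𝟙 (ModuleCat.of A B)) ≫ (r • 𝟙 (ModuleCat.of A B)) = (r * s) • 𝟙 (ModuleCat.of A B) by
        simp [smul_smul]]
  have hπι : π ≫ ι = algMap A B := ModuleCat.hom_ext (Submodule.liftQ_mkQ _ _ _)
  haveI : IsIso (oneMap (A := A) G) := isIso_oneMap G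
  refine ⟨r * s, fun hm => (x.isPrime.mem_or_mem hm).elim hr hs, u' ≫ inv (oneMap (A := A) G), ?_⟩
  apply (adj.homEquiv _ _).injective
  rw [adj.homEquiv_naturality_left, adj.homEquiv_unit]
  refine (adj.unit.naturality _).symm.trans ?_
  show (u' ≫ inv (oneMap (A := A) G)) ≫ QCPull72.pullUnit g G = Formal.smulMod A F (r * s) ≫ ψ
  rw [hπι] at hu'
  rw [← he, Category.assoc, IsIso.inv_hom_id_assoc]
  refine (Category.assoc _ _ _).symm.trans ?_
  refine (congrArg (· ≫ e.hom) hu').trans ?_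
  refine (Category.assoc _ _ _).trans ?_
  refine (congrArg (v₀ ≫ ·) (Formal27.smulMod_comp e.hom (r * s)).symm).trans ?_
  refine (Category.assoc _ _ _).symm.trans ?_
  rw [show v₀ ≫ e.hom = ψ from (Category.assoc _ _ _).trans ((congrArg (ψ ≫ ·) e.inv_hom_id).trans (Category.comp_id ψ))]
  exact Formal27.smulMod_comp ψ (r * s)

end Groth.Agent.RB70
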