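import Groth.Agent.Univ70.Sect
import Groth.Agent.Formal27.SmulMod
import Groth.Agent.QC70.HomMod

/-! Multiplication by scalars and inverse images; the sheaf Hom in its first argument. -/

set_option autoImplicit false
set_option backward.isDefEq.respectTransparency.types false

universe u

noncomputable section

open CategoryTheory CategoryTheory.Limits AlgebraicGeometry Opposite

namespace Groth.Agent.RB70

variable {A B : Type u} [CommRing A] [CommRing B] [Algebra A B] {X X' : Scheme.{u}}
  [X.Over (Spec (CommRingCat.of A))] [X'.Over (Spec (CommRingCat.of B))] {g : X' ⟶ X}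

/-- Inverse image of multiplication by a scalar. -/
theorem pullback_map_smulMod
    (hw : g ≫ X ↘ Spec (CommRingCat.of A) =
      X' ↘ Spec (CommRingCat.of B) ≫ Spec.map (CommRingCat.ofHom (algebraMap A B)))
    (N : X.Modules) (a : A) :
    (Scheme.Modules.pullback g).map (Formal.smulMod A N a) =
      Formal.smulMod B ((Scheme.Modules.pullback g).obj N) (algebraMap A B a) := by
  unfold Formal.smulMod
  rw [Univ70.pullback_map_smulΓ]
  congr 1
  have e := congrArg (fun φ => (ConcreteCategory.hom (Scheme.Hom.appTop φ))
    ((Scheme.ΓSpecIso (CommRingCat.of A)).inv a)) hw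
  simp only [Scheme.Hom.comp_appTop] at e
  refine e.trans ?_
  show (X' ↘ Spec (CommRingCat.of B)).appTop
    ((Spec.map (CommRingCat.ofHom (algebraMap A B))).appTop ((Scheme.ΓSpecIso (CommRingCat.of A)).inv a)) = _
  exact congrArg (X' ↘ Spec (CommRingCat.of B)).appTop
    (congr($(Scheme.ΓSpecIso_inv_naturality (CommRingCat.ofHom (algebraMap A B))) a)).symm

/-- Multiplication by a unit is an isomorphism. -/
theorem isIso_smulMod (N : X.Modules) {a : A} (ha : IsUnit a) : IsIso (Formal.smulMod A N a) := by
  obtain ⟨b, hb⟩ := ha.exists_right_inv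
  exact ⟨Formal.smulMod A N b,
    (Formal27.smulMod_mul N b a).symm.trans (by rw [mul_comm, hb, Formal27.smulMod_one]),
    (Formal27.smulMod_mul N a b).symm.trans (by rw [hb, Formal27.smulMod_one])⟩

/-- The sheaf Hom in its first argument. -/
def homFirstIso {E E' : X.Modules} (e : E ≅ E') : QC70.homFunctor E ≅ QC70.homFunctor E' :=
  (QC70.homModAdjR E).rightAdjointUniq
    ((QC70.homModAdjR E').ofNatIsoLeft ((ModSite.tensorBi X.sheaf).flip.mapIso e).symm)

end Groth.Agent.RB70
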