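import Groth.Agent.RB70.HomLift
import Groth.Agent.RB70.FibreCrit
import Groth.Agent.RB70.FibreSquare
import Groth.Agent.RB70.SmulPull
import Groth.Agent.Strict99.Basic

/-! Locally free modules with isomorphic fibres and rigid fibre are isomorphic nearby. -/

set_option autoImplicit false
set_option backward.isDefEq.respectTransparency.types false
set_option maxSynthPendingDepth 6
set_option synthInstance.maxHeartbeats 200000
set_option maxHeartbeats 1000000
set_option linter.style.haveILetI false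

universe u

noncomputable section

open CategoryTheory CategoryTheory.Limits AlgebraicGeometry TopologicalSpace Opposite
open Groth.Agent.QC70

namespace Groth.Agent.RB70

/-- Over an affine base. -/
theorem exists_opens_iso_affine {A : Type u} [CommRing A] [IsNoetherianRing A] {X : Scheme.{u}}
    [X.Over (Spec (CommRingCat.of A))] [IsProper (X ↘ Spec (CommRingCat.of A))]
    [Flat (X ↘ Spec (CommRingCat.of A))] (x : PrimeSpectrum A) {X' : Scheme.{u}}
    [X'.Over (Spec (CommRingCat.of x.asIdeal.ResidueField))] {g : X' ⟶ X}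
    (hsq : IsPullback g (X' ↘ Spec (CommRingCat.of x.asIdeal.ResidueField)) (X ↘ Spec (CommRingCat.of A))
      (Spec.map (CommRingCat.ofHom (algebraMap A x.asIdeal.ResidueField))))
    (hrange : (X ↘ Spec (CommRingCat.of A)).base ⁻¹' {x} ⊆ Set.range g.base)
    {F G : X.Modules} (hF : FlatMod.IsFinLocFree F) (hG : FlatMod.IsFinLocFree G)
    (E : X'.Modules) (h : Subsingleton (Coh.HH X' (homMod E E) 1))
    (eF : (Scheme.Modules.pullback g).obj F ≅ E) (eG : (Scheme.Modules.pullback g).obj G ≅ E) :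
    ∃ W : (Spec (CommRingCat.of A)).Opens, x ∈ W ∧
      Nonempty ((Scheme.Modules.pullback ((X ↘ Spec (CommRingCat.of A)) ⁻¹ᵁ W).ι).obj F ≅
        (Scheme.Modules.pullback ((X ↘ Spec (CommRingCat.of A)) ⁻¹ᵁ W).ι).obj G) := by
  let f := X ↘ Spec (CommRingCat.of A)
  let κ := x.asIdeal.ResidueField
  haveI : IsLocallyNoetherian X := LocallyOfFiniteType.isLocallyNoetherian f
  haveI : LocallyOfFiniteType (X' ↘ Spec (CommRingCat.of κ)) :=
    MorphismProperty.of_isPullback (P := @LocallyOfFiniteType) hsq (inferInstance : LocallyOfFiniteType f)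
  haveI : IsLocallyNoetherian X' := LocallyOfFiniteType.isLocallyNoetherian (X' ↘ Spec (CommRingCat.of κ))
  haveI : Subsingleton (Coh.HH X' ((homFunctor E).obj E) 1) := h
  have van : ∀ {P Q : X'.Modules}, (P ≅ E) → (Q ≅ E) → Subsingleton (Coh.HH X' (homMod P Q) 1) :=
    fun {P Q} p q => (Crv77.hEquiv κ ((homFunctor P).mapIso q ≪≫ (homFirstIso p).app E) 1).toEquiv.subsingleton
  have lift : ∀ {P Q : X.Modules}, FlatMod.IsFinLocFree P → FlatMod.IsFinLocFree Q →
      ((Scheme.Modules.pullback g).obj P ≅ E) → ((Scheme.Modules.pullback g).obj Q ≅ E) →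
      ∃ u : P ⟶ Q, IsIso ((Scheme.Modules.pullback g).map u) := fun {P Q} hP hQ p q => by
    obtain ⟨s, hs, u, hu⟩ := exists_hom_lift_scaled Q hsq x
      (fun c hc => Ideal.algebraMap_residueField_eq_zero.mpr hc)
      (fun c hc => isUnit_iff_ne_zero.mpr fun h => hc (Ideal.algebraMap_residueField_eq_zero.mp h))
      (fun b => by
        obtain ⟨⟨c, ⟨d, hd⟩⟩, hb⟩ := IsLocalization.surj (nonZeroDivisors (A ⧸ x.asIdeal)) b
        obtain ⟨c, rfl⟩ := Ideal.Quotient.mk_surjective c
        obtain ⟨d, rfl⟩ := Ideal.Quotient.mk_surjective d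
        refine ⟨c, d, fun h => mem_nonZeroDivisors_iff_ne_zero.mp hd (Ideal.Quotient.eq_zero_iff_mem.mpr h), ?_⟩
        rw [mul_comm]
        exact hb)
      hP hQ (isFlatOver_of_isFinLocFree f hQ) (van p q) (p ≪≫ q.symm).hom
    refine ⟨u, ?_⟩
    rw [hu, pullback_map_smulMod hsq.w]
    haveI := isIso_smulMod (A := κ) ((Scheme.Modules.pullback g).obj P)
      (a := algebraMap A κ s)
      (isUnit_iff_ne_zero.mpr fun h => hs (Ideal.algebraMap_residueField_eq_zero.mp h))
    infer_instance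
  obtain ⟨u, hu⟩ := lift hF hG eF eG
  obtain ⟨v, hv⟩ := lift hG hF eG eF
  have hcF := CD47.isCoh_of_isFinLocFree hF
  have hcG := CD47.isCoh_of_isFinLocFree hG
  obtain ⟨W₁, hx₁, h₁, -⟩ := exists_opens_epi f f.isClosedMap x g hrange hcF hcG u inferInstance
  obtain ⟨W₂, hx₂, h₂, -⟩ := exists_opens_epi f f.isClosedMap x g hrange hcG hcF v inferInstance
  refine ⟨W₁ ⊓ W₂, ⟨hx₁, hx₂⟩, ?_⟩
  let V := f ⁻¹ᵁ (W₁ ⊓ W₂)
  have hres : ∀ {W : (Spec (CommRingCat.of A)).Opens} (hW : W₁ ⊓ W₂ ≤ W) {P Q : X.Modules} (φ : P ⟶ Q),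
      Epi ((Scheme.Modules.pullback (f ⁻¹ᵁ W).ι).map φ) → Epi ((Scheme.Modules.pullback V.ι).map φ) := by
    intro W hW P Q φ hφ
    let c := Scheme.Modules.pullbackComp (X.homOfLE (f.preimage_mono hW)) (f ⁻¹ᵁ W).ι ≪≫
      Scheme.Modules.pullbackCongr (X.homOfLE_ι (f.preimage_mono hW))
    haveI : PreservesColimitsOfSize.{0, 0} (Scheme.Modules.pullback (X.homOfLE (f.preimage_mono hW))) :=
      (Scheme.Modules.pullbackPushforwardAdjunction _).leftAdjoint_preservesColimits
    haveI : Epi ((Scheme.Modules.pullback (X.homOfLE (f.preimage_mono hW))).map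
        ((Scheme.Modules.pullback (f ⁻¹ᵁ W).ι).map φ)) := Functor.map_epi _ _
    have e := c.hom.naturality φ
    rw [show (Scheme.Modules.pullback V.ι).map φ =
      c.inv.app P ≫ (Scheme.Modules.pullback (f ⁻¹ᵁ W).ι ⋙
        Scheme.Modules.pullback (X.homOfLE (f.preimage_mono hW))).map φ ≫ c.hom.app Q by
        rw [e, ← Category.assoc]; simp; rfl]
    haveI : Epi ((Scheme.Modules.pullback (f ⁻¹ᵁ W).ι ⋙
        Scheme.Modules.pullback (X.homOfLE (f.preimage_mono hW))).map φ) := ‹_›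
    exact epi_comp _ _
  haveI := hres inf_le_left u h₁
  haveI := hres inf_le_right v h₂
  let u' := (Scheme.Modules.pullback V.ι).map u
  let v' := (Scheme.Modules.pullback V.ι).map v
  haveI : IsIso (u' ≫ v') := isIso_of_epi_endo (Strict99.isFinLocFree_pullback V.ι hF) (u' ≫ v')
  haveI : IsSplitMono u' := IsSplitMono.mk' ⟨v' ≫ inv (u' ≫ v'), by rw [← Category.assoc, IsIso.hom_inv_id]⟩
  haveI : IsIso u' := isIso_of_mono_of_epi u'
  exact ⟨asIso u'⟩

end Groth.Agent.RB70
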