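import Groth.Agent.DCK91.StalkFun
import Groth.Agent.QC70.InjCoprod
import Groth.Agent.InjHull18.Indec
import Mathlib.Topology.NoetherianSpace
import Mathlib.CategoryTheory.Preadditive.Injective.Basic

/-! Decomposition of injective modules on a locally Noetherian scheme into indecomposable injectives. -/

set_option autoImplicit false
set_option synthInstance.maxHeartbeats 200000
set_option maxHeartbeats 1000000
set_option linter.style.haveILetI false
set_option backward.isDefEq.respectTransparency.types false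

noncomputable section

universe u

open CategoryTheory Limits AlgebraicGeometry TopologicalSpace Opposite
open Groth.Agent.QC70 Groth.Agent.DCK91

namespace Groth.Agent.RB70

variable {X : Scheme.{u}}

/-- The value of the germ of a section of a skyscraper. -/
theorem skyStalk_germ {x : X} (E : ModuleCat.{u} (X.presheaf.stalk x)) {W : X.Opens} (hx : x ∈ W)
    (s : Γ(skyE x E, W)) : skyStalk x E (germM (skyE x E) W x hx s) = valAt x E hx s := by
  obtain ⟨t, ht⟩ := ((isSky_skyE x E).bijective_res (le_top : W ≤ ⊤) hx).2 s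
  rw [← ht, germM_res, valAt_res]
  refine (LinearEquiv.eq_symm_apply _).1 ?_
  exact congrArg (germM (skyE x E) ⊤ x trivial) ((bijective_valAt (show x ∈ (⊤ : X.Opens) from trivial)).1 rfl)

/-- A morphism out of a skyscraper that is injective at the point is a monomorphism. -/
theorem mono_of_injective_stalk_sky {x : X} {J M : X.Modules} (hJ : IsSky J x) (φ : J ⟶ M)
    (h : Function.Injective (stalkMapM φ x)) : Mono φ := by
  refine Preadditive.mono_of_cancel_zero _ fun {Z} g hg => Scheme.Modules.hom_ext _ _ fun W => ?_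
  ext s
  by_cases hW : x ∈ W
  · refine (hJ.bijective_germ hW).1 (h ?_)
    rw [← stalkMapM_germ g hW, ← stalkMapM_comp, hg, stalkMapM_zero]
    change (0 : M.presheaf.stalk x) = stalkMapM φ x (germM J W x hW 0)
    rw [germM_zero]
    exact (map_zero (stalkLinear φ x)).symm
  · exact (hJ.subsingleton W hW).elim _ _

/-- A module with vanishing stalks is zero. -/
theorem isZero_of_stalk (M : X.Modules) (h : ∀ (p : X) (e : M.presheaf.stalk p), e = 0) : IsZero M := by
  rw [IsZero.iff_id_eq_zero]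
  refine Scheme.Modules.hom_ext _ _ fun W => ?_
  ext s
  change s = 0
  refine section_ext M s 0 fun p hp => ?_
  obtain ⟨W', hW, hpW, h0⟩ := germM_eq_zero (h p (germM M W p hp s))
  exact ⟨W', hW, hpW, h0.trans (res_zero _).symm⟩

section Hull

variable {x : X} (p : PrimeSpectrum (X.presheaf.stalk x))

/-- An injective hull of `O_x ⧸ p`. -/
def hullMod : ModuleCat.{u} (X.presheaf.stalk x) :=
  letI := (InjHull18.exists_hull (R := X.presheaf.stalk x) (X.presheaf.stalk x ⧸ p.asIdeal)).choose_spec.choose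
  letI := (InjHull18.exists_hull (R := X.presheaf.stalk x) (X.presheaf.stalk x ⧸ p.asIdeal)).choose_spec.choose_spec.choose
  ModuleCat.of _ (InjHull18.exists_hull (R := X.presheaf.stalk x) (X.presheaf.stalk x ⧸ p.asIdeal)).choose

theorem exists_hullMod :
    ∃ f : (X.presheaf.stalk x ⧸ p.asIdeal) →ₗ[X.presheaf.stalk x] hullMod p, InjHull.IsInjectiveHull f :=
  (InjHull18.exists_hull (R := X.presheaf.stalk x)
    (X.presheaf.stalk x ⧸ p.asIdeal)).choose_spec.choose_spec.choose_spec

/-- The indecomposable injective attached to a point and a prime of its local ring. -/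
abbrev indec : X.Modules := skyE x (hullMod p)

theorem injective_indec : Injective (indec p) := by
  obtain ⟨f, hf⟩ := exists_hullMod p
  exact (isSky_skyE x (hullMod p)).injective (InjHull18.injective_of_equiv hf.isInjective (skyStalk x (hullMod p)))

theorem not_isZero_indec : ¬ IsZero (indec p) := fun h => by
  obtain ⟨f, hf⟩ := exists_hullMod p
  haveI := p.2
  haveI := InjHull18.hull_prime_nontrivial hf.toIsEssentialInj
  obtain ⟨e, he⟩ := exists_ne (0 : hullMod p)
  apply he
  have h0 : stalkMapM (𝟙 (indec p)) x ((skyStalk x (hullMod p)).symm e) = 0 := by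
    rw [(IsZero.iff_id_eq_zero _).1 h, stalkMapM_zero]
  rw [stalkMapM_id] at h0
  exact (LinearEquiv.map_eq_zero_iff _).1 h0

theorem indecomposable_indec (A B : X.Modules) (h : Nonempty (indec p ≅ A ⊞ B)) : IsZero A ∨ IsZero B := by
  obtain ⟨e⟩ := h
  obtain ⟨f, hf⟩ := exists_hullMod p
  haveI := p.2
  let i : A ⟶ indec p := biprod.inl ≫ e.inv
  let j : B ⟶ indec p := biprod.inr ≫ e.inv
  let a : indec p ⟶ A := e.hom ≫ biprod.fst
  let b : indec p ⟶ B := e.hom ≫ biprod.snd
  have hia : i ≫ a = 𝟙 A := by simp [i, a]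
  have hjb : j ≫ b = 𝟙 B := by simp [j, b]
  have hja : j ≫ a = 0 := by simp [j, a]
  have hab : a ≫ i + b ≫ j = 𝟙 (indec p) := by
    simp only [a, b, i, j, Category.assoc, ← Preadditive.comp_add]
    rw [← Category.assoc (biprod.fst), ← Category.assoc (biprod.snd), ← Preadditive.add_comp, biprod.total]
    simp
  let S := skyStalk x (hullMod p)
  let NA := (LinearMap.range (stalkLinear i x)).map S.toLinearMap
  let NB := (LinearMap.range (stalkLinear j x)).map S.toLinearMap
  have hc : IsCompl NA NB := by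
    constructor
    · rw [disjoint_iff, Submodule.eq_bot_iff]
      rintro _ ⟨⟨_, ⟨u, rfl⟩, rfl⟩, ⟨_, ⟨v, rfl⟩, hv⟩⟩
      have h1 : stalkMapM j x v = stalkMapM i x u := S.injective hv
      have h2 := congrArg (stalkMapM a x) h1
      rw [← stalkMapM_comp, ← stalkMapM_comp, hja, hia, stalkMapM_zero, stalkMapM_id] at h2
      rw [← h2]
      exact (congrArg S (map_zero (stalkLinear i x))).trans (map_zero S)
    · rw [codisjoint_iff, eq_top_iff]
      intro z _
      refine Submodule.mem_sup.2 ⟨_, ⟨_, ⟨stalkMapM a x (S.symm z), rfl⟩, rfl⟩,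
        _, ⟨_, ⟨stalkMapM b x (S.symm z), rfl⟩, rfl⟩, ?_⟩
      change S (stalkMapM i x _) + S (stalkMapM j x _) = z
      rw [← map_add, ← stalkMapM_comp, ← stalkMapM_comp, ← stalkMapM_add, hab, stalkMapM_id]
      exact S.apply_symm_apply z
  have hsky := isSky_skyE x (hullMod p)
  have hzero : ∀ {M : X.Modules} (k : M ⟶ indec p) (r : indec p ⟶ M), k ≫ r = 𝟙 M →
      (LinearMap.range (stalkLinear k x)).map S.toLinearMap = ⊥ → IsZero M := by
    intro M k r hkr hbot
    have hk : k = 0 := by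
      refine Scheme.Modules.hom_ext _ _ fun W => ?_
      ext s
      by_cases hW : x ∈ W
      · refine (hsky.bijective_germ hW).1 ?_
        have hm : S (stalkMapM k x (germM M W x hW s)) ∈ (LinearMap.range (stalkLinear k x)).map S.toLinearMap :=
          ⟨_, ⟨_, rfl⟩, rfl⟩
        rw [hbot, Submodule.mem_bot, LinearEquiv.map_eq_zero_iff, stalkMapM_germ] at hm
        exact hm.trans (germM_zero hW).symm
      · exact (hsky.subsingleton W hW).elim _ _
    rw [IsZero.iff_id_eq_zero, ← hkr, hk, zero_comp]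
  rcases (InjHull18.indecomposable_hull_prime hf.toIsEssentialInj).2 NA NB hc with h | h
  · exact Or.inl (hzero i a hia h)
  · exact Or.inr (hzero j b hjb h)

end Hull

/-- In a closed subset of a Noetherian space, some point is the only maximal one near itself. -/
theorem exists_generic_nhd {T : Type u} [TopologicalSpace T] [NoetherianSpace T] [QuasiSober T] {S : Set T}
    (hS : IsClosed S) (hne : S.Nonempty) :
    ∃ z ∈ S, ∃ O : Set T, IsOpen O ∧ z ∈ O ∧ ∀ w ∈ O, w ∈ S → z ⤳ w := by
  classical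
  obtain ⟨F, hFf, hFc, hFi, hFS⟩ := NoetherianSpace.exists_finite_set_isClosed_irreducible hS
  have hFne : F.Nonempty := by
    obtain ⟨w, hw⟩ := hne
    rw [hFS] at hw
    obtain ⟨t, ht, -⟩ := hw
    exact ⟨t, ht⟩
  obtain ⟨t₀, ht₀⟩ := hFf.exists_maximal hFne
  obtain ⟨z, hz⟩ : ∃ z, IsGenericPoint z t₀ := QuasiSober.sober (hFi t₀ ht₀.1) (hFc t₀ ht₀.1)
  refine ⟨z, hFS ▸ ⟨t₀, ht₀.1, hz.mem⟩, (⋃₀ (F \ {t₀}))ᶜ, ?_, ?_, ?_⟩
  · rw [isOpen_compl_iff, Set.sUnion_eq_biUnion]
    exact (hFf.subset Set.sdiff_subset).isClosed_biUnion fun t ht => hFc t ht.1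
  · rintro ⟨t, ⟨ht, hne'⟩, hzt⟩
    exact hne' (le_antisymm (ht₀.2 ht ((hz.def.symm.subset).trans ((hFc t ht).closure_subset_iff.2
      (Set.singleton_subset_iff.2 hzt)))) ((hz.def.symm.subset).trans ((hFc t ht).closure_subset_iff.2
      (Set.singleton_subset_iff.2 hzt))))
  · intro w hw hwS
    rw [hFS] at hwS
    obtain ⟨t, ht, hwt⟩ := hwS
    by_cases htt : t = t₀
    · exact hz.specializes (htt ▸ hwt)
    · exact absurd ⟨t, ⟨ht, htt⟩, hwt⟩ hw

variable [IsLocallyNoetherian X]

/-- A nonzero injective contains an indecomposable one. -/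
theorem exists_mono_indec (I : X.Modules) [Injective I] (hI : ¬ IsZero I) :
    ∃ (x : X) (p : PrimeSpectrum (X.presheaf.stalk x)) (ψ : indec p ⟶ I), Mono ψ := by
  classical
  obtain ⟨q, e₀, he₀⟩ : ∃ (q : X) (e : I.presheaf.stalk q), e ≠ 0 := by
    by_contra hh
    push Not at hh
    exact hI (isZero_of_stalk I hh)
  obtain ⟨W₀, hqW₀, s₀, rfl⟩ := germM_exist e₀
  obtain ⟨_, ⟨U, hU, rfl⟩, hqU, hUW⟩ := X.isBasis_affineOpens.exists_subset_of_mem_open hqW₀ W₀.2
  let s : Γ(I, U) := res I hUW s₀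
  -- a maximal point of the support of the section
  haveI : IsAffine (U : Scheme.{u}) := hU
  haveI : IsNoetherian (U : Scheme.{u}) := { }
  let S : Set U := {z | germM I U z.1 z.2 s ≠ 0}
  have hS : IsClosed S := by
    rw [← isOpen_compl_iff, isOpen_iff_forall_mem_open]
    intro z hz
    obtain ⟨W', hW', hzW', h0⟩ := germM_eq_zero (not_not.1 hz)
    refine ⟨Subtype.val ⁻¹' (W' : Set X), fun w hw => not_not.2 ?_, W'.2.preimage continuous_subtype_val, hzW'⟩
    rw [← germM_res hW' hw, h0, germM_zero]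
  haveI : NoetherianSpace ↥U := inferInstanceAs (NoetherianSpace ↥(U : Scheme.{u}))
  haveI : QuasiSober ↥U := inferInstanceAs (QuasiSober ↥(U : Scheme.{u}))
  obtain ⟨z₀, hz₀, O, hO, hzO, hOS⟩ := exists_generic_nhd hS ⟨⟨q, hqU⟩, show germM I U q hqU s ≠ 0 by
    rw [germM_res]; exact he₀⟩
  let x : X := z₀.1
  let U' : X.Opens := Scheme.Opens.ι U ''ᵁ ⟨O, hO⟩
  have hxU' : x ∈ U' := ⟨z₀, hzO, rfl⟩
  have hU'U : U' ≤ U := by
    rintro _ ⟨w, -, rfl⟩
    exact w.2
  have hsupp : ∀ w (hw : w ∈ U'), germM I U w (hU'U hw) s ≠ 0 → x ⤳ w := by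
    rintro _ ⟨w, hwO, rfl⟩ hne
    exact (hOS w hwO hne).map continuous_subtype_val
  -- an associated prime at that point
  let e : I.presheaf.stalk x := germM I U x z₀.2 s
  let Sp := Submodule.span (X.presheaf.stalk x) {e}
  haveI : Nontrivial Sp := (Submodule.nontrivial_iff_ne_bot).2 fun h0 =>
    hz₀ (Submodule.span_singleton_eq_bot.1 h0)
  obtain ⟨p, hp, φ₀, hφ₀⟩ := InjHull18.exists_prime_embedding (R := X.presheaf.stalk x) (M := Sp)
  let j := Sp.subtype ∘ₗ φ₀
  have hj : Function.Injective j := Subtype.val_injective.comp hφ₀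
  obtain ⟨c, hc⟩ := Submodule.mem_span_singleton.1 (φ₀ (Ideal.Quotient.mk p 1)).2
  obtain ⟨U₂, hxU₂, c', rfl⟩ := TopCat.Presheaf.exists_germ_eq X.presheaf c
  obtain ⟨_, ⟨V, hV, rfl⟩, hxV, hVsub⟩ := X.isBasis_affineOpens.exists_subset_of_mem_open
    (show x ∈ U' ⊓ U₂ from ⟨hxU', hxU₂⟩) (U' ⊓ U₂).2
  have hVU' : V ≤ U' := fun w hw => (hVsub hw).1
  have hVU₂ : V ≤ U₂ := fun w hw => (hVsub hw).2
  let s' : Γ(I, V) := resO X hVU₂ c' • res I (hVU'.trans hU'U) s
  have hs'x : germM I V x hxV s' = j (Ideal.Quotient.mk p 1) := by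
    rw [germM_smul, germM_res]
    refine Eq.trans ?_ hc
    exact congrArg (· • e) (X.presheaf.germ_res_apply (homOfLE hVU₂) x hxV c')
  have hs'supp : ∀ w (hw : w ∈ V), germM I V w hw s' ≠ 0 → x ⤳ w := by
    intro w hw hne
    refine hsupp w (hVU' hw) fun h0 => hne ?_
    rw [germM_smul, germM_res, h0, smul_zero]
  have hkill : ∀ r, r ∈ p → r • germM I V x hxV s' = 0 := by
    intro r hr
    rw [hs'x, ← map_smul]
    refine (congrArg j ?_).trans (map_zero j)
    exact (Submodule.Quotient.mk_smul p r (1 : X.presheaf.stalk x)).symm.trans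
      ((Submodule.Quotient.mk_eq_zero p).2 (by rw [smul_eq_mul, mul_one]; exact hr))
  -- shrink so that the prime kills the section
  haveI : IsNoetherianRing Γ(X, V) := IsLocallyNoetherian.component_noetherian ⟨V, hV⟩
  let P : Ideal Γ(X, V) := p.comap (X.presheaf.germ V x hxV).hom
  obtain ⟨G, hG⟩ := (IsNoetherian.noetherian P : P.FG)
  have hex : ∀ g : G, ∃ (W : X.Opens) (hW : W ≤ V), x ∈ W ∧ res I hW (g.1 • s') = 0 := by
    intro g
    refine germM_eq_zero (hx := hxV) ?_
    rw [germM_smul]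
    exact hkill _ (hG ▸ Submodule.subset_span g.2 : g.1 ∈ P)
  choose Wg hWg hxWg hWg0 using hex
  obtain ⟨W, hWV, hxW, hW0⟩ : ∃ (W : X.Opens) (hW : W ≤ V), x ∈ W ∧ ∀ a ∈ P, res I hW (a • s') = 0 := by
    refine ⟨V ⊓ Finset.univ.inf Wg, inf_le_left, ⟨hxV, ?_⟩, fun a ha => ?_⟩
    · change x ∈ ((Finset.univ.inf Wg : X.Opens) : Set X)
      rw [Opens.coe_finset_inf, Finset.inf_set_eq_iInter]
      simp only [Set.mem_iInter]
      exact fun g _ => hxWg g
    · rw [← hG] at ha
      induction ha using Submodule.span_induction with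
      | mem g hg =>
        have hle : V ⊓ Finset.univ.inf Wg ≤ Wg ⟨g, hg⟩ := inf_le_right.trans (Finset.inf_le (Finset.mem_univ _))
        rw [← res_res (hWg ⟨g, hg⟩) hle, hWg0 ⟨g, hg⟩, res_zero]
      | zero => rw [zero_smul, res_zero]
      | add a b _ _ ha hb => rw [add_smul, res_add, ha, hb, add_zero]
      | smul r a _ ha => rw [smul_eq_mul, mul_smul, res_smul, ha, smul_zero]
  -- the two morphisms out of the extension by zero
  obtain ⟨f, hf⟩ := exists_hullMod ⟨p, hp⟩
  let E := hullMod (x := x) ⟨p, hp⟩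
  obtain ⟨σ, hσ⟩ := (bijective_valAt (E := E) hxW).2 (f (Ideal.Quotient.mk p 1))
  let θ := extHom W σ
  let φ := extHom W (res I hWV s')
  have hker : kernel.ι θ ≫ φ = 0 := by
    refine Scheme.Modules.hom_ext _ _ fun W₁ => ?_
    ext k
    refine section_ext _ _ 0 fun w hw => ?_
    suffices h : stalkMapM φ w (stalkMapM (kernel.ι θ) w (germM _ W₁ w hw k)) = 0 by
      rw [← stalkMapM_comp, stalkMapM_germ] at h
      obtain ⟨W', hW', hwW', h0⟩ := germM_eq_zero h
      exact ⟨W', hW', hwW', h0.trans (res_zero _).symm⟩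
    set d := stalkMapM (kernel.ι θ) w (germM _ W₁ w hw k)
    have hθd : stalkMapM θ w d = 0 := by
      rw [← stalkMapM_comp, kernel.condition, stalkMapM_zero]
    by_cases hwW : w ∈ W
    swap
    · haveI : Subsingleton ((CxOX.extZeroUnit W.ι).presheaf.stalk w) :=
        subsingleton_stalk_extZero W.ι _ (by rwa [Scheme.Opens.range_ι])
      rw [Subsingleton.elim d 0]
      exact map_zero (stalkLinear φ w)
    obtain ⟨W₂, hwW₂, b, hb⟩ := germM_exist (stalkMapM (extOne W) w d)
    let a : Γ(X, W₂ ⊓ W) := resO X inf_le_left (show Γ(X, W₂) from b)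
    have hw₂ : w ∈ W₂ ⊓ W := ⟨hwW₂, hwW⟩
    have hd : d = germM _ (W₂ ⊓ W) w hw₂ (a • res (CxOX.extZeroUnit W.ι) inf_le_right (extGen W)) := by
      refine (bijective_stalk_extOne W hwW).1 ?_
      rw [← hb, stalkMapM_germ, ← germM_res (inf_le_left : W₂ ⊓ W ≤ W₂) hw₂ b]
      refine congrArg (germM _ _ w hw₂) ?_
      rw [Scheme.Modules.Hom.app_smul, app_res]
      refine Eq.trans ?_ (congrArg (fun t => a • res _ inf_le_right t) (extHom_app W (toUnit 1))).symm
      change a = a * resO X inf_le_right (1 : Γ(X, W))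
      rw [show resO X inf_le_right (1 : Γ(X, W)) = 1 from map_one (X.presheaf.map _).hom]
      exact (mul_one a).symm
    rw [hd, stalkMapM_germ, Scheme.Modules.Hom.app_smul, app_res, show φ.app W (extGen W) = res I hWV s' from extHom_app W _,
      germM_smul, germM_res, germM_res]
    by_cases hwV : germM I V w (hWV hwW) s' = 0
    · rw [hwV, smul_zero]
    have hxw : x ⤳ w := hs'supp w (hWV hwW) hwV
    rw [hd, stalkMapM_germ, Scheme.Modules.Hom.app_smul, app_res, show θ.app W (extGen W) = σ from extHom_app W _] at hθd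
    obtain ⟨W₃, hW₃, hwW₃, h0⟩ := germM_eq_zero hθd
    have hxW₃ : x ∈ W₃ := hxw.mem_open W₃.2 hwW₃
    have h1 := congrArg (valAt x E hxW₃) h0
    rw [valAt_res, valAt_smul, valAt_res, hσ, map_zero, ← map_smul] at h1
    have hap : X.presheaf.germ (W₂ ⊓ W) x (hW₃ hxW₃) a ∈ p := by
      have h2 := hf.injective (h1.trans (map_zero f).symm)
      rw [← Submodule.Quotient.mk_eq_zero p]
      refine Eq.trans ?_ h2
      refine Eq.trans ?_ (Submodule.Quotient.mk_smul p _ (1 : X.presheaf.stalk x))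
      rw [smul_eq_mul, mul_one]
    -- write the germ as a fraction
    letI : Algebra Γ(X, V) (X.presheaf.stalk w) := (X.presheaf.germ V w (hWV hwW)).hom.toAlgebra
    haveI : IsLocalization.AtPrime (X.presheaf.stalk w) (hV.primeIdealOf ⟨w, hWV hwW⟩).asIdeal :=
      hV.isLocalization_stalk ⟨w, hWV hwW⟩
    obtain ⟨⟨a', u⟩, hau⟩ := IsLocalization.surj (hV.primeIdealOf ⟨w, hWV hwW⟩).asIdeal.primeCompl
      (X.presheaf.germ (W₂ ⊓ W) w hw₂ a)
    have hu : IsUnit (X.presheaf.germ V w (hWV hwW) u.1) := IsLocalization.map_units _ u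
    replace hau : X.presheaf.germ (W₂ ⊓ W) w hw₂ a * X.presheaf.germ V w (hWV hwW) u.1 =
        X.presheaf.germ V w (hWV hwW) a' := hau
    have hsp : ∀ (O : X.Opens) (hwO : w ∈ O) (r : Γ(X, O)), X.presheaf.stalkSpecializes hxw
        (X.presheaf.germ O w hwO r) = X.presheaf.germ O x (hxw.mem_open O.2 hwO) r := fun O hwO r =>
      TopCat.Presheaf.germ_stalkSpecializes_apply X.presheaf hwO hxw r
    have ha'P : a' ∈ P := by
      show X.presheaf.germ V x hxV a' ∈ p
      rw [← hsp V (hWV hwW), ← hau, map_mul, hsp, hsp]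
      exact p.mul_mem_right _ hap
    refine hu.smul_eq_zero.1 ?_
    rw [smul_smul, mul_comm, hau]
    have h3 := congrArg (germM I W w hwW) (hW0 a' ha'P)
    rw [germM_res, germM_smul, germM_zero] at h3
    exact h3
  -- extend through the coimage
  let φ' : Abelian.coimage θ ⟶ I := cokernel.desc _ φ hker
  let ψ : skyE x E ⟶ I := Injective.factorThru φ' (Abelian.factorThruCoimage θ)
  have hψ : θ ≫ ψ = φ := by
    have h2 : Abelian.factorThruCoimage θ ≫ ψ = φ' := Injective.comp_factorThru _ _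
    calc θ ≫ ψ = Abelian.coimage.π θ ≫ Abelian.factorThruCoimage θ ≫ ψ := by
          rw [← Category.assoc, Abelian.coimage.fac]
      _ = φ := by rw [h2]; exact cokernel.π_desc _ _ _
  refine ⟨x, ⟨p, hp⟩, ψ, mono_of_injective_stalk_sky (isSky_skyE x E) ψ ?_⟩
  let L := stalkLinear ψ x ∘ₗ (skyStalk x E).symm.toLinearMap
  have hL : L ∘ₗ f = j := by
    refine LinearMap.ext fun z => ?_
    obtain ⟨r, rfl⟩ := Ideal.Quotient.mk_surjective z
    have hr : (Ideal.Quotient.mk p r) = r • Ideal.Quotient.mk p 1 :=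
      (congrArg (Ideal.Quotient.mk p) (mul_one r).symm).trans (Submodule.Quotient.mk_smul p r 1)
    rw [hr, map_smul, map_smul]
    refine congrArg (r • ·) ?_
    rw [← hs'x]
    change stalkMapM ψ x ((skyStalk x E).symm (f _)) = _
    rw [← hσ, ← skyStalk_germ E hxW σ, LinearEquiv.symm_apply_apply]
    conv_lhs => rw [← extHom_app W σ]
    rw [stalkMapM_germ]
    refine Eq.trans (congrArg (germM I W x hxW) (?_ : _ = φ.app W (extGen W))) ?_
    · rw [← hψ]; rfl
    · rw [extHom_app, germM_res]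
  have hLinj : Function.Injective L := InjHull18.injective_of_comp hf.toIsEssentialInj (by rw [hL]; exact hj)
  intro u v huv
  have := @hLinj (skyStalk x E u) (skyStalk x E v) (by
    change stalkMapM ψ x ((skyStalk x E).symm (skyStalk x E u)) = stalkMapM ψ x ((skyStalk x E).symm (skyStalk x E v))
    rw [LinearEquiv.symm_apply_apply, LinearEquiv.symm_apply_apply]
    exact huv)
  exact (skyStalk x E).injective this

/-- Matlis decomposition. -/
theorem exists_iso_coproduct_indec (I : X.Modules) [Injective I] :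
    ∃ (ι : Type u) (x : ι → X) (p : ∀ i, PrimeSpectrum (X.presheaf.stalk (x i))),
      Nonempty (I ≅ ∐ fun i => indec (p i)) := by
  classical
  let T := Σ q : (Σ x : X, PrimeSpectrum (X.presheaf.stalk x)), (indec q.2 ⟶ I)
  let D : ∀ S : Set T, (∐ fun i : S => indec i.1.1.2) ⟶ I := fun S => Sigma.desc fun i => i.1.2
  have hz : ∀ c ⊆ {S : Set T | Mono (D S)}, IsChain (· ⊆ ·) c → ∃ ub ∈ {S : Set T | Mono (D S)}, ∀ s ∈ c, s ⊆ ub := by
    intro c hc hchain
    rcases c.eq_empty_or_nonempty with rfl | hne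
    · refine ⟨∅, ?_, fun s hs => hs.elim⟩
      show Mono (D ∅)
      refine Preadditive.mono_of_cancel_zero _ fun {Z} g _ => ?_
      have h0 : IsZero (∐ fun i : (∅ : Set T) => indec i.1.1.2) := by
        rw [IsZero.iff_id_eq_zero]
        exact Sigma.hom_ext _ _ fun i => i.2.elim
      exact h0.eq_of_tgt _ _
    refine ⟨⋃₀ c, ?_, fun s hs => Set.subset_sUnion_of_mem hs⟩
    show Mono (D (⋃₀ c))
    refine mono_of_injective_stalkMapM _ fun w => ?_
    refine (injective_iff_map_eq_zero (stalkLinear (D (⋃₀ c)) w)).2 fun m hm => ?_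
    obtain ⟨F, hF⟩ := exists_finset_stalk (fun i : (⋃₀ c : Set T) => indec i.1.1.2) w m
    obtain ⟨S, hSc, hFS⟩ : ∃ S ∈ c, ∀ i ∈ F, (i : T) ∈ S := by
      obtain ⟨S, hSc, hsub⟩ := DirectedOn.exists_mem_subset_of_finset_subset_biUnion
        (f := fun s : Set T => s) hne hchain.directedOn (s := F.image Subtype.val) (by
          intro t ht
          obtain ⟨i, -, rfl⟩ := Finset.mem_image.1 (Finset.mem_coe.1 ht)
          obtain ⟨S, hS, hiS⟩ := i.2
          exact Set.mem_biUnion hS hiS)
      exact ⟨S, hSc, fun i hi => hsub (Finset.mem_image_of_mem _ hi)⟩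
    let κ : (∐ fun i : S => indec i.1.1.2) ⟶ ∐ fun i : (⋃₀ c : Set T) => indec i.1.1.2 :=
      Sigma.desc fun i => Sigma.ι (fun i : (⋃₀ c : Set T) => indec i.1.1.2) ⟨i.1, S, hSc, i.2⟩
    have hκ : κ ≫ D (⋃₀ c) = D S := Sigma.hom_ext _ _ fun i => by simp [κ, D]
    let π : (∐ fun i : (⋃₀ c : Set T) => indec i.1.1.2) ⟶ ∐ fun i : S => indec i.1.1.2 :=
      Sigma.desc fun i => if hi : i.1 ∈ S then Sigma.ι (fun i : S => indec i.1.1.2) ⟨i.1, hi⟩ else 0
    have hπ : (∑ j ∈ F, coprojection (fun i : (⋃₀ c : Set T) => indec i.1.1.2) j ≫ Sigma.ι (fun i : (⋃₀ c : Set T) => indec i.1.1.2) j) ≫ π ≫ κ =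
        ∑ j ∈ F, coprojection (fun i : (⋃₀ c : Set T) => indec i.1.1.2) j ≫ Sigma.ι (fun i : (⋃₀ c : Set T) => indec i.1.1.2) j := by
      rw [Preadditive.sum_comp]
      refine Finset.sum_congr rfl fun j hj => ?_
      rw [Category.assoc]
      simp [π, κ, hFS j hj]
    have hm' : m = stalkMapM κ w (stalkMapM π w m) := by
      conv_rhs => rw [hF]
      rw [← stalkMapM_comp, ← stalkMapM_comp, hπ]
      exact hF
    haveI : Mono (D S) := hc hSc
    have h0 : stalkMapM π w m = 0 := by
      refine injective_stalkMapM_of_mono (D S) w ?_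
      rw [← hκ, stalkMapM_comp, ← hm']
      exact hm.trans (map_zero (stalkLinear (κ ≫ D (⋃₀ c)) w)).symm
    rw [hm', h0]
    exact map_zero (stalkLinear κ w)
  obtain ⟨S, hS⟩ := zorn_subset {S : Set T | Mono (D S)} hz
  haveI : Mono (D S) := hS.1
  haveI : Injective (∐ fun i : S => indec i.1.1.2) := injective_coproduct _ fun i => injective_indec i.1.1.2
  let r : I ⟶ ∐ fun i : S => indec i.1.1.2 := Injective.factorThru (𝟙 _) (D S)
  have hr : D S ≫ r = 𝟙 _ := Injective.comp_factorThru _ _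
  by_cases hzero : IsZero (cokernel (D S))
  · haveI : Epi (D S) := Preadditive.epi_of_isZero_cokernel _ hzero
    haveI := isIso_of_mono_of_epi (D S)
    exact ⟨S, fun i => i.1.1.1, fun i => i.1.1.2, ⟨(asIso (D S)).symm⟩⟩
  exfalso
  let sec : cokernel (D S) ⟶ I := cokernel.desc _ (𝟙 I - r ≫ D S) (by
    rw [Preadditive.comp_sub, ← Category.assoc, hr, Category.comp_id, Category.id_comp, sub_self])
  have hsecr : sec ≫ r = 0 := by
    rw [← cancel_epi (cokernel.π (D S))]
    simp only [sec, cokernel.π_desc_assoc, comp_zero, Preadditive.sub_comp, Category.id_comp, Category.assoc, hr,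
      Category.comp_id, sub_self]
  have hsecπ : sec ≫ cokernel.π (D S) = 𝟙 _ := by
    rw [← cancel_epi (cokernel.π (D S))]
    simp [sec, Preadditive.sub_comp]
  haveI : Injective (cokernel (D S)) := Retract.injective (X := cokernel (D S)) (Y := I) ⟨sec, cokernel.π (D S), hsecπ⟩
  obtain ⟨x, p, ψ, hψ⟩ := exists_mono_indec (cokernel (D S)) hzero
  haveI := hψ
  let t : T := ⟨⟨x, p⟩, ψ ≫ sec⟩
  have hcp : ψ ≫ sec ≫ cokernel.π (D S) = ψ := by rw [hsecπ, Category.comp_id]
  have htS : t ∉ S := fun ht => by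
    have h1 : Sigma.ι (fun i : S => indec i.1.1.2) ⟨t, ht⟩ ≫ D S ≫ cokernel.π (D S) = ψ := by
      rw [← Category.assoc, Sigma.ι_desc]
      exact (Category.assoc _ _ _).trans hcp
    rw [cokernel.condition, comp_zero] at h1
    have : 𝟙 (indec p) = 0 := by rw [← cancel_mono ψ, ← h1]; simp
    exact not_isZero_indec p ((IsZero.iff_id_eq_zero _).2 this)
  refine htS (hS.2 (y := insert t S) ?_ (Set.subset_insert t S) (Set.mem_insert t S))
  show Mono (D (insert t S))
  let old : (∐ fun i : (insert t S : Set T) => indec i.1.1.2) ⟶ ∐ fun i : S => indec i.1.1.2 :=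
    Sigma.desc fun i => if hi : i.1 ∈ S then Sigma.ι (fun i : S => indec i.1.1.2) ⟨i.1, hi⟩ else 0
  let new : (∐ fun i : (insert t S : Set T) => indec i.1.1.2) ⟶ indec p :=
    coprojection (fun i : (insert t S : Set T) => indec i.1.1.2) ⟨t, Set.mem_insert t S⟩
  let back : (∐ fun i : S => indec i.1.1.2) ⟶ ∐ fun i : (insert t S : Set T) => indec i.1.1.2 :=
    Sigma.desc fun i => Sigma.ι (fun i : (insert t S : Set T) => indec i.1.1.2) ⟨i.1, Set.mem_insert_of_mem t i.2⟩
  let in' : indec p ⟶ ∐ fun i : (insert t S : Set T) => indec i.1.1.2 :=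
    Sigma.ι (fun i : (insert t S : Set T) => indec i.1.1.2) ⟨t, Set.mem_insert t S⟩
  let famT : ↥(insert t S : Set T) → X.Modules := fun i => indec i.1.1.2
  have hsum : old ≫ back + new ≫ in' = 𝟙 _ := Sigma.hom_ext _ _ fun i => by
    rw [Preadditive.comp_add, Category.comp_id]
    by_cases hi : i.1 ∈ S
    · have hne : i ≠ (⟨t, Set.mem_insert t S⟩ : (insert t S : Set T)) := fun h => htS (by rw [h] at hi; exact hi)
      rw [← Category.assoc _ new, ι_coprojection_ne famT hne, zero_comp, add_zero]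
      simp [old, back, hi]
    · obtain ⟨i, hit⟩ := i
      obtain rfl : i = t := (Set.mem_insert_iff.1 hit).resolve_right hi
      rw [← Category.assoc _ new, ι_coprojection_self famT ⟨t, hit⟩]
      simp [old, in', hi]
      exact Category.id_comp _
  have hD : D (insert t S) = old ≫ D S + new ≫ ψ ≫ sec := by
    have h1 : back ≫ D (insert t S) = D S := Sigma.hom_ext _ _ fun i => by simp [back, D]
    have h2 : in' ≫ D (insert t S) = ψ ≫ sec := by simp [in', D, t]
    calc D (insert t S) = (old ≫ back + new ≫ in') ≫ D (insert t S) := by rw [hsum, Category.id_comp]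
      _ = old ≫ D S + new ≫ ψ ≫ sec := by rw [Preadditive.add_comp, Category.assoc, Category.assoc, h1, h2]
  refine Preadditive.mono_of_cancel_zero _ fun {Z} g hg => ?_
  rw [hD, Preadditive.comp_add] at hg
  have hnew : g ≫ new = 0 := by
    rw [← cancel_mono ψ, zero_comp]
    have := congrArg (· ≫ cokernel.π (D S)) hg
    simp only [Preadditive.add_comp, Category.assoc, cokernel.condition, comp_zero, zero_comp, zero_add,
      hsecπ, Category.comp_id] at this
    rw [Category.assoc]
    exact this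
  have hold : g ≫ old = 0 := by
    rw [← cancel_mono (D S), zero_comp, Category.assoc]
    rw [← Category.assoc g new, hnew, zero_comp, add_zero] at hg
    exact hg
  rw [← Category.comp_id g, ← hsum, Preadditive.comp_add, ← Category.assoc, ← Category.assoc, hold, hnew,
    zero_comp, zero_comp, add_zero]

end Groth.Agent.RB70
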