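import Groth.Agent.Amp73.CounitIff
import Groth.Agent.Mum71.TensorSec
import Groth.Agent.Crv77.TwistSection
import Groth.Agent.EGA73.Tensor
import Groth.Agent.EGA73.VeryAmplePnAmple
import Groth.Agent.KRR40.TwistLES

/-! Quasi-coherent modules are quotients of negative twists of modules from the base. -/

set_option autoImplicit false
set_option backward.isDefEq.respectTransparency.types false
set_option linter.style.haveILetI false
set_option maxHeartbeats 1000000
set_option synthInstance.maxHeartbeats 200000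

universe u

open CategoryTheory CategoryTheory.Limits AlgebraicGeometry Opposite TopologicalSpace

noncomputable section

namespace Groth.Agent.RB70

open Amp73 Var76.LineBundle Var76.ZeroScheme

variable {X Y : Scheme.{u}}

/-- Tensoring on the right, as an endofunctor of `O_X`-modules. -/
abbrev twR (T : X.Modules) : X.Modules ⥤ X.Modules := DCoh.tensorRightMod T

/-- Twisting by a module and then by its inverse does nothing, naturally. -/
def twistCancel {T D : X.Modules} (e : CohB1.tensorMod T D ≅ Coh.structureModule X) :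
    twR T ⋙ twR D ≅ 𝟭 X.Modules :=
  Mod48.tensAssocNat (O := X.sheaf) T D ≪≫ (ModSite.tensorBi X.sheaf).flip.mapIso e ≪≫
    (Mod48.tensSymm (O := X.sheaf) (Coh.structureModule X)).symm ≪≫ Mod48.tensUnit (O := X.sheaf)

/-- Near each point, sections become extendable over preimages of affines after a positive twist. -/
theorem exists_section_extend (f : X ⟶ Y) [QuasiCompact f] [QuasiSeparated f] {L : X.Modules}
    (hamp : RelAmple.IsRelAmple f L) {V : Y.Opens} (hV : IsAffineOpen V) {W : X.Opens} {x : X}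
    (hxW : x ∈ W) (hWV : W ≤ f ⁻¹ᵁ V) :
    ∃ G : X.Opens, x ∈ G ∧ G ≤ W ∧ ∃ hGV : G ≤ f ⁻¹ᵁ V, ∀ (F : X.Modules), Coh.IsQCoh F → ∀ s : Γ(F, G),
      ∃ (N : ℕ) (e : Γ(CohB1.tensorPow L N, G)) (t : Γ(CohB1.tensorMod F (CohB1.tensorPow L N), f ⁻¹ᵁ V)),
        0 < N ∧ IsFrame (CohB1.tensorPow L N) G e ∧ res _ hGV t = tm F (CohB1.tensorPow L N) s e := by
  let W0 := f ⁻¹ᵁ V
  let L' := L.restrict W0.ι
  have hL' : CohB1.IsAmple L' := hamp.2 ⟨V, hV⟩
  haveI : CompactSpace (W0 : Scheme.{u}) := hL'.2.1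
  haveI : QuasiSeparatedSpace (W0 : Scheme.{u}) := quasiSeparatedSpace_of_isAmple hL'
  obtain ⟨_, ⟨n, σ, rfl⟩, hxG, hle, -⟩ :=
    exists_affine_genSet_le hL' (⟨x, hWV hxW⟩ : (W0 : Scheme.{u})) (W0.ι ⁻¹ᵁ W) hxW
  let G' := CohB1.genLocus (CohB1.tensorPow L' (n + 1)) σ
  have hGW : W0.ι ''ᵁ G' ≤ W := (W0.ι.image_mono hle).trans (W0.ι.image_preimage_le _)
  have hGV : W0.ι ''ᵁ G' ≤ W0 := W0.ι_image_le G'
  refine ⟨W0.ι ''ᵁ G', ⟨⟨x, hWV hxW⟩, hxG, rfl⟩, hGW, hGV, fun F hF s => ?_⟩
  have hM : PicF.IsInvertible (CohB1.tensorPow L' (n + 1)) := EGA73.isInvertible_tensorPow hL'.1 _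
  obtain ⟨k, hk, t', ht'⟩ := exists_tw_extend_pos hM σ (isQCoh_restrict hF W0) (show Γ(F.restrict W0.ι, G') from s)
  let θ : CohB1.tensorPow (CohB1.tensorPow L' (n + 1)) k ≅ (CohB1.tensorPow L ((n + 1) * k)).restrict W0.ι :=
    Amp73.powMul L' (n + 1) k ≪≫ Amp73.powRestrict W0.ι L ((n + 1) * k)
  obtain ⟨e₀, he₀, hte⟩ : ∃ e₀, IsFrame (CohB1.tensorPow (CohB1.tensorPow L' (n + 1)) k) G' e₀ ∧
      res _ (le_top : G' ≤ ⊤) t' = tm (F.restrict W0.ι) _ s e₀ :=
    ⟨_, isFrame_epow (isFrame_genLocus σ) k, ht'⟩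
  let e : Γ(CohB1.tensorPow L ((n + 1) * k), W0.ι ''ᵁ G') := θ.hom.app G' e₀
  have he : IsFrame (CohB1.tensorPow L ((n + 1) * k)) (W0.ι ''ᵁ G') e :=
    (isFrame_restrict_iff W0.ι (CohB1.tensorPow L ((n + 1) * k)) G' e).1 ((isFrame_app_iff θ.hom e₀).2 he₀)
  let Φ := EGA73.tensIso (Iso.refl (F.restrict W0.ι)) θ ≪≫ EGA73.tensorRestrictIso W0.ι F (CohB1.tensorPow L ((n + 1) * k))
  let P := CohB1.tensorMod F (CohB1.tensorPow L ((n + 1) * k))
  let t : Γ(P, W0.ι ''ᵁ ⊤) := Φ.hom.app ⊤ t'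
  have h1 : Φ.hom.app G' (tm (F.restrict W0.ι) _ s e₀) = tm F (CohB1.tensorPow L ((n + 1) * k)) s e := by
    refine (congrArg ((EGA73.tensorRestrictIso W0.ι F _).hom.app G')
      (Mum71.tensIso_app_tmul (Iso.refl (F.restrict W0.ι)) θ G' s e₀)).trans ?_
    exact Mum71.tensorRestrictIso_app_tmul W0.ι F _ G' s e
  refine ⟨(n + 1) * k, e, res P (W0.ι_image_top.ge) t, Nat.mul_pos (Nat.succ_pos n) hk, he, ?_⟩
  refine (res_res P _ _ t).trans (Eq.trans ?_ h1)
  exact (Mero90.app_res Φ.hom (le_top : G' ≤ ⊤) t').symm.trans (congrArg (Φ.hom.app G') hte)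

/-- The inverse image of the direct image of a twist, twisted back. -/
def negTwistMap (f : X ⟶ Y) (F : X.Modules) {T D : X.Modules} (e : CohB1.tensorMod T D ≅ Coh.structureModule X) :
    CohB1.tensorMod ((Scheme.Modules.pullback f).obj ((Scheme.Modules.pushforward f).obj (CohB1.tensorMod F T))) D ⟶ F :=
  (twR D).map ((Scheme.Modules.pullbackPushforwardAdjunction f).counit.app (CohB1.tensorMod F T)) ≫
    (twistCancel e).hom.app F

/-- Quasi-coherent modules are generated by sufficiently many twists. -/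
theorem epi_negTwist (f : X ⟶ Y) [QuasiCompact f] [QuasiSeparated f] {L : X.Modules}
    (hamp : RelAmple.IsRelAmple f L) {F : X.Modules} (hF : Coh.IsQCoh F) {ι : Type u} (T D : ι → X.Modules)
    (e : ∀ j, CohB1.tensorMod (T j) (D j) ≅ Coh.structureModule X)
    (e' : ∀ j, CohB1.tensorMod (D j) (T j) ≅ Coh.structureModule X)
    (hT : ∀ N : ℕ, 0 < N → ∃ j, Nonempty (CohB1.tensorPow L N ≅ T j)) :
    Epi (Sigma.desc fun j => negTwistMap f F (e j)) := by
  refine Preadditive.epi_of_cancel_zero _ fun {Q} q hq => ?_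
  have h0 : ∀ j, (Scheme.Modules.pullbackPushforwardAdjunction f).counit.app (CohB1.tensorMod F (T j)) ≫
      (twR (T j)).map q = 0 := fun j => by
    have h1 := congrArg (fun φ => Sigma.ι (fun j => CohB1.tensorMod ((Scheme.Modules.pullback f).obj
      ((Scheme.Modules.pushforward f).obj (CohB1.tensorMod F (T j)))) (D j)) j ≫ φ) hq
    simp only [Sigma.ι_desc_assoc, comp_zero, negTwistMap, Category.assoc] at h1
    have hn : (twistCancel (e j)).hom.app F ≫ q =
        (twR (D j)).map ((twR (T j)).map q) ≫ (twistCancel (e j)).hom.app Q :=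
      ((twistCancel (e j)).hom.naturality q).symm
    have h1' := (congrArg ((twR (D j)).map ((Scheme.Modules.pullbackPushforwardAdjunction f).counit.app
      (CohB1.tensorMod F (T j))) ≫ ·) hn).symm.trans h1
    have h2 : (twR (D j)).map
        ((Scheme.Modules.pullbackPushforwardAdjunction f).counit.app (CohB1.tensorMod F (T j)) ≫
          (twR (T j)).map q) = 0 :=
      (cancel_mono ((twistCancel (e j)).hom.app Q)).1
        ((((congrArg (· ≫ (twistCancel (e j)).hom.app Q) (Functor.map_comp (twR (D j)) _ _)).trans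
          (Category.assoc _ _ _)).trans h1').trans zero_comp.symm)
    have h3 : (twR (T j)).map ((twR (D j)).map
        ((Scheme.Modules.pullbackPushforwardAdjunction f).counit.app (CohB1.tensorMod F (T j)) ≫
          (twR (T j)).map q)) = 0 := by
      rw [h2, Functor.map_zero]
    have h4 := (twistCancel (e' j)).hom.naturality
      ((Scheme.Modules.pullbackPushforwardAdjunction f).counit.app (CohB1.tensorMod F (T j)) ≫
        (twR (T j)).map q)
    simp only [Functor.comp_map, Functor.id_map] at h4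
    rw [h3, zero_comp] at h4
    exact (cancel_epi ((twistCancel (e' j)).hom.app _)).1 (h4.symm.trans comp_zero.symm)
  refine Scheme.Modules.hom_ext _ _ fun W => ?_
  ext s
  refine eq_of_locally Q _ _ fun x hx => ?_
  obtain ⟨V, hV, hxV, -⟩ := exists_isAffineOpen_mem_and_subset (U := (⊤ : Y.Opens)) (x := f x) trivial
  obtain ⟨G, hxG, hGW, hGV, hext⟩ := exists_section_extend f hamp hV (W := W ⊓ f ⁻¹ᵁ V) ⟨hx, hxV⟩ inf_le_right
  refine ⟨G, hGW.trans inf_le_left, hxG, ?_⟩
  obtain ⟨N, ε, t, hN, hε, ht⟩ := hext F hF (res F (hGW.trans inf_le_left) s)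
  obtain ⟨j, ⟨a⟩⟩ := hT N hN
  -- the twisted section is zero
  let t₁ : Γ(CohB1.tensorMod F (T j), f ⁻¹ᵁ V) := (EGA73.tensIso (Iso.refl F) a).hom.app (f ⁻¹ᵁ V) t
  let ε₁ : Γ(T j, G) := a.hom.app G ε
  have ht₁ : res _ hGV t₁ = tm F (T j) (res F (hGW.trans inf_le_left) s) ε₁ :=
    (Mero90.app_res (EGA73.tensIso (Iso.refl F) a).hom hGV t).symm.trans
      ((congrArg ((EGA73.tensIso (Iso.refl F) a).hom.app G) ht).trans
        (Mum71.tensIso_app_tmul (Iso.refl F) a G _ ε))
  have hz : ((twR (T j)).map q).app (f ⁻¹ᵁ V) t₁ = 0 := by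
    have := congr(Scheme.Modules.Hom.app $(h0 j) (f ⁻¹ᵁ V)
      (pullS f ((Scheme.Modules.pushforward f).obj (CohB1.tensorMod F (T j))) V t₁))
    rw [Scheme.Modules.Hom.comp_app, ConcreteCategory.comp_apply] at this
    rwa [counit_app_pullS] at this
  have hq0 : tm Q (T j) (q.app G (res F (hGW.trans inf_le_left) s)) ε₁ = tm Q (T j) (0 : Γ(Q, G)) ε₁ := by
    rw [tm_zero_left, ← Crv77.twist_map_tm q (T j) G, ← ht₁]
    refine (Mero90.app_res ((twR (T j)).map q) hGV t₁).trans ?_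
    exact (congrArg (res ((twR (T j)).obj Q) hGV) hz).trans (map_zero _)
  have hinj := tm_frame_injective (L := Q) ((isFrame_app_iff a.hom ε).2 hε) le_rfl
    (q.app G (res F (hGW.trans inf_le_left) s)) 0 (by simpa [Amp73.res_self] using hq0)
  refine (Mero90.app_res q _ s).symm.trans (hinj.trans ?_)
  exact (map_zero _).symm

end Groth.Agent.RB70

end
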