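import Groth.Agent.Stein58.PushforwardStructure
import Groth.Agent.Stein58.Zariski
import Groth.Agent.Stein58.SteinFactor
import Groth.Agent.LimTop61.SteinFinite
import Groth.Agent.FBase64.ProperNhd.Global
import Groth.Agent.Var76.FibBC
import Groth.Prelude.Def_ega3
import Mathlib.RingTheory.IntegralClosure.IntegrallyClosed

/-! `O_Y = f_* O_X` near a normal point when the function field of the base is algebraically closed in that of the source. -/

set_option autoImplicit false
set_option synthInstance.maxHeartbeats 200000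
set_option maxHeartbeats 1000000
set_option linter.style.haveILetI false
set_option backward.isDefEq.respectTransparency.types false

noncomputable section

universe u

open CategoryTheory Limits AlgebraicGeometry TopologicalSpace

namespace Groth.Agent.RB70

variable {X Y : Scheme.{u}}

/-- An isomorphism on the sections over an affine open gives one on all smaller opens. -/
theorem isIso_app_of_le (f : X ⟶ Y) [QuasiCompact f] [QuasiSeparated f] {U : Y.Opens} (hU : IsAffineOpen U)
    (h : IsIso (f.app U)) (V : Y.Opens) (hV : V ≤ U) : IsIso (f.app V) := by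
  have hS : Opens.IsBasis {W : U.toScheme.Opens | ∃ g : Γ(Y, U), U.ι ''ᵁ W = Y.basicOpen g} := by
    refine Opens.isBasis_iff_nbhd.2 fun {O z} hz => ?_
    obtain ⟨g, hg, hzg⟩ := hU.exists_basicOpen_le (V := U.ι ''ᵁ O) ⟨z.1, ⟨z, hz, rfl⟩⟩ z.2
    have e : U.ι ''ᵁ (U.ι ⁻¹ᵁ Y.basicOpen g) = Y.basicOpen g := by
      rw [Scheme.Hom.image_preimage_eq_opensRange_inf, Scheme.Opens.opensRange_ι]
      exact inf_eq_right.2 (Y.basicOpen_le g)
    refine ⟨U.ι ⁻¹ᵁ Y.basicOpen g, ⟨g, e⟩, hzg, fun w hw => ?_⟩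
    obtain ⟨w', hw', hww⟩ := hg hw
    exact U.ι.isOpenEmbedding.injective hww ▸ hw'
  have hiso : ∀ W : U.toScheme.Opens, IsIso ((f ∣_ U).app W) := fun W => by
    refine Var76.FibBC.isIso_app_of_isBasis (f ∣_ U) hS (fun W' => ?_) W
    rintro ⟨g, hg⟩
    rw [morphismRestrict_app]
    exact IsIso.comp_isIso' (Stein58.isIso_app_of_eq f hg (Stein58.isIso_app_basicOpen f hU h g))
      (Stein58.isIso_map_eqToHom _)
  have e : U.ι ''ᵁ (U.ι ⁻¹ᵁ V) = V := by
    rw [Scheme.Hom.image_preimage_eq_opensRange_inf, Scheme.Opens.opensRange_ι]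
    exact inf_eq_right.2 hV
  haveI := hiso (U.ι ⁻¹ᵁ V)
  rw [morphismRestrict_app] at this
  refine Stein58.isIso_app_of_eq f e.symm ?_
  exact @IsIso.of_isIso_comp_right _ _ _ _ _ (f.app (U.ι ''ᵁ (U.ι ⁻¹ᵁ V))) _ (Stein58.isIso_map_eqToHom _) this

variable [IsIntegral X] [IsIntegral Y]

/-- At a normal point the direct image of the structure sheaf is the structure sheaf on a neighbourhood. -/
theorem exists_nhd_isIso_app [IsLocallyNoetherian Y] (f : X ⟶ Y) [IsProper f]
    (hdom : f.base (genericPoint X) ⤳ genericPoint Y)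
    (halg : ∀ x : X.functionField,
      (∃ q : Polynomial Y.functionField, q ≠ 0 ∧
        Polynomial.eval₂ (CohIII.stalkToFunctionField f (genericPoint Y) hdom) x q = 0) →
      x ∈ Set.range (CohIII.stalkToFunctionField f (genericPoint Y) hdom))
    (y : Y) (hy : IsIntegrallyClosed (Y.presheaf.stalk y)) :
    ∃ U : Y.Opens, y ∈ U ∧ IsAffineOpen U ∧ IsIso (f.app U) := by
  classical
  obtain ⟨_, ⟨U, hU, rfl⟩, hyU, -⟩ :=
    Y.isBasis_affineOpens.exists_subset_of_mem_open (Set.mem_univ y) isOpen_univ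
  have hη : genericPoint Y ∈ U := ((genericPoint_spec Y).specializes trivial).mem_open U.2 hyU
  have hξ : genericPoint X ∈ f ⁻¹ᵁ U := hdom.mem_open U.2 hη
  haveI : Nonempty U := ⟨⟨y, hyU⟩⟩
  let φ := CohIII.stalkToFunctionField f (genericPoint Y) hdom
  let gY := Y.presheaf.germ U (genericPoint Y) hη
  let gX := X.presheaf.germ (f ⁻¹ᵁ U) (genericPoint X) hξ
  let ψ := (f.app U).hom
  have hcompat : ∀ a, φ (gY a) = gX (ψ a) := fun a => by
    show f.stalkMap (genericPoint X) (Y.presheaf.stalkSpecializes hdom (gY a)) = _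
    rw [TopCat.Presheaf.germ_stalkSpecializes_apply]
    exact Scheme.Hom.germ_stalkMap_apply f U (genericPoint X) hξ a
  have hφ : Function.Injective φ := φ.injective
  have hgX : Function.Injective gX := germ_injective_of_isIntegral _ _ hξ
  have hgY : Function.Injective gY := germ_injective_of_isIntegral _ _ hη
  have hψ : Function.Injective ψ := fun a b hab => hgY (hφ (by rw [hcompat, hcompat, hab]))
  letI := ψ.toAlgebra
  haveI hfin : Module.Finite Γ(Y, U) Γ(X, f ⁻¹ᵁ U) := LimTop61.finite_app_of_isProper f hU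
  let p := (hU.primeIdealOf ⟨y, hyU⟩).asIdeal
  letI : Algebra Γ(Y, U) (Y.presheaf.stalk y) := (Y.presheaf.germ U y hyU).hom.toAlgebra
  haveI : IsLocalization.AtPrime (Y.presheaf.stalk y) p := hU.isLocalization_stalk ⟨y, hyU⟩
  have key : ∀ b : Γ(X, f ⁻¹ᵁ U), ∃ s : Γ(Y, U), s ∉ p ∧ ∃ a, ψ a = ψ s * b := by
    intro b
    obtain ⟨q, hq, hqb⟩ := Algebra.IsIntegral.isIntegral (R := Γ(Y, U)) b
    have h1 : Polynomial.eval₂ φ (gX b) (q.map gY.hom) = 0 := by
      rw [Polynomial.eval₂_map, show φ.comp gY.hom = gX.hom.comp ψ from RingHom.ext hcompat,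
        ← Polynomial.hom_eval₂]
      exact (congrArg gX.hom hqb).trans (map_zero _)
    obtain ⟨c, hc⟩ := halg (gX b) ⟨q.map gY.hom, (hq.map _).ne_zero, h1⟩
    have hc0 : Polynomial.eval₂ gY.hom c q = 0 := by
      refine hφ ?_
      rw [Polynomial.hom_eval₂, map_zero, hc, ← Polynomial.eval₂_map]
      exact h1
    have hsp : ∀ a, algebraMap (Y.presheaf.stalk y) Y.functionField (Y.presheaf.germ U y hyU a) = gY a := fun a =>
      TopCat.Presheaf.germ_stalkSpecializes_apply Y.presheaf hyU _ a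
    have hint : IsIntegral (Y.presheaf.stalk y) c := by
      refine ⟨q.map (Y.presheaf.germ U y hyU).hom, hq.map _, ?_⟩
      rw [Polynomial.eval₂_map, show (algebraMap (Y.presheaf.stalk y) Y.functionField).comp
        (Y.presheaf.germ U y hyU).hom = gY.hom from RingHom.ext hsp]
      exact hc0
    obtain ⟨t, ht⟩ := IsIntegrallyClosed.algebraMap_eq_of_integral hint
    obtain ⟨⟨a, s⟩, has⟩ := IsLocalization.surj p.primeCompl t
    refine ⟨s, s.2, a, hgX ?_⟩
    rw [← hcompat, map_mul, ← hcompat, ← hc, ← map_mul, ← ht, ← hsp, ← hsp]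
    refine congrArg φ ?_
    rw [← map_mul]
    exact congrArg _ (has.symm.trans (mul_comm _ _))
  obtain ⟨n, b, hb⟩ := Module.Finite.exists_fin (R := Γ(Y, U)) (M := Γ(X, f ⁻¹ᵁ U))
  choose s hs hs' using fun i => key (b i)
  let S := ∏ i, s i
  have hSp : S ∉ p := fun h => by
    obtain ⟨i, -, hi⟩ := (Ideal.IsPrime.prod_mem_iff (p := p)).1 h
    exact hs i hi
  have hall : ∀ z : Γ(X, f ⁻¹ᵁ U), ∃ a, ψ a = ψ S * z := by
    intro z
    have hz : z ∈ Submodule.span Γ(Y, U) (Set.range b) := hb ▸ Submodule.mem_top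
    induction hz using Submodule.span_induction with
    | mem w hw =>
      obtain ⟨i, rfl⟩ := hw
      obtain ⟨a, ha⟩ := hs' i
      refine ⟨(∏ j ∈ Finset.univ.erase i, s j) * a, ?_⟩
      rw [map_mul, ha, ← mul_assoc, ← map_mul, Finset.prod_erase_mul _ _ (Finset.mem_univ i)]
    | zero => exact ⟨0, by simp⟩
    | add _ _ _ _ h1 h2 =>
      obtain ⟨a, ha⟩ := h1
      obtain ⟨a', ha'⟩ := h2
      exact ⟨a + a', by rw [map_add, ha, ha', mul_add]⟩
    | smul r w _ h1 =>
      obtain ⟨a, ha⟩ := h1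
      refine ⟨r * a, ?_⟩
      rw [Algebra.smul_def, map_mul, ha]
      exact mul_left_comm _ _ _
  refine ⟨Y.basicOpen S, ?_, hU.basicOpen S, ?_⟩
  · have : hU.primeIdealOf ⟨y, hyU⟩ ∈ hU.fromSpec ⁻¹ᵁ Y.basicOpen S := by
      rw [hU.fromSpec_preimage_basicOpen]; exact hSp
    have e : hU.fromSpec (hU.primeIdealOf ⟨y, hyU⟩) = y := hU.fromSpec_primeIdealOf ⟨y, hyU⟩
    have h' : hU.fromSpec (hU.primeIdealOf ⟨y, hyU⟩) ∈ Y.basicOpen S := this
    rwa [e] at h'
  -- the two localizations at `S` agree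
  haveI := hU.isLocalization_basicOpen S
  have hc : IsCompact (f ⁻¹ᵁ U).1 := f.isCompact_preimage hU.isCompact
  have hq : IsQuasiSeparated (f ⁻¹ᵁ U).1 := by
    haveI : QuasiSeparated (f ∣_ U) := MorphismProperty.of_isPullback (isPullback_morphismRestrict f U).flip inferInstance
    haveI : IsAffine (U : Scheme.{u}) := hU
    haveI : QuasiSeparatedSpace ↥((f ⁻¹ᵁ U : X.Opens) : Scheme.{u}) :=
      quasiSeparatedSpace_of_quasiSeparated (f ∣_ U)
    exact isQuasiSeparated_iff_quasiSeparatedSpace _ (f ⁻¹ᵁ U).2 |>.2 ‹_›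
  haveI := isLocalization_basicOpen_of_qcqs hc hq (f.app U S)
  have hpre : f ⁻¹ᵁ Y.basicOpen S = X.basicOpen (f.app U S) := Scheme.preimage_basicOpen f S
  let τ : Γ(Y, Y.basicOpen S) ⟶ Γ(X, X.basicOpen (f.app U S)) :=
    f.app (Y.basicOpen S) ≫ X.presheaf.map (eqToHom hpre.symm).op
  have hτ : ∀ a, τ (algebraMap Γ(Y, U) Γ(Y, Y.basicOpen S) a) =
      algebraMap Γ(X, f ⁻¹ᵁ U) Γ(X, X.basicOpen (f.app U S)) (ψ a) := fun a => by
    show X.presheaf.map _ (f.app (Y.basicOpen S) (Y.presheaf.map _ a)) = X.presheaf.map _ (f.app U a)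
    rw [Var76.FibBC.app_res f (Y.basicOpen_le S), Var76.FibBC.res_res]
    rfl
  haveI : IsIso τ := by
    rw [ConcreteCategory.isIso_iff_bijective]
    refine ⟨(injective_iff_map_eq_zero _).2 fun z hz => ?_, fun z => ?_⟩
    · obtain ⟨⟨a, m⟩, hm⟩ := IsLocalization.surj (Submonoid.powers S) z
      have h1 := congrArg τ hm
      rw [map_mul, hz, zero_mul, hτ] at h1
      obtain ⟨⟨_, k, rfl⟩, hk⟩ :=
        (IsLocalization.map_eq_zero_iff (Submonoid.powers (f.app U S)) _ _).1 h1.symm
      have h2 : algebraMap Γ(Y, U) Γ(Y, Y.basicOpen S) a = 0 :=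
        (IsLocalization.map_eq_zero_iff (Submonoid.powers S) _ _).2 ⟨⟨_, k, rfl⟩, hψ (by
          rw [map_mul, map_pow, map_zero]; exact hk)⟩
      rw [h2] at hm
      exact (IsLocalization.map_units _ m).mul_left_eq_zero.1 hm
    · obtain ⟨⟨b₀, ⟨_, k, rfl⟩⟩, hm⟩ := IsLocalization.surj (Submonoid.powers (f.app U S)) z
      obtain ⟨a, ha⟩ := hall b₀
      have hu : IsUnit (algebraMap Γ(Y, U) Γ(Y, Y.basicOpen S) (S ^ (k + 1))) :=
        IsLocalization.map_units _ (⟨S ^ (k + 1), k + 1, rfl⟩ : Submonoid.powers S)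
      refine ⟨algebraMap Γ(Y, U) Γ(Y, Y.basicOpen S) a * ↑hu.unit⁻¹, ?_⟩
      apply (hu.map τ.hom).mul_left_inj.1
      rw [← map_mul, mul_assoc, IsUnit.val_inv_mul, mul_one]
      refine (hτ a).trans ?_
      rw [ha, map_mul, ← hm]
      refine Eq.trans ?_ (congrArg (z * ·) (hτ (S ^ (k + 1))).symm)
      have hψS : ψ S = f.app U S := rfl
      simp only [map_pow, map_mul, pow_succ, hψS]
      ring
  exact IsIso.of_isIso_comp_right _ (X.presheaf.map (eqToHom hpre.symm).op)

omit [IsIntegral X] [IsIntegral Y] in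
/-- Zariski connectedness at a point near which the structure sheaves agree. -/
theorem geometricallyConnected_fibre_of_isIso_app (f : X ⟶ Y) [IsProper f] {U : Y.Opens}
    (hU : IsAffineOpen U) (h : IsIso (f.app U)) {y : Y} (hy : y ∈ U) :
    GeometricallyConnected (f.fiberToSpecResidueField y) := by
  haveI : IsProper (f ∣_ U) := IsZariskiLocalAtTarget.restrict ‹IsProper f› U
  let g := (f ∣_ U) ≫ hU.isoSpec.hom
  haveI : IsAffine (U : Scheme.{u}) := hU
  haveI : IsIso g.appTop := by
    rw [Scheme.Hom.comp_appTop]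
    refine IsIso.comp_isIso' (Stein58.isIso_appTop_iso hU.isoSpec) ?_
    rw [Scheme.Hom.appTop, morphismRestrict_app]
    exact IsIso.comp_isIso' (Stein58.isIso_app_of_eq _ U.ι_image_top h) (Stein58.isIso_map_eqToHom _)
  have hg := Stein58.geometricallyConnected_of_isIso_appTop' g
  have := MorphismProperty.IsStableUnderBaseChange.respectsIso (P := @GeometricallyConnected.{u})
  haveI : GeometricallyConnected (f ∣_ U) :=
    (MorphismProperty.cancel_right_of_respectsIso @GeometricallyConnected _ hU.isoSpec.hom).1 hg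
  let v : (U : Scheme.{u}) := ⟨y, hy⟩
  obtain ⟨a, ha⟩ := FBase64.ProperNhd.isPullback_restrict_fibre f U v
  have : IsIso (U.ι.residueFieldMap v) := inferInstance
  have hi : IsIso (Spec.map (U.ι.residueFieldMap v)) :=
    Functor.map_isIso Scheme.Spec (U.ι.residueFieldMap v).op
  have : IsIso a := MorphismProperty.of_isPullback (P := MorphismProperty.isomorphisms _) ha.flip hi
  have h' : GeometricallyConnected ((f ∣_ U).fiberToSpecResidueField v) := inferInstance
  rw [← MorphismProperty.cancel_right_of_respectsIso @GeometricallyConnected _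
    (Spec.map (U.ι.residueFieldMap v)), ← ha.w,
    MorphismProperty.cancel_left_of_respectsIso @GeometricallyConnected] at h'
  exact h'

end Groth.Agent.RB70
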