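import Groth.Agent.QCohPush72.HomBound
import Groth.Agent.DR39.PC2
import Groth.Agent.DR39.Hom
import Groth.Prelude.Def_KLin
import Mathlib.Algebra.Homology.DerivedCategory.Linear

/-!
# Powers of a function kill maps from perfect objects to objects supported on its zero locus
-/

set_option autoImplicit false
set_option linter.style.haveILetI false
set_option backward.isDefEq.respectTransparency.types false
set_option maxHeartbeats 1000000

noncomputable section

universe u

open CategoryTheory CategoryTheory.Limits CategoryTheory.Pretriangulated DerivedCategory AlgebraicGeometry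
  TopologicalSpace Opposite
open scoped ZeroObject

attribute [local instance] HasDerivedCategory.standard

namespace Groth.Agent.RB70.PowKill

section General

variable {A : Type*} [CommRing A] {C : Type*} [Category C] [Preadditive C] [Linear A C]

/-- Every map `K ⟶ L` is killed by a power of `a`. -/
def Kills (a : A) (K L : C) : Prop := ∀ φ : K ⟶ L, ∃ n : ℕ, a ^ n • φ = 0

theorem Kills.of_iso {a : A} {K K' L L' : C} (h : Kills a K L) (e : K ≅ K') (f : L ≅ L') : Kills a K' L' :=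
  fun φ => by
    obtain ⟨n, hn⟩ := h (e.hom ≫ φ ≫ f.inv)
    refine ⟨n, ?_⟩
    rw [← Linear.comp_smul, ← Linear.smul_comp] at hn
    rwa [← cancel_epi e.hom, comp_zero, ← cancel_mono f.inv, zero_comp, Category.assoc]

theorem kills_of_isZero (a : A) {K L : C} (h : IsZero K) : Kills a K L :=
  fun φ => ⟨0, by rw [h.eq_of_src φ 0, smul_zero]⟩

theorem Kills.of_map {D : Type*} [Category D] [Preadditive D] [Linear A D] (F : C ⥤ D) [F.Additive] [F.Linear A]
    [F.Faithful] {a : A} {K L : C} (h : Kills a (F.obj K) (F.obj L)) : Kills a K L := fun φ => by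
  obtain ⟨n, hn⟩ := h (F.map φ)
  exact ⟨n, F.map_injective (by rw [F.map_smul, hn, F.map_zero])⟩

theorem Kills.ext₂ [HasZeroObject C] [HasShift C ℤ] [∀ n : ℤ, (shiftFunctor C n).Additive] [Pretriangulated C]
    {a : A} (T : Triangle C) (hT : T ∈ distTriang C) {L : C} (h₁ : Kills a T.obj₁ L) (h₃ : Kills a T.obj₃ L) :
    Kills a T.obj₂ L := fun φ => by
  obtain ⟨n, hn⟩ := h₁ (T.mor₁ ≫ φ)
  obtain ⟨ψ, hψ⟩ := Triangle.yoneda_exact₂ T hT (a ^ n • φ) (by rw [Linear.comp_smul, hn])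
  obtain ⟨m, hm⟩ := h₃ ψ
  refine ⟨m + n, ?_⟩
  rw [pow_add, mul_smul, hψ, ← Linear.comp_smul, hm, comp_zero]

end General

section Ring

variable {R : Type u} [CommRing R]

theorem homologyMap_smul (r : R) {K L : CochainComplex (ModuleCat.{u} R) ℤ} (f : K ⟶ L) (i : ℤ) :
    HomologicalComplex.homologyMap (r • f) i = r • HomologicalComplex.homologyMap f i := by
  have h : (HomologicalComplex.shortComplexFunctor (ModuleCat.{u} R) (ComplexShape.up ℤ) i).map (r • f) =
      r • (HomologicalComplex.shortComplexFunctor (ModuleCat.{u} R) (ComplexShape.up ℤ) i).map f :=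
    ShortComplex.hom_ext _ _ rfl rfl rfl
  show ShortComplex.homologyMap ((HomologicalComplex.shortComplexFunctor (ModuleCat.{u} R) (ComplexShape.up ℤ) i).map (r • f)) = _
  rw [h]
  exact ShortComplex.homologyMap_smul _ _

instance linear_homologyFunctor (i : ℤ) :
    (DerivedCategory.homologyFunctor (ModuleCat.{u} R) i).Linear R := by
  haveI : (HomologicalComplex.homologyFunctor (ModuleCat.{u} R) (ComplexShape.up ℤ) i).Linear R :=
    { map_smul := fun f r => homologyMap_smul r f i }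
  haveI : (Q ⋙ DerivedCategory.homologyFunctor (ModuleCat.{u} R) i).Linear R :=
    Functor.linear_of_iso R (DerivedCategory.homologyFunctorFactors (ModuleCat.{u} R) i).symm
  exact (Localization.functor_linear_iff Q (HomologicalComplex.quasiIso (ModuleCat.{u} R) (ComplexShape.up ℤ)) R
    (Q ⋙ DerivedCategory.homologyFunctor (ModuleCat.{u} R) i) _).1 inferInstance

theorem exists_pow_smul_range (r : R) {M N : ModuleCat.{u} R} [Module.Finite R M] (f : M ⟶ N)
    (h : ∀ x : N, ∃ n : ℕ, r ^ n • x = 0) : ∃ n : ℕ, r ^ n • f = 0 := by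
  classical
  obtain ⟨S, hS⟩ := (Module.Finite.fg_top : (⊤ : Submodule R M).FG)
  choose n hn using fun x => h (f.hom x)
  refine ⟨S.sup n, ModuleCat.hom_ext (LinearMap.ext_on hS fun x hx => ?_)⟩
  obtain ⟨k, hk⟩ := Nat.exists_eq_add_of_le (Finset.le_sup (f := n) (Finset.mem_coe.1 hx))
  show r ^ S.sup n • f.hom x = 0
  rw [hk, pow_add, mul_comm, mul_smul, hn, smul_zero]

/-- Maps from a bounded complex of finite projectives into a torsion object. -/
theorem kills_projective (r : R) (E : CochainComplex (ModuleCat.{u} R) ℤ) (c d : ℤ)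
    (hE : DRing.VanishesOutside (A := R) E c d) (hp : ∀ i, Module.Projective R (E.X i))
    (hf : ∀ i, Module.Finite R (E.X i)) (N : DerivedCategory (ModuleCat.{u} R))
    (hN : ∀ (i : ℤ) (x : (DerivedCategory.homologyFunctor (ModuleCat.{u} R) i).obj N), ∃ n : ℕ, r ^ n • x = 0) :
    Kills r (Q.obj E) N := by
  have hterm : ∀ i, Kills r ((DerivedCategory.singleFunctor (ModuleCat.{u} R) i).obj (E.X i)) N := by
    intro i φ
    haveI := hp i
    haveI := hf i
    haveI : Projective (E.X i) := (IsProjective.iff_projective (R := R) (E.X i)).1 inferInstance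
    let e : ((DerivedCategory.singleFunctor (ModuleCat.{u} R) i).obj (E.X i))⟦i⟧ ≅
        (DerivedCategory.singleFunctor (ModuleCat.{u} R) 0).obj (E.X i) :=
      ((DerivedCategory.singleFunctors (ModuleCat.{u} R)).shiftIso i 0 i (add_zero i)).app (E.X i)
    obtain ⟨n, hn⟩ := exists_pow_smul_range r (DR39.homToH0 (E.X i) (N⟦i⟧) (e.inv ≫ φ⟦i⟧')) fun x => by
      let w := ((DerivedCategory.homologyFunctor (ModuleCat.{u} R) 0).shiftIso i 0 i (add_zero i)).app N
      obtain ⟨n, hn⟩ := hN i (w.hom x)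
      exact ⟨n, w.toLinearEquiv.injective
        ((w.toLinearEquiv.map_smul _ _).trans (hn.trans (map_zero w.toLinearEquiv).symm))⟩
    refine ⟨n, (shiftFunctor (DerivedCategory (ModuleCat.{u} R)) i).map_injective ?_⟩
    rw [Functor.map_smul, Functor.map_zero, ← cancel_epi e.inv, comp_zero, Linear.comp_smul]
    refine (DR39.homToH0_bijective (E.X i) (N⟦i⟧)).1 ?_
    show _ ≫ (DerivedCategory.homologyFunctor (ModuleCat.{u} R) 0).map _ = _ ≫ _
    rw [Functor.map_smul, Linear.comp_smul, Functor.map_zero, comp_zero]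
    exact hn
  have hb : DRing.VanishesAbove (A := R) E d := fun i hi =>
    ((DR39.vanishesOutside_iff E c d).1 hE) i (by rw [Set.mem_Icc]; omega)
  have h := DR39.induction_terms (P := fun X => Kills r X N) (fun T hT h1 h3 => Kills.ext₂ T hT h1 h3)
    (fun X hX => kills_of_isZero r hX) E d hb c fun i _ => hterm i
  haveI : IsIso (DR39.cutι E c) := by
    haveI : ∀ i, IsIso ((DR39.cutι E c).f i) := fun i => by
      by_cases hi : c ≤ i
      · exact (DR39.isIso_iff_bijective _).2 (DR39.cutι_bijective E hi)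
      · have hz := DR39.isZero_cutGE E (show i < c by omega)
        have hz' : IsZero (E.X i) := ((DR39.vanishesOutside_iff E c d).1 hE) i (by rw [Set.mem_Icc]; omega)
        exact ⟨0, hz.eq_of_src _ _, hz'.eq_of_src _ _⟩
    exact HomologicalComplex.Hom.isIso_of_components _
  exact h.of_iso (Q.mapIso (asIso (DR39.cutι E c))) (Iso.refl _)

end Ring

section Scheme

variable {A : Type u} [CommRing A] {X Y : Scheme.{u}}

/-- Restriction is linear over the base ring. -/
theorem linear_restrict [X.Over (Spec (CommRingCat.of A))] [Y.Over (Spec (CommRingCat.of A))] (j : X ⟶ Y)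
    [IsOpenImmersion j] [j.IsOver (Spec (CommRingCat.of A))] :
    (Scheme.Modules.restrictFunctor j).Linear A := by
  refine (Functor.linear_iff A _).mpr fun M a => ?_
  refine Scheme.Modules.hom_ext _ _ fun U => ?_
  ext m
  have hm : ∀ (ψ : M ⟶ M) (x : Γ((Scheme.Modules.restrictFunctor j).obj M, U)),
      (M.restrictAppIso j U).hom (((Scheme.Modules.restrictFunctor j).map ψ).app U x) =
        ψ.app (j ''ᵁ U) ((M.restrictAppIso j U).hom x) := fun _ _ => rfl
  apply (ConcreteCategory.bijective_of_isIso (M.restrictAppIso j U).hom).1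
  rw [hm]
  change ((a • 𝟙 M).app (j ''ᵁ U)) ((M.restrictAppIso j U).hom m) =
    (M.restrictAppIso j U).hom ((a • 𝟙 ((Scheme.Modules.restrictFunctor j).obj M)).app U m)
  rw [KLin.smul_app_apply, KLin.smul_app_apply, Scheme.Modules.Hom.id_app, Scheme.Modules.Hom.id_app]
  refine Eq.trans ?_ (Scheme.Modules.smul_restrictAppIso_hom_apply j M U _ m).symm
  refine congrArg (fun z : Γ(Y, j ''ᵁ U) => z • (M.restrictAppIso j U).hom m) ?_
  apply (ConcreteCategory.bijective_of_isIso (j.appIso U).hom).1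
  rw [Iso.inv_hom_id_apply, Scheme.Hom.appIso_hom']
  show X.presheaf.map (homOfLE (j.preimage_image_eq U).ge).op (j.app (j ''ᵁ U) _) = _
  rw [← KLin.res_toGlobal_eq_app j a (j ''ᵁ U), ← CategoryTheory.comp_apply, ← Functor.map_comp]
  rfl

theorem linear_resD [X.Over (Spec (CommRingCat.of A))] [Y.Over (Spec (CommRingCat.of A))] (j : X ⟶ Y)
    [IsOpenImmersion j] [j.IsOver (Spec (CommRingCat.of A))] : (DCX42.resD j).Linear A := by
  haveI := linear_restrict (A := A) j
  infer_instance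

/-- The tilde functor is linear over a base ring. -/
theorem linear_tilde (R : CommRingCat.{u}) [(Spec R).Over (Spec (CommRingCat.of A))] (a : A) (r : R)
    (hr : (Scheme.ΓSpecIso R).inv r = Coh.toGlobal (Spec R ↘ Spec (CommRingCat.of A)) a)
    {M N : ModuleCat.{u} R} (f : M ⟶ N) :
    (tilde.functor R).map (r • f) = a • (tilde.functor R).map f := by
  suffices h : ∀ M : ModuleCat.{u} R, (tilde.functor R).map (r • 𝟙 M) = a • 𝟙 ((tilde.functor R).obj M) by
    have : r • f = (r • 𝟙 M) ≫ f := by rw [Linear.smul_comp, Category.id_comp]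
    rw [this, Functor.map_comp, h, Linear.smul_comp, Category.id_comp]
  intro M
  obtain ⟨g, hg⟩ := (tilde.functor R).map_surjective (a • 𝟙 ((tilde.functor R).obj M))
  rw [← hg]
  refine congrArg (tilde.functor R).map ?_
  apply (cancel_mono (tilde.toOpen M ⊤)).1
  rw [← tilde.toOpen_map_app g, show tilde.map g = _ from hg]
  ext x
  show (tilde.toOpen M ⊤).hom (r • x) = ((a • 𝟙 ((tilde.functor R).obj M)).app ⊤) ((tilde.toOpen M ⊤).hom x)
  rw [map_smul, KLin.smul_app_apply, Scheme.Modules.Hom.id_app]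
  show (Scheme.ΓSpecIso R).inv r • (show Γ((tilde.functor R).obj M, ⊤) from (tilde.toOpen M ⊤).hom x) = _
  rw [hr]
  congr 1

theorem map_smul_tildeD (R : CommRingCat.{u}) [(Spec R).Over (Spec (CommRingCat.of A))] (a : A) (r : R)
    (hr : (Scheme.ΓSpecIso R).inv r = Coh.toGlobal (Spec R ↘ Spec (CommRingCat.of A)) a)
    {M N : DerivedCategory (ModuleCat.{u} R)} (f : M ⟶ N) :
    (tilde.functor R).mapDerivedCategory.map (r • f) = a • (tilde.functor R).mapDerivedCategory.map f := by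
  let T := (tilde.functor R).mapDerivedCategory
  suffices h : ∀ K : CochainComplex (ModuleCat.{u} R) ℤ, T.map (r • 𝟙 (Q.obj K)) = a • 𝟙 (T.obj (Q.obj K)) by
    obtain ⟨K, ⟨e⟩⟩ := DR39.exists_complex_iso M
    have : r • f = e.inv ≫ (r • 𝟙 (Q.obj K)) ≫ e.hom ≫ f := by
      rw [Linear.smul_comp, Linear.comp_smul, Category.id_comp, e.inv_hom_id_assoc]
    rw [this, T.map_comp, T.map_comp, h, Linear.smul_comp, Linear.comp_smul, Category.id_comp,
      ← T.map_comp, e.inv_hom_id_assoc]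
  intro K
  let w := (tilde.functor R).mapDerivedCategoryFactors.app K
  have hK : ((tilde.functor R).mapHomologicalComplex (ComplexShape.up ℤ)).map (r • 𝟙 K) =
      a • 𝟙 (((tilde.functor R).mapHomologicalComplex (ComplexShape.up ℤ)).obj K) :=
    HomologicalComplex.hom_ext _ _ fun i =>
      (linear_tilde R a r hr (𝟙 (K.X i))).trans (congrArg (a • ·) ((tilde.functor R).map_id _))
  rw [show r • 𝟙 (Q.obj K) = Q.map (r • 𝟙 K) by rw [Functor.map_smul, CategoryTheory.Functor.map_id],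
    ← cancel_mono w.hom]
  refine ((tilde.functor R).mapDerivedCategoryFactors.hom.naturality (r • 𝟙 K)).trans ?_
  show w.hom ≫ Q.map (((tilde.functor R).mapHomologicalComplex _).map (r • 𝟙 K)) = _
  rw [hK, Functor.map_smul, Q.map_id]
  exact (Linear.comp_smul _ _ _ _ _ _).trans ((congrArg (a • ·) (Category.comp_id w.hom)).trans
    ((congrArg (a • ·) (Category.id_comp w.hom)).symm.trans (Linear.smul_comp _ _ _ _ _ _).symm))

/-- Sections of a quasi-coherent module on an affine scheme supported on `V(r)` are `r`-power torsion. -/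
theorem exists_pow_smul_eq_zero (R : CommRingCat.{u}) (r : R) (M : ModuleCat.{u} R)
    (h : CohB1.support ((tilde.functor R).obj M) ⊆
      ((Spec R).zeroLocus (U := ⊤) {(Scheme.ΓSpecIso R).inv r} : Set (Spec R))) (x : M) :
    ∃ n : ℕ, r ^ n • x = 0 := by
  let F := (tilde.functor R).obj M
  haveI : F.IsQuasicoherent := inferInstanceAs (tilde M).IsQuasicoherent
  let t : Γ(F, ⊤) := (tilde.toOpen M ⊤).hom x
  let g : Γ(Spec R, ⊤) := (Scheme.ΓSpecIso R).inv r
  have h0 : QC70.res F ((Spec R).basicOpen_le g) t = 0 := QC70.section_ext F _ 0 fun p hp => by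
    have hns : p ∉ CohB1.support F := fun hs => by
      have := h hs
      rw [Scheme.zeroLocus_singleton] at this
      exact this hp
    obtain ⟨W', hW, hpW, h0⟩ := QC70.germM_eq_zero (hx := hp) (s := QC70.res F ((Spec R).basicOpen_le g) t)
      ((QC70.notMem_support_iff.mp hns).elim _ _)
    exact ⟨W', hW, hpW, h0.trans (QC70.res_zero _).symm⟩
  obtain ⟨n, hn⟩ := (QC70.isLocAt_of_isQuasicoherent F (isAffineOpen_top (Spec R))).eq_zero_of g t h0
  refine ⟨n, (ConcreteCategory.bijective_of_isIso (tilde.toOpen M ⊤)).1 ?_⟩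
  refine (map_smul (tilde.toOpen M ⊤).hom _ _).trans (Eq.trans ?_ (map_zero (tilde.toOpen M ⊤).hom).symm)
  show (Scheme.ΓSpecIso R).inv (r ^ n) • t = 0
  rw [map_pow]
  exact hn

theorem support_eq_of_iso {Z : Scheme.{u}} {M N : Z.Modules} (e : M ≅ N) : CohB1.support M = CohB1.support N := by
  ext x
  exact not_congr ((((Scheme.Modules.toPresheaf Z) ⋙ TopCat.Presheaf.stalkFunctor AddCommGrpCat.{u} x).mapIso
    e).addCommGroupIsoToAddEquiv.toEquiv.subsingleton_congr)

/-- The affine case. -/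
theorem kills_spec (R : CommRingCat.{u}) [(Spec R).Over (Spec (CommRingCat.of A))] (a : A)
    (P : CochainComplex (Spec R).Modules ℤ) (c d : ℤ)
    (hv : ∀ i, (i < c ∨ d < i) → IsZero (P.X i)) (hF : ∀ i, FlatMod.IsFinLocFree (P.X i))
    (L : DCoh.D (Spec R)) (hL : DCoh.IsQCohD L)
    (hs : ∀ i, CohB1.support (DCoh.HD L i) ⊆
      ((Spec R).zeroLocus (U := ⊤) {Coh.toGlobal (Spec R ↘ Spec (CommRingCat.of A)) a} : Set (Spec R))) :
    Kills a (Q.obj P) L := by
  let T := (tilde.functor R).mapDerivedCategory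
  obtain ⟨hfull, hfaith, hess⟩ := DCX42.tildeD_fullyFaithful_essImage R
  obtain ⟨N, ⟨eN⟩⟩ := (hess L).1 hL
  let adj := tilde.adjunction (R := R)
  let E₀ := ((moduleSpecΓFunctor (R := R)).mapHomologicalComplex (ComplexShape.up ℤ)).obj P
  have hc : ∀ i, IsIso (adj.counit.app (P.X i)) := fun i =>
    have : (P.X i).IsQuasicoherent := DCX42.isQCoh_of_isFinLocFree (hF i)
    inferInstanceAs (IsIso (Scheme.Modules.fromTildeΓ (P.X i)))
  have : IsIso (Mod48.cxCounit adj P) := by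
    have : ∀ n, IsIso ((Mod48.cxCounit adj P).f n) := hc
    exact HomologicalComplex.Hom.isIso_of_components _
  let e : T.obj (Q.obj E₀) ≅ Q.obj P :=
    (tilde.functor R).mapDerivedCategoryFactors.app E₀ ≪≫ Q.mapIso (asIso (Mod48.cxCounit adj P))
  have hE₀ : DRing.VanishesOutside (A := R) E₀ c d :=
    (DR39.vanishesOutside_iff E₀ c d).2 fun i hi => (moduleSpecΓFunctor (R := R)).map_isZero (hv i (by
      rw [Set.mem_Icc] at hi; omega))
  have hfp := fun i =>
    have := hc i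
    (Props58.LocFree.isFinLocFree_tilde_iff _).mp
      (DCX42.isFinLocFree_of_iso (asIso (adj.counit.app (P.X i))).symm (hF i))
  let r : R := (Scheme.ΓSpecIso R).hom (Coh.toGlobal (Spec R ↘ Spec (CommRingCat.of A)) a)
  have hr : (Scheme.ΓSpecIso R).inv r = Coh.toGlobal (Spec R ↘ Spec (CommRingCat.of A)) a :=
    Iso.hom_inv_id_apply (Scheme.ΓSpecIso R) _
  have hN : ∀ (i : ℤ) (x : (DerivedCategory.homologyFunctor (ModuleCat.{u} R) i).obj N),
      ∃ n : ℕ, r ^ n • x = 0 := fun i x => by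
    refine exists_pow_smul_eq_zero R r _ ?_ x
    rw [hr]
    refine Eq.trans_le ?_ (hs i)
    exact support_eq_of_iso (((Mod48.homologyMapDerivedIso (tilde.functor R) i).app N).symm ≪≫
      (homologyFunctor _ i).mapIso eN)
  refine Kills.of_iso (K := T.obj (Q.obj E₀)) (L := T.obj N) (fun φ => ?_) e eN
  obtain ⟨ψ, rfl⟩ := T.map_surjective φ
  obtain ⟨n, hn⟩ := kills_projective r E₀ c d hE₀ (fun i => (hfp i).2) (fun i => (hfp i).1) N hN ψ
  refine ⟨n, ?_⟩
  rw [← map_smul_tildeD R (a ^ n) (r ^ n) (by rw [map_pow, map_pow, hr]; rfl) ψ, hn, Functor.map_zero]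

variable [X.Over (Spec (CommRingCat.of A))]

/-- Maps killed over every open with range `U`. -/
def KillsOn (a : A) (E E' : DCoh.D X) (U : X.Opens) : Prop :=
  ∀ (W : Scheme.{u}) [W.Over (Spec (CommRingCat.of A))] (j : W ⟶ X) [IsOpenImmersion j]
    [j.IsOver (Spec (CommRingCat.of A))], j.opensRange = U → ∀ m : ℤ,
      Kills a ((DCX42.resD j).obj E) (((DCX42.resD j).obj E')⟦m⟧)

theorem kills_resD_comp {W W' : Scheme.{u}} [W.Over (Spec (CommRingCat.of A))]
    (g : W' ⟶ W) [IsOpenImmersion g] (j : W ⟶ X) [IsOpenImmersion j] [j.IsOver (Spec (CommRingCat.of A))]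
    {a : A} {E E' : DCoh.D X} {O : X.Opens} (hO : KillsOn a E E' O) (hr : (g ≫ j).opensRange = O) (m : ℤ)
    [W'.Over (Spec (CommRingCat.of A))] [g.IsOver (Spec (CommRingCat.of A))] :
    Kills a ((DCX42.resD g).obj ((DCX42.resD j).obj E)) ((DCX42.resD g).obj (((DCX42.resD j).obj E')⟦m⟧)) := by
  haveI : (g ≫ j).IsOver (Spec (CommRingCat.of A)) :=
    ⟨by rw [Category.assoc, comp_over j, comp_over g]⟩
  exact (hO W' (g ≫ j) hr m).of_iso ((DCX42.resDComp g j).app E).symm
    ((shiftFunctor _ m).mapIso ((DCX42.resDComp g j).app E').symm ≪≫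
      (((DCX42.resD g).commShiftIso m).app _).symm)

theorem killsOn_affine (a : A) {E E' : DCoh.D X} (hE : DCoh.IsPerfect E) (hE' : DCoh.IsQCohD E')
    (hsupp : ∀ i : ℤ, CohB1.support (DCoh.HD E' i) ⊆
      (X.zeroLocus (U := ⊤) {Coh.toGlobal (X ↘ Spec (CommRingCat.of A)) a} : Set X))
    (U : X.Opens) (hU : IsAffineOpen U) : KillsOn a E E' U := by
  intro W _ j _ _ hj m
  let g : Spec Γ(X, U) ⟶ W := IsOpenImmersion.lift j hU.fromSpec (by
    rw [← Scheme.Hom.coe_opensRange, ← Scheme.Hom.coe_opensRange, hj, hU.opensRange_fromSpec])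
  have hg : g ≫ j = hU.fromSpec := IsOpenImmersion.lift_fac _ _ _
  haveI : IsIso g := by
    haveI : IsOpenImmersion (g ≫ j) := by rw [hg]; infer_instance
    haveI := IsOpenImmersion.of_comp g j
    haveI : Epi g.base := (TopCat.epi_iff_surjective _).2 fun w => by
      have hw : j.base w ∈ hU.fromSpec.opensRange := by
        rw [hU.opensRange_fromSpec, ← hj]; exact ⟨w, rfl⟩
      obtain ⟨z, hz⟩ := hw
      refine ⟨z, j.isOpenEmbedding.injective ?_⟩
      rw [← Scheme.Hom.comp_apply, hg]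
      exact hz
    exact IsOpenImmersion.isIso g
  letI : (Spec Γ(X, U)).Over (Spec (CommRingCat.of A)) := ⟨g ≫ (W ↘ Spec (CommRingCat.of A))⟩
  haveI : g.IsOver (Spec (CommRingCat.of A)) := ⟨rfl⟩
  haveI := linear_resD (A := A) g
  intro φ
  have hs : ∀ i, CohB1.support (DCoh.HD ((DCX42.resD g).obj (((DCX42.resD j).obj E')⟦m⟧)) i) ⊆
      ((Spec Γ(X, U)).zeroLocus (U := ⊤)
        {Coh.toGlobal (Spec Γ(X, U) ↘ Spec (CommRingCat.of A)) a} : Set (Spec Γ(X, U))) := by
    intro i y hy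
    replace hy := (support_eq_of_iso ((Mod48.homologyMapDerivedIso (Scheme.Modules.restrictFunctor g) i).app
      (((DCX42.resD j).obj E')⟦m⟧))).le hy
    have h1 : g.base y ∈ CohB1.support (DCoh.HD (((DCX42.resD j).obj E')⟦m⟧) i) := fun hsub =>
      hy (((Scheme.Modules.restrictStalkNatIso g y).app _).addCommGroupIsoToAddEquiv.toEquiv.subsingleton_congr.mpr hsub)
    replace h1 := (support_eq_of_iso ((((homologyFunctor W.Modules 0).shiftIso m i (m + i) rfl).app
      ((DCX42.resD j).obj E')) ≪≫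
      (Mod48.homologyMapDerivedIso (Scheme.Modules.restrictFunctor j) (m + i)).app E')).le h1
    have h2 : j.base (g.base y) ∈ CohB1.support (DCoh.HD E' (m + i)) := fun hsub =>
      h1 (((Scheme.Modules.restrictStalkNatIso j (g.base y)).app _).addCommGroupIsoToAddEquiv.toEquiv.subsingleton_congr.mpr hsub)
    have h3 := hsupp (m + i) h2
    rw [Scheme.mem_zeroLocus_iff] at h3 ⊢
    intro f hf hy'
    obtain rfl : f = _ := hf
    refine h3 _ rfl ?_
    have he : Spec Γ(X, U) ↘ Spec (CommRingCat.of A) = (g ≫ j) ≫ (X ↘ Spec (CommRingCat.of A)) := by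
      rw [Category.assoc, comp_over j]
      rfl
    rw [he, KLin.toGlobal_comp] at hy'
    have hy'' : y ∈ (g ≫ j) ⁻¹ᵁ X.basicOpen (Coh.toGlobal (X ↘ Spec (CommRingCat.of A)) a) := by
      rw [Scheme.preimage_basicOpen]; exact hy'
    exact hy''
  obtain ⟨P, ⟨⟨c, d, hcd⟩, hF⟩, ⟨eP⟩⟩ := QCohPush72.hasPerfRep_of_isAffine
    (DCX42.isPerfect_resD (DCX42.isPerfect_resD hE j) g)
  obtain ⟨n, hn⟩ := (kills_spec Γ(X, U) a P c d hcd hF _
    (DCX42.isQCohD_resD (DCX42.isQCohD_shift (DCX42.isQCohD_resD hE' j) m) g) hs).of_iso eP.symm (Iso.refl _)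
    ((DCX42.resD g).map φ)
  refine ⟨n, QCohPush72.eq_zero_of_resD_isIso g _ ?_⟩
  rw [Functor.map_smul]
  exact hn

theorem killsOn_sup (a : A) (E E' : DCoh.D X) (U V : X.Opens) (hU : KillsOn a E E' U) (hV : KillsOn a E E' V)
    (hUV : KillsOn a E E' (U ⊓ V)) : KillsOn a E E' (U ⊔ V) := by
  intro W _ j _ _ hj m φ
  let U' := j ⁻¹ᵁ U
  let V' := j ⁻¹ᵁ V
  have hsup : U' ⊔ V' = ⊤ := by
    rw [← Scheme.Hom.preimage_sup, ← hj, Scheme.Hom.preimage_opensRange]
  haveI := DCX42.hasRpush U'.ι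
  haveI := DCX42.hasRpush V'.ι
  haveI := DCX42.hasRpush (U' ⊓ V').ι
  let A₀ := (DCX42.resD j).obj E
  let L := ((DCX42.resD j).obj E')⟦m⟧
  obtain ⟨α, β, γ, hT⟩ := DCX42.exists_mv_triangle U' V' hsup L
  have hrange : ∀ O : X.Opens, O ≤ U ⊔ V → ((j ⁻¹ᵁ O).ι ≫ j).opensRange = O := fun O hO => by
    rw [Scheme.Hom.opensRange_comp, Scheme.Opens.opensRange_ι, j.image_preimage_eq_opensRange_inf, hj]
    exact inf_eq_right.mpr hO
  -- killing maps into direct images
  have hadj : ∀ (T : W.Opens) [DCoh.HasRpush T.ι] (A' L' : DCoh.D W),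
      letI : T.toScheme.Over (Spec (CommRingCat.of A)) := ⟨T.ι ≫ (W ↘ Spec (CommRingCat.of A))⟩
      Kills a ((DCX42.resD T.ι).obj A') ((DCX42.resD T.ι).obj L') →
      Kills a A' ((DCoh.Rpush T.ι).obj ((DCX42.resD T.ι).obj L')) := by
    intro T _ A' L' h ψ
    letI : T.toScheme.Over (Spec (CommRingCat.of A)) := ⟨T.ι ≫ (W ↘ Spec (CommRingCat.of A))⟩
    haveI : T.ι.IsOver (Spec (CommRingCat.of A)) := ⟨rfl⟩
    haveI := linear_resD (A := A) T.ι
    haveI := DCK91.hasLpull T.ι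
    obtain ⟨eL⟩ := DCX42.nonempty_Lpull_iso_resD T.ι
    let Ad := DCX42.LpullRpushAdj T.ι
    let b := eL.inv.app ((DCoh.Rpush T.ι).obj ((DCX42.resD T.ι).obj L')) ≫
      Ad.counit.app ((DCX42.resD T.ι).obj L')
    have hsymm : ∀ χ, (Ad.homEquiv _ _).symm χ = eL.hom.app A' ≫ (DCX42.resD T.ι).map χ ≫ b := fun χ => by
      rw [Adjunction.homEquiv_counit]
      simp [b]
    obtain ⟨n, hn⟩ := h ((DCX42.resD T.ι).map ψ ≫ b)
    refine ⟨n, (Ad.homEquiv _ _).symm.injective ?_⟩
    rw [hsymm, hsymm, Functor.map_smul, Linear.smul_comp, hn, Functor.map_zero, zero_comp]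
  have hvan : ∀ (O : X.Opens), O ≤ U ⊔ V → KillsOn a E E' O →
      letI : (j ⁻¹ᵁ O).toScheme.Over (Spec (CommRingCat.of A)) := ⟨(j ⁻¹ᵁ O).ι ≫ (W ↘ Spec (CommRingCat.of A))⟩
      ∀ k : ℤ, Kills a ((DCX42.resD (j ⁻¹ᵁ O).ι).obj A₀)
        ((DCX42.resD (j ⁻¹ᵁ O).ι).obj (((DCX42.resD j).obj E')⟦k⟧)) := by
    intro O hO h
    letI : (j ⁻¹ᵁ O).toScheme.Over (Spec (CommRingCat.of A)) := ⟨(j ⁻¹ᵁ O).ι ≫ (W ↘ Spec (CommRingCat.of A))⟩
    haveI : (j ⁻¹ᵁ O).ι.IsOver (Spec (CommRingCat.of A)) := ⟨rfl⟩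
    exact fun k => kills_resD_comp (j ⁻¹ᵁ O).ι j h (hrange O hO) k
  obtain ⟨n₁, hn₁⟩ := hadj U' A₀ L (hvan U le_sup_left hU m) (φ ≫ α ≫ biprod.fst)
  obtain ⟨n₂, hn₂⟩ := hadj V' A₀ L (hvan V le_sup_right hV m) (φ ≫ α ≫ biprod.snd)
  have h0 : (a ^ (n₁ + n₂) • φ) ≫ α = 0 := by
    refine biprod.hom_ext _ _ ?_ ?_
    · rw [zero_comp, Category.assoc, Linear.smul_comp, add_comm, pow_add, mul_smul, hn₁, smul_zero]
    · rw [zero_comp, Category.assoc, Linear.smul_comp, pow_add, mul_smul, hn₂, smul_zero]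
  obtain ⟨ψ, hψ⟩ := Triangle.coyoneda_exact₂ _ (inv_rot_of_distTriang _ hT) _ h0
  let R' := (DCoh.Rpush (U' ⊓ V').ι).obj ((DCX42.resD (U' ⊓ V').ι).obj L)
  let s1 := (shiftFunctorCompIsoId (DCoh.D W) (-1 : ℤ) 1 (by omega)).app R'
  have hk : Kills a (A₀⟦(1 : ℤ)⟧) R' := by
    refine hadj (U' ⊓ V') _ L ?_
    letI : (j ⁻¹ᵁ (U ⊓ V)).toScheme.Over (Spec (CommRingCat.of A)) :=
      ⟨(j ⁻¹ᵁ (U ⊓ V)).ι ≫ (W ↘ Spec (CommRingCat.of A))⟩
    haveI : (j ⁻¹ᵁ (U ⊓ V)).ι.IsOver (Spec (CommRingCat.of A)) := ⟨rfl⟩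
    let G := DCX42.resD (j ⁻¹ᵁ (U ⊓ V)).ι
    show Kills a (G.obj (A₀⟦(1 : ℤ)⟧)) (G.obj L)
    refine Kills.of_map (shiftFunctor (DCoh.D _) (-1 : ℤ)) ?_
    exact (hvan (U ⊓ V) (inf_le_left.trans le_sup_left) hUV (m - 1)).of_iso
      (((shiftFunctorCompIsoId (DCoh.D _) (1 : ℤ) (-1) (by omega)).app _).symm ≪≫
        (shiftFunctor _ (-1 : ℤ)).mapIso ((G.commShiftIso (1 : ℤ)).app _).symm)
      (G.mapIso ((shiftFunctorAdd' (DCoh.D W) m (-1) (m - 1) (by omega)).app _) ≪≫
        (G.commShiftIso (-1 : ℤ)).app L)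
  obtain ⟨n₃, hn₃⟩ := hk (ψ⟦(1 : ℤ)⟧' ≫ s1.hom)
  refine ⟨n₃ + (n₁ + n₂), ?_⟩
  rw [pow_add, mul_smul, hψ]
  suffices a ^ n₃ • ψ = 0 from
    (Linear.smul_comp _ _ _ _ ψ _).symm.trans ((congrArg (· ≫ _) this).trans zero_comp)
  refine (shiftFunctor (DCoh.D W) (1 : ℤ)).map_injective ?_
  rw [Functor.map_zero]
  refine (cancel_mono s1.hom).1 ?_
  exact (congrArg (· ≫ s1.hom) ((shiftFunctor (DCoh.D W) (1 : ℤ)).map_smul ..)).trans
    ((Linear.smul_comp ..).trans (hn₃.trans zero_comp.symm))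

/-- Powers of `a` kill maps from perfect objects to objects supported on `V(a)`. -/
theorem exists_pow_smul_hom_eq_zero [CompactSpace X] [QuasiSeparatedSpace X] (a : A) {E E' : DCoh.D X}
    (hE : DCoh.IsPerfect E) (hE' : DCoh.IsQCohD E')
    (hsupp : ∀ i : ℤ, CohB1.support (DCoh.HD E' i) ⊆
      (X.zeroLocus (U := ⊤) {Coh.toGlobal (X ↘ Spec (CommRingCat.of A)) a} : Set X))
    (α : E ⟶ E') : ∃ n : ℕ, a ^ n • α = 0 := by
  have h := Coh69.qc_induction (KillsOn a E E') (killsOn_affine a hE hE' hsupp)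
    (fun U V _ _ => killsOn_sup a E E' U V) ⊤ (by simpa using isCompact_univ)
  haveI : (𝟙 X : X ⟶ X).IsOver (Spec (CommRingCat.of A)) := ⟨Category.id_comp _⟩
  exact ((h X (𝟙 X) (Scheme.Hom.opensRange_of_isIso _) 0).of_iso ((QCohPush72.resDId X).app E)
    ((shiftFunctorZero (DCoh.D X) ℤ).app _ ≪≫ (QCohPush72.resDId X).app E')) α

end Scheme

end Groth.Agent.RB70.PowKill
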