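import Groth.Agent.SubMod72.Main
import Groth.Agent.QCRes72.Basic
import Groth.Agent.An92.Ample.Inverse
import Groth.Agent.Amp73.GlobGen
import Groth.Agent.FlatMor67.AmpleFamily
import Groth.Agent.DCX42.Affine
import Groth.Agent.DCX42.Tri
import Groth.Agent.Var76.RegMaps
import Groth.Agent.Kvb46.Local
import Groth.Agent.Cyc90.Dev.HasFilt
import Groth.Agent.QC70.ExtCoh
import Groth.Prelude.Def_PerfAux

/-!
# The resolution property along morphisms with locally generating sections
-/

set_option autoImplicit false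
set_option backward.isDefEq.respectTransparency.types false
set_option maxHeartbeats 1000000

noncomputable section

universe u

open CategoryTheory CategoryTheory.Limits AlgebraicGeometry Opposite TopologicalSpace

namespace Groth.Agent.RB70.ResProp

open Groth.Agent.QC70 (res)
open Amp73 FlatMor67.AmpFam

variable {X Y : Scheme.{u}}

/-- A finite jointly epimorphic family of finite locally free modules can be merged. -/
theorem exists_finLocFree_factor {M : X.Modules} : ∀ (n : ℕ) (P : Fin n → X.Modules) (φ : ∀ j, P j ⟶ M),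
    (∀ j, FlatMod.IsFinLocFree (P j)) →
    ∃ (G : X.Modules) (π : G ⟶ M) (ι : ∀ j, P j ⟶ G), FlatMod.IsFinLocFree G ∧ ∀ j, ι j ≫ π = φ j
  | 0, P, φ, _ => ⟨FlatMod.freeMod X 0, 0, fun j => j.elim0,
      QC70.isFinLocFree_freeMod X 0, fun j => j.elim0⟩
  | n + 1, P, φ, h => by
    obtain ⟨G, π, ι, hG, hι⟩ := exists_finLocFree_factor n (fun j => P j.succ) (fun j => φ j.succ)
      fun j => h j.succ
    refine ⟨P 0 ⊞ G, biprod.desc (φ 0) π, Fin.cases biprod.inl (fun j => ι j ≫ biprod.inr),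
      DCX42.isFinLocFree_biprod (h 0) hG, fun j => ?_⟩
    induction j using Fin.cases with
    | zero => simp
    | succ j => simp [hι j]

/-- A jointly epimorphic finite family of finite locally free modules gives a single one. -/
theorem exists_finLocFree_epi {M : X.Modules} {J : Type u} [Finite J] (P : J → X.Modules)
    [HasCoproduct P] (φ : ∀ j, P j ⟶ M)
    (hP : ∀ j, FlatMod.IsFinLocFree (P j)) (h : Epi (Sigma.desc φ)) :
    ∃ (E : X.Modules) (π : E ⟶ M), FlatMod.IsFinLocFree E ∧ Epi π := by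
  obtain ⟨n, ⟨e⟩⟩ := Finite.exists_equiv_fin J
  obtain ⟨G, π, ι, hG, hι⟩ := exists_finLocFree_factor n (fun i => P (e.symm i)) (fun i => φ (e.symm i))
    fun i => hP _
  refine ⟨G, π, hG, ?_⟩
  let c : ∀ j, P j ⟶ G := fun j => eqToHom (by rw [e.symm_apply_apply]) ≫ ι (e j)
  have hc : ∀ j, c j ≫ π = φ j := fun j => by
    have key : ∀ (k : J) (hk : k = j), eqToHom (congrArg P hk).symm ≫ φ k = φ j := by
      rintro k rfl; simp
    simp only [c, Category.assoc, hι]
    exact key _ (e.symm_apply_apply j)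
  haveI : Epi (Sigma.desc c ≫ π) := by
    rw [show Sigma.desc c ≫ π = Sigma.desc φ from Sigma.hom_ext _ _ fun j => by simp [hc j]]
    exact h
  exact epi_of_epi (Sigma.desc c) π

/-- Quasi-coherent modules locally generated by sections over preimages of affine opens are quotients of
pullbacks of finite locally free modules, if the target has the resolution property. -/
theorem exists_epi_of_span (f : X ⟶ Y) [QuasiCompact f] [QuasiSeparated f] [CompactSpace Y]
    [QuasiSeparatedSpace Y] (hY : PerfAux.HasResolutionProperty Y) (M : X.Modules)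
    [M.IsQuasicoherent] [M.IsFiniteType]
    (h : ∀ x : X, ∃ (V : Y.Opens) (U : X.Opens) (hle : U ≤ f ⁻¹ᵁ V), IsAffineOpen V ∧ IsAffineOpen U ∧
      x ∈ U ∧ Submodule.span Γ(X, U) (Set.range fun t : Γ(M, f ⁻¹ᵁ V) => res M hle t) = ⊤) :
    ∃ (E : X.Modules) (π : E ⟶ M), FlatMod.IsFinLocFree E ∧ Epi π := by
  classical
  have : CompactSpace X := QuasiCompact.compactSpace_of_compactSpace f
  choose V U hle hV hU hxU hsp using h
  have hex : ∀ x, ∃ T : Finset Γ(M, f ⁻¹ᵁ V x),
      Submodule.span Γ(X, U x) ((fun t => res M (hle x) t) '' (T : Set Γ(M, f ⁻¹ᵁ V x))) = ⊤ := by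
    intro x
    obtain ⟨T, hT, hTs⟩ := (Submodule.fg_span_iff_fg_span_finset_subset _).1
      ((hsp x).symm ▸ (QC70.finite_sections_of_isFiniteType M (hU x)).fg_top)
    obtain ⟨T', hT'⟩ := Finset.subset_set_image_iff.1 (by rwa [← Set.image_univ] at hT)
    refine ⟨T', ?_⟩
    rw [← (hsp x), hTs, ← hT'.2, Finset.coe_image]
  choose T hT using hex
  obtain ⟨S, hS⟩ := isCompact_univ.elim_finite_subcover (fun x => (U x : Set X)) (fun x => (U x).2)
    (fun x _ => Set.mem_iUnion.2 ⟨x, hxU x⟩)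
  haveI := QCqs72.isQuasicoherent_pushforward M f
  -- for each index: a finite locally free module on `Y` and a lift of the chosen sections
  have key : ∀ x, ∃ (E : Y.Modules) (φ : (Scheme.Modules.pullback f).obj E ⟶ M),
      FlatMod.IsFinLocFree E ∧ ∀ t ∈ T x, ∃ w : Γ((Scheme.Modules.pullback f).obj E, f ⁻¹ᵁ V x),
        φ.app (f ⁻¹ᵁ V x) w = t := by
    intro x
    let F := (Scheme.Modules.pushforward f).obj M
    obtain ⟨Q, hQ, hQP⟩ := SubMod72.exists_extension_qcqs (F := F) (hV x).isCompact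
      (SubMod72.fg_locSpan (F := F) (V := V x) (T x).finite_toSet)
    obtain ⟨hq, hft⟩ := SubMod72.isQuasicoherent_isFiniteType_toMod hQ
    obtain ⟨E, π, hE, hπ⟩ := hY (SubMod72.toMod Q) hq hft
    let adj := Scheme.Modules.pullbackPushforwardAdjunction f
    refine ⟨E, (adj.homEquiv _ _).symm (π ≫ SubMod72.toModι Q), hE, fun t ht => ?_⟩
    have htQ : (t : Γ(F, V x)) ∈ Q.carrier (V x) := by
      rw [hQP (V x) le_rfl]
      have h1 := SubMod72.self_mem_locSpan (F := F) (V := V x) (W := V x)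
        (S := ((↑(T x) : Set Γ(M, f ⁻¹ᵁ V x)))) (x := t) le_rfl ht
      rwa [QC70.res_self] at h1
    obtain ⟨y, hy⟩ := (SubMod72.mem_iff_exists Q _).1 htQ
    haveI : E.IsQuasicoherent := Props58.LocFree.isQuasicoherent_of_isFinLocFree hE
    haveI := hq
    haveI := hπ
    haveI : (ShortComplex.mk (kernel.ι π) π (kernel.condition π)).X₁.IsQuasicoherent :=
      QC70.isQuasicoherent_kernel π
    obtain ⟨z, hz⟩ := QC70.app_surjective_of_isAffineOpen
      (ShortComplex.mk (kernel.ι π) π (kernel.condition π))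
      { exact := ShortComplex.exact_of_f_is_kernel _ (kernelIsKernel π) } (hV x) y
    refine ⟨(adj.unit.app E).app (V x) z, ?_⟩
    have h2 : adj.unit.app E ≫ (Scheme.Modules.pushforward f).map
        ((adj.homEquiv _ _).symm (π ≫ SubMod72.toModι Q)) = π ≫ SubMod72.toModι Q := by
      exact (Adjunction.homEquiv_unit ..).symm.trans (Equiv.apply_symm_apply _ _)
    calc _ = (π ≫ SubMod72.toModι Q).app (V x) z :=
          congrArg (fun ψ : E ⟶ F => ψ.app (V x) z) h2
      _ = t := (congrArg ((SubMod72.toModι Q).app (V x)) hz).trans hy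
  choose E φ hE hφ using key
  choose w hw using hφ
  let J := Σ a : S, T a.1
  let P : J → X.Modules := fun j => (Scheme.Modules.pullback f).obj (E j.1.1)
  refine exists_finLocFree_epi P (fun j => φ j.1.1) (fun j => DCX42.isFinLocFree_pullback f (hE _))
    (epi_desc_of_span_maps (show Coh.IsQCoh M from inferInstanceAs M.IsQuasicoherent) P
      (fun j => φ j.1.1) fun x => ?_)
  obtain ⟨a, ha, hxa⟩ := Set.mem_iUnion₂.1 (hS (Set.mem_univ x))
  let y : ∀ j : J, Γ(P j, U a) := fun j =>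
    if h : j.1.1 = a then
      res (P j) (show U a ≤ f ⁻¹ᵁ V j.1.1 from h ▸ hle a) (w j.1.1 j.2.1 j.2.2) else 0
  refine ⟨U a, y, hxa, hU a, eq_top_iff.2 ((hT a).ge.trans (Submodule.span_mono ?_))⟩
  rintro _ ⟨t, ht, rfl⟩
  refine ⟨⟨⟨a, ha⟩, ⟨t, ht⟩⟩, ?_⟩
  simp only [y, dif_pos]
  show (φ a).app (U a) (res ((Scheme.Modules.pullback f).obj (E a)) (hle a) (w a t ht)) = res M (hle a) t
  rw [QC70.app_res, hw]

/-- Along an affine morphism to a qcqs scheme the resolution property passes up. -/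
theorem hasResolutionProperty_of_isAffineHom (f : X ⟶ Y) [IsAffineHom f] [CompactSpace Y]
    [QuasiSeparatedSpace Y] (hY : PerfAux.HasResolutionProperty Y) :
    PerfAux.HasResolutionProperty X := by
  intro M hM hMT
  have : M.IsQuasicoherent := hM
  have : M.IsFiniteType := hMT
  refine exists_epi_of_span f hY M fun x => ?_
  obtain ⟨V, hV, hxV, -⟩ := exists_isAffineOpen_mem_and_subset (U := (⊤ : Y.Opens)) (x := f x) trivial
  refine ⟨V, f ⁻¹ᵁ V, le_rfl, hV, hV.preimage f, hxV, eq_top_iff.2 fun t _ => ?_⟩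
  exact Submodule.subset_span ⟨t, QC70.res_self ..⟩

/-- Generation by global sections of a restriction, read on the ambient scheme. -/
theorem span_of_spanAt_restrict (M : X.Modules) {W : X.Opens} {U : W.toScheme.Opens}
    (hle : W.ι ''ᵁ U ≤ W) (hs : SpanAt (M.restrict W.ι) U) :
    Submodule.span Γ(X, W.ι ''ᵁ U) (Set.range fun t : Γ(M, W) => res M hle t) = ⊤ := by
  let S := Submodule.span Γ(X, W.ι ''ᵁ U) (Set.range fun t : Γ(M, W) => res M hle t)
  let S' : Submodule Γ(W.toScheme, U) Γ(M.restrict W.ι, U) :=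
    { carrier := {z | ((M.restrictAppIso W.ι U).hom z) ∈ S}
      add_mem' := fun {x y} hx hy => by
        show (M.restrictAppIso W.ι U).hom (x + y) ∈ S
        rw [map_add]; exact S.add_mem hx hy
      zero_mem' := by
        show (M.restrictAppIso W.ι U).hom 0 ∈ S
        rw [map_zero]; exact S.zero_mem
      smul_mem' := fun a z hz => by
        show (M.restrictAppIso W.ι U).hom (a • z) ∈ S
        rw [Scheme.Modules.smul_restrictAppIso_hom_apply]
        exact S.smul_mem _ hz }
  have h : (⊤ : Submodule _ _) ≤ S' := by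
    refine hs.ge.trans (Submodule.span_le.2 ?_)
    rintro _ ⟨t, rfl⟩
    show (M.restrictAppIso W.ι U).hom _ ∈ S
    refine Submodule.subset_span ⟨res M (Scheme.Opens.ι_image_top W).ge
      ((M.restrictAppIso W.ι ⊤).hom t), ?_⟩
    show res M hle (res M (Scheme.Opens.ι_image_top W).ge _) = _
    rw [QC70.res_res]
    rfl
  refine eq_top_iff.2 fun m _ => ?_
  obtain ⟨z, hz⟩ : ∃ z, (M.restrictAppIso W.ι U).hom z = m :=
    (ConcreteCategory.bijective_of_isIso (M.restrictAppIso W.ι U).hom).2 m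
  exact hz ▸ h (Submodule.mem_top (x := z))

/-- With a relatively ample module the resolution property passes up. -/
theorem hasResolutionProperty_of_isRelAmple (f : X ⟶ Y) [CompactSpace Y] [QuasiSeparatedSpace Y]
    (hY : PerfAux.HasResolutionProperty Y) (L : X.Modules) (hL : RelAmple.IsRelAmple f L) :
    PerfAux.HasResolutionProperty X := by
  classical
  intro M hM hMT
  have : M.IsQuasicoherent := hM
  have : M.IsFiniteType := hMT
  have := hL.1
  have hinv := isInvertible_of_isRelAmple hL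
  have : QuasiSeparated f := by
    rw [IsZariskiLocalAtTarget.iff_of_iSup_eq_top (P := @QuasiSeparated) _ (iSup_affineOpens_eq_top Y)]
    intro V
    have hqs := quasiSeparatedSpace_of_isAmple (hL.2 V)
    have : IsAffine (V.1 : Scheme.{u}) := V.2
    exact (quasiSeparated_iff_quasiSeparatedSpace (f ∣_ V.1)).2 hqs
  have hex : ∀ V : Y.affineOpens, ∃ n₀ : ℕ, ∀ n, n₀ ≤ n → ∀ x : (f ⁻¹ᵁ V.1).toScheme,
      ∃ U : (f ⁻¹ᵁ V.1).toScheme.Opens, x ∈ U ∧ IsAffineOpen U ∧
        SpanAt ((CohB1.tensorMod M (CohB1.tensorPow L n)).restrict (f ⁻¹ᵁ V.1).ι) U := by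
    intro V
    have hMW : Coh.IsCoh (M.restrict (f ⁻¹ᵁ V.1).ι) := ⟨inferInstance, QCRes72.isFiniteType_restrict ..⟩
    obtain ⟨n₀, h₀⟩ := eventually_spanAt_twist (hL.2 V) hMW
    refine ⟨n₀, fun n hn x => ?_⟩
    obtain ⟨U, hxU, hU, hs⟩ := h₀ n hn x
    exact ⟨U, hxU, hU, spanAt_of_iso (EGA73.tensIso (Iso.refl _) (powRestrict _ L n) ≪≫
      EGA73.tensorRestrictIso _ M (CohB1.tensorPow L n)).hom hs⟩
  choose n₀ h₀ using hex
  obtain ⟨S, hS⟩ := isCompact_univ.elim_finite_subcover (fun V : Y.affineOpens => (V.1 : Set Y))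
    (fun V => V.1.2) (fun y _ => by
      obtain ⟨V, hV, hyV, -⟩ := exists_isAffineOpen_mem_and_subset (U := (⊤ : Y.Opens)) (x := y) trivial
      exact Set.mem_iUnion.2 ⟨⟨V, hV⟩, hyV⟩)
  let n := S.sup n₀
  have hn : PicF.IsInvertible (CohB1.tensorPow L n) := EGA73.isInvertible_tensorPow hinv n
  let M' := CohB1.tensorMod M (CohB1.tensorPow L n)
  have hM' : Coh.IsCoh M' := isCoh_tensorMod ⟨hM, hMT⟩ (isCoh_of_isInvertible hn)
  have : M'.IsQuasicoherent := hM'.1
  have : M'.IsFiniteType := hM'.2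
  obtain ⟨E, π, hE, hπ⟩ := exists_epi_of_span f hY M' fun x => by
    obtain ⟨V, hVS, hxV⟩ := Set.mem_iUnion₂.1 (hS (Set.mem_univ (f x)))
    obtain ⟨U, hxU, hU, hs⟩ := h₀ V n (Finset.le_sup hVS) ⟨x, hxV⟩
    have hle : (f ⁻¹ᵁ V.1).ι ''ᵁ U ≤ f ⁻¹ᵁ V.1 := by
      exact ((f ⁻¹ᵁ V.1).ι.image_le_opensRange U).trans (f ⁻¹ᵁ V.1).opensRange_ι.le
    refine ⟨V.1, (f ⁻¹ᵁ V.1).ι ''ᵁ U, hle, V.2, hU.image_of_isOpenImmersion _, ⟨_, hxU, rfl⟩, ?_⟩
    exact span_of_spanAt_restrict M' hle hs
  obtain ⟨N, hN, ⟨β⟩⟩ := An92.InvMod.exists_inverse hn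
  haveI := hπ
  obtain ⟨w, hw⟩ := Var76.Reg.shortExact_whiskR hN
    (show (ShortComplex.mk (kernel.ι π) π (kernel.condition π)).ShortExact from
      { exact := ShortComplex.exact_of_f_is_kernel _ (kernelIsKernel π) })
  haveI := hw.epi_g
  refine ⟨CohB1.tensorMod E N, Var76.Reg.whiskR π N ≫ (EGA73.tensAssoc' M (CohB1.tensorPow L n) N ≪≫
      EGA73.tensIso (Iso.refl M) (EGA73.tensComm (CohB1.tensorPow L n) N ≪≫ β) ≪≫
      EGA73.tensUnitRight M).hom, Kvb46.isFinLocFree_tensor hE (Cyc90.Dev.HasFilt.isFinLocFree_of_isInvertible hN), ?_⟩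
  exact epi_comp _ _

end Groth.Agent.RB70.ResProp
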