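import Groth.Agent.LC16.GammaZQCoh
import Groth.Agent.DCX42.KInjPush
import Groth.Agent.DCX42.LpullLoc
import Groth.Agent.CohDer42.TriBasic
import Groth.Agent.QCohPush72.Coprod
import Groth.Prelude.Def_CxOX
import Mathlib.Algebra.Homology.DerivedCategory.ShortExact

/-!
# The support triangle on K-injective complexes and coproducts
-/

set_option autoImplicit false
set_option linter.style.haveILetI false
set_option backward.isDefEq.respectTransparency.types false
set_option maxHeartbeats 1000000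

noncomputable section

universe u

open CategoryTheory CategoryTheory.Limits CategoryTheory.Pretriangulated DerivedCategory AlgebraicGeometry

attribute [local instance] HasDerivedCategory.standard

namespace Groth.Agent.RB70.RgammaCoprod

variable {U X : Scheme.{u}} (j : U ⟶ X) [IsOpenImmersion j]

/-- `I ↦ Γ_Z I`. -/
abbrev gammaCx : CochainComplex X.Modules ℤ ⥤ CochainComplex X.Modules ℤ :=
  (DCoh.gammaZ j).mapHomologicalComplex (ComplexShape.up ℤ)

/-- `I ↦ j_*(I|_U)`. -/
abbrev openCx : CochainComplex X.Modules ℤ ⥤ CochainComplex X.Modules ℤ :=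
  DCX42.resCx j ⋙ (Scheme.Modules.pushforward j).mapHomologicalComplex (ComplexShape.up ℤ)

/-- The sequence `Γ_Z I → I → j_*(I|_U)`. -/
def seq : CochainComplex X.Modules ℤ ⥤ ShortComplex (CochainComplex X.Modules ℤ) where
  obj I :=
    { X₁ := (gammaCx j).obj I
      X₂ := I
      X₃ := (openCx j).obj I
      f :=
        { f := fun n => (CxOX.gammaZι j).app (I.X n)
          comm' := fun a b _ => ((CxOX.gammaZι j).naturality (I.d a b)).symm }
      g :=
        { f := fun n => (Scheme.Modules.restrictAdjunction j).unit.app (I.X n)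
          comm' := fun a b _ => ((Scheme.Modules.restrictAdjunction j).unit.naturality (I.d a b)).symm }
      zero := HomologicalComplex.hom_ext _ _ fun n => kernel.condition _ }
  map {I J} g :=
    { τ₁ := (gammaCx j).map g
      τ₂ := g
      τ₃ := (openCx j).map g
      comm₁₂ := HomologicalComplex.hom_ext _ _ fun n => (CxOX.gammaZι j).naturality (g.f n)
      comm₂₃ := HomologicalComplex.hom_ext _ _ fun n => (Scheme.Modules.restrictAdjunction j).unit.naturality (g.f n) }

theorem seq_shortExact (I : CochainComplex X.Modules ℤ) (hI : ∀ n, Injective (I.X n)) :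
    ((seq j).obj I).ShortExact :=
  HomologicalComplex.shortExact_of_degreewise_shortExact _ fun n => by
    haveI := hI n
    let π := (Scheme.Modules.restrictAdjunction j).unit.app (I.X n)
    haveI : Epi π := LC16.GammaZQCoh.epi_unit j (I.X n)
    exact ShortComplex.ShortExact.mk' (ShortComplex.exact_kernel π)
      (inferInstanceAs (Mono (kernel.ι π))) (inferInstanceAs (Epi π))

theorem rgammaUnit_isIso [CxOX.HasRgammaZ j] (I : CochainComplex X.Modules ℤ) (hI : I.IsKInjective) :
    IsIso (((CxOX.gammaZKh j).totalRightDerivedUnit DerivedCategory.Qh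
      (HomotopyCategory.quasiIso X.Modules (ComplexShape.up ℤ))).app
        ((HomotopyCategory.quotient X.Modules (ComplexShape.up ℤ)).obj I)) :=
  Mod48.isIso_unit_of_kInjective _ _ CohDer42.RdAdj.enoughKInj I hI

/-- The comparison `Γ_Z I ⟶ RΓ_Z I`. -/
def gammaUnit [CxOX.HasRgammaZ j] :
    gammaCx j ⋙ Q ⟶ Q ⋙ CxOX.RgammaZ j where
  app I := ((DCoh.gammaZ j).mapHomotopyCategoryFactors (ComplexShape.up ℤ)).inv.app I |> fun a =>
    Qh.map a ≫ ((CxOX.gammaZKh j).totalRightDerivedUnit DerivedCategory.Qh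
      (HomotopyCategory.quasiIso X.Modules (ComplexShape.up ℤ))).app
        ((HomotopyCategory.quotient X.Modules (ComplexShape.up ℤ)).obj I)
  naturality I J g := by
    let α := (CxOX.gammaZKh j).totalRightDerivedUnit DerivedCategory.Qh
      (HomotopyCategory.quasiIso X.Modules (ComplexShape.up ℤ))
    have h1 := ((DCoh.gammaZ j).mapHomotopyCategoryFactors (ComplexShape.up ℤ)).inv.naturality g
    have h2 := α.naturality ((HomotopyCategory.quotient X.Modules (ComplexShape.up ℤ)).map g)
    dsimp only [Functor.comp_map, Functor.comp_obj] at h1 h2 ⊢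
    have k1 := (Functor.map_comp Qh _ _).symm.trans ((congrArg Qh.map h1).trans (Functor.map_comp Qh _ _))
    exact (Category.assoc _ _ _).symm.trans ((congrArg (· ≫ α.app _) k1).trans
      ((Category.assoc _ _ _).trans ((congrArg (_ ≫ ·) h2).trans (Category.assoc _ _ _).symm)))

/-- The comparison `j_*(I|_U) ⟶ Rj_*(I|_U)`. -/
def openUnit [DCoh.HasRpush j] :
    openCx j ⋙ Q ⟶ Q ⋙ DCX42.resD j ⋙ DCoh.Rpush j where
  app I := Qh.map (((Scheme.Modules.pushforward j).mapHomotopyCategoryFactors (ComplexShape.up ℤ)).inv.app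
      ((DCX42.resCx j).obj I)) ≫ ((DCoh.pushKh j).totalRightDerivedUnit DerivedCategory.Qh
      (HomotopyCategory.quasiIso U.Modules (ComplexShape.up ℤ))).app
        ((HomotopyCategory.quotient U.Modules (ComplexShape.up ℤ)).obj ((DCX42.resCx j).obj I)) ≫
    (DCoh.Rpush j).map (DCX42.resQ j I).inv
  naturality I J g := by
    let α := (DCoh.pushKh j).totalRightDerivedUnit DerivedCategory.Qh
      (HomotopyCategory.quasiIso U.Modules (ComplexShape.up ℤ))
    let g' := (DCX42.resCx j).map g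
    have h1 := ((Scheme.Modules.pushforward j).mapHomotopyCategoryFactors (ComplexShape.up ℤ)).inv.naturality g'
    have h2 := α.naturality ((HomotopyCategory.quotient U.Modules (ComplexShape.up ℤ)).map g')
    have h3 : Q.map g' ≫ (DCX42.resQ j J).inv = (DCX42.resQ j I).inv ≫ (DCX42.resD j).map (Q.map g) :=
      (Scheme.Modules.restrictFunctor j).mapDerivedCategoryFactors.inv.naturality g
    dsimp only [Functor.comp_map, Functor.comp_obj] at h1 h2 ⊢
    have k1 := (Functor.map_comp Qh _ _).symm.trans ((congrArg Qh.map h1).trans (Functor.map_comp Qh _ _))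
    have k3 := (Functor.map_comp (DCoh.Rpush j) _ _).symm.trans
      ((congrArg (DCoh.Rpush j).map h3).trans (Functor.map_comp (DCoh.Rpush j) _ _))
    refine (Category.assoc _ _ _).symm.trans ((congrArg (· ≫ _) k1).trans ((Category.assoc _ _ _).trans ?_))
    refine (congrArg (_ ≫ ·) ?_).trans (Category.assoc _ _ _).symm
    exact (Category.assoc _ _ _).symm.trans ((congrArg (· ≫ _) h2).trans ((Category.assoc _ _ _).trans
      ((congrArg (_ ≫ ·) k3).trans (Category.assoc _ _ _).symm)))

theorem isIso_gammaUnit [CxOX.HasRgammaZ j] (I : CochainComplex X.Modules ℤ) (hI : I.IsKInjective) :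
    IsIso ((gammaUnit j).app I) := by
  haveI := rgammaUnit_isIso j I hI
  exact Iso.isIso_hom (Qh.mapIso (((DCoh.gammaZ j).mapHomotopyCategoryFactors (ComplexShape.up ℤ)).app I).symm ≪≫
    asIso (((CxOX.gammaZKh j).totalRightDerivedUnit DerivedCategory.Qh
      (HomotopyCategory.quasiIso X.Modules (ComplexShape.up ℤ))).app
        ((HomotopyCategory.quotient X.Modules (ComplexShape.up ℤ)).obj I)))

theorem isIso_openUnit [DCoh.HasRpush j] (I : CochainComplex X.Modules ℤ) (hI : I.IsKInjective) :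
    IsIso ((openUnit j).app I) := by
  haveI := DCX42.isIso_pushUnit j _ (DCX42.isKInjective_restrict j I hI)
  exact Iso.isIso_hom (Qh.mapIso (((Scheme.Modules.pushforward j).mapHomotopyCategoryFactors (ComplexShape.up ℤ)).app
      ((DCX42.resCx j).obj I)).symm ≪≫
    asIso (((DCoh.pushKh j).totalRightDerivedUnit DerivedCategory.Qh
      (HomotopyCategory.quasiIso U.Modules (ComplexShape.up ℤ))).app
        ((HomotopyCategory.quotient U.Modules (ComplexShape.up ℤ)).obj ((DCX42.resCx j).obj I))) ≪≫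
    (DCoh.Rpush j).mapIso (DCX42.resQ j I).symm)

/-- Conjugating a map out of a coproduct by isomorphisms. -/
theorem isIso_desc_of_iso {C : Type*} [Category C] {ι : Type*} {A B : ι → C} [HasCoproduct A] [HasCoproduct B]
    {A₀ B₀ : C} (a : ∀ i, A i ≅ B i) (a₀ : A₀ ≅ B₀) (p : ∀ i, A i ⟶ A₀) (q : ∀ i, B i ⟶ B₀)
    (h : ∀ i, p i ≫ a₀.hom = (a i).hom ≫ q i) (hq : IsIso (Sigma.desc q)) : IsIso (Sigma.desc p) := by
  let w : ∐ A ≅ ∐ B :=
    { hom := Sigma.desc fun i => (a i).hom ≫ Sigma.ι B i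
      inv := Sigma.desc fun i => (a i).inv ≫ Sigma.ι A i
      hom_inv_id := Sigma.hom_ext _ _ fun i => by simp
      inv_hom_id := Sigma.hom_ext _ _ fun i => by simp }
  have : Sigma.desc p = w.hom ≫ Sigma.desc q ≫ a₀.inv := Sigma.hom_ext _ _ fun i => by
    simp [w, ← reassoc_of% (h i)]
  rw [this]
  haveI := hq
  haveI : IsIso (Sigma.desc q ≫ a₀.inv) := IsIso.comp_isIso
  haveI : IsIso w.hom := w.isIso_hom
  exact IsIso.comp_isIso

theorem isLeftAdjoint_resD : (DCX42.resD j).IsLeftAdjoint := by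
  haveI := DCK91.hasLpull j
  haveI := DCX42.hasRpush j
  obtain ⟨e⟩ := DCX42.nonempty_Lpull_iso_resD j
  exact ⟨_, ⟨(DCX42.LpullRpushAdj j).ofNatIsoLeft e⟩⟩

/-- `RΓ_Z` commutes with coproducts in `D_QCoh`. -/
theorem isIso_comparison [QuasiCompact j] [CxOX.HasRgammaZ j] {ι : Type u} (E : ι → DCoh.D X)
    (hE : ∀ i, DCoh.IsQCohD (E i)) [HasCoproduct E] [HasCoproduct (fun i => (CxOX.RgammaZ j).obj (E i))] :
    IsIso (Sigma.desc (fun i => (CxOX.RgammaZ j).map (Sigma.ι E i))) := by
  haveI := DCX42.hasRpush j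
  have hrep : ∀ K : DCoh.D X, ∃ I : CochainComplex X.Modules ℤ, I.IsKInjective ∧ (∀ n, Injective (I.X n)) ∧
      Nonempty (Q.obj I ≅ K) := fun K => by
    obtain ⟨I, f, hI, hf, -, hinj⟩ := CohDer42.exists_kinjective_resolution (Q.objPreimage K)
    haveI : IsIso (Q.map f) := by rwa [DerivedCategory.isIso_Q_map_iff_quasiIso]
    exact ⟨I, hI, hinj, ⟨(asIso (Q.map f)).symm ≪≫ Q.objObjPreimageIso K⟩⟩
  choose I hI hinj e using fun i => hrep (E i)
  obtain ⟨J, hJ, hJinj, ⟨e₀⟩⟩ := hrep (∐ E)
  replace e := fun i => (e i).some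
  have hg : ∀ i, ∃ g : I i ⟶ J, Q.map g = (e i).hom ≫ Sigma.ι E i ≫ e₀.inv := fun i => by
    haveI := hJ
    let w := (quotientCompQhIso X.Modules)
    obtain ⟨g', hg'⟩ := (CochainComplex.IsKInjective.Qh_map_bijective
      ((HomotopyCategory.quotient _ _).obj (I i)) J).surjective
        (w.hom.app (I i) ≫ ((e i).hom ≫ Sigma.ι E i ≫ e₀.inv) ≫ w.inv.app J)
    obtain ⟨g, rfl⟩ := (HomotopyCategory.quotient _ _).map_surjective g'
    refine ⟨g, ?_⟩
    have := w.inv.naturality g
    rw [← cancel_mono (w.inv.app J), this]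
    dsimp only [Functor.comp_map]
    rw [hg']
    simp
  choose g hg using hg
  let T : ι → Triangle (DCoh.D X) := fun i => triangleOfSES (seq_shortExact j _ (hinj i))
  let T₀ : Triangle (DCoh.D X) := triangleOfSES (seq_shortExact j _ hJinj)
  let m : ∀ i, T i ⟶ T₀ := fun i => triangleOfSES.map _ _ ((seq j).map (g i))
  haveI hco : ∀ K : ι → DCoh.D X, HasCoproduct K := QCohPush72.hasCoproduct_D
  have hS := CohDer42.coproduct_triangle_distinguished T fun i => triangleOfSES_distinguished _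
  have c1 : Limits.Sigma.map (fun i => (T i).mor₁) ≫ Sigma.desc (fun i => (m i).hom₂) =
      Sigma.desc (fun i => (m i).hom₁) ≫ T₀.mor₁ := Sigma.hom_ext _ _ fun i => by
    simp only [Sigma.ι_map_assoc, Sigma.ι_desc, Sigma.ι_desc_assoc]
    exact (m i).comm₁
  have c2 : Limits.Sigma.map (fun i => (T i).mor₂) ≫ Sigma.desc (fun i => (m i).hom₃) =
      Sigma.desc (fun i => (m i).hom₂) ≫ T₀.mor₂ := Sigma.hom_ext _ _ fun i => by
    simp only [Sigma.ι_map_assoc, Sigma.ι_desc, Sigma.ι_desc_assoc]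
    exact (m i).comm₂
  have c3 : (Sigma.desc fun i => (T i).mor₃ ≫ (shiftFunctor (DCoh.D X) (1 : ℤ)).map (Sigma.ι (fun i => (T i).obj₁) i)) ≫
      (shiftFunctor (DCoh.D X) (1 : ℤ)).map (Sigma.desc fun i => (m i).hom₁) =
      Sigma.desc (fun i => (m i).hom₃) ≫ T₀.mor₃ := Sigma.hom_ext _ _ fun i => by
    simp only [Sigma.ι_desc_assoc, Category.assoc, ← Functor.map_comp, Sigma.ι_desc]
    exact (m i).comm₃
  let φ : Triangle.mk (Limits.Sigma.map fun i => (T i).mor₁) (Limits.Sigma.map fun i => (T i).mor₂)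
      (Sigma.desc fun i => (T i).mor₃ ≫ (shiftFunctor (DCoh.D X) (1 : ℤ)).map (Sigma.ι (fun i => (T i).obj₁) i)) ⟶ T₀ :=
    { hom₁ := Sigma.desc fun i => (m i).hom₁
      hom₂ := Sigma.desc fun i => (m i).hom₂
      hom₃ := Sigma.desc fun i => (m i).hom₃
      comm₁ := c1
      comm₂ := c2
      comm₃ := c3 }
  haveI h2 : IsIso φ.hom₂ := by
    haveI : IsIso (Sigma.desc fun i => Sigma.ι E i) := by
      rw [show (Sigma.desc fun i => Sigma.ι E i) = 𝟙 _ from Sigma.hom_ext _ _ fun i => by simp]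
      infer_instance
    refine isIso_desc_of_iso e e₀ _ (fun i => Sigma.ι E i) (fun i => ?_) ‹_›
    show Q.map (g i) ≫ e₀.hom = _
    rw [hg i]; simp
  haveI h3 : IsIso φ.hom₃ := by
    let G := DCX42.resD j ⋙ DCoh.Rpush j
    haveI := isLeftAdjoint_resD j
    haveI := QCohPush72.hasCoproduct_D fun i => (DCX42.resD j).obj (E i)
    haveI := QCohPush72.hasCoproduct_D fun i => (DCoh.Rpush j).obj ((DCX42.resD j).obj (E i))
    haveI := QCohPush72.hasCoproduct_D fun i => G.obj (E i)
    haveI : PreservesColimit (Discrete.functor E) (DCX42.resD j) :=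
      inferInstance
    haveI : IsIso (Sigma.desc fun i => (DCoh.Rpush j).map (Sigma.ι (fun i => (DCX42.resD j).obj (E i)) i)) :=
      QCohPush72.isIso_comparison j _ fun i => DCX42.isQCohD_resD (hE i) j
    haveI : IsIso (Sigma.desc fun i => G.map (Sigma.ι E i)) := by
      have key : (Sigma.desc fun i => G.map (Sigma.ι E i)) =
          Sigma.desc (fun i => (DCoh.Rpush j).map (Sigma.ι (fun i => (DCX42.resD j).obj (E i)) i)) ≫
            (DCoh.Rpush j).map (sigmaComparison (DCX42.resD j) E) := Sigma.hom_ext _ _ fun i => by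
        rw [Sigma.ι_desc, ← Category.assoc, Sigma.ι_desc, ← Functor.map_comp, ι_comp_sigmaComparison]
        rfl
      rw [key]
      infer_instance
    haveI := isIso_openUnit j J hJ
    haveI := fun i => isIso_openUnit j (I i) (hI i)
    refine isIso_desc_of_iso (fun i => asIso ((openUnit j).app (I i)) ≪≫ G.mapIso (e i))
      (asIso ((openUnit j).app J) ≪≫ G.mapIso e₀) _ (fun i => G.map (Sigma.ι E i)) (fun i => ?_) ‹_›
    have h := (openUnit j).naturality (g i)
    show (openCx j ⋙ Q).map (g i) ≫ (openUnit j).app J ≫ G.map e₀.hom =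
      ((openUnit j).app (I i) ≫ G.map (e i).hom) ≫ G.map (Sigma.ι E i)
    rw [← Category.assoc, h]
    show ((openUnit j).app (I i) ≫ G.map (Q.map (g i))) ≫ _ = _
    rw [hg i]
    simp only [Category.assoc, ← Functor.map_comp, Iso.inv_hom_id, Category.comp_id]
  have h1 : IsIso φ.hom₁ := Pretriangulated.isIso₁_of_isIso₂₃ φ hS (triangleOfSES_distinguished _) h2 h3
  haveI := isIso_gammaUnit j J hJ
  haveI := fun i => isIso_gammaUnit j (I i) (hI i)
  let a : ∀ i, (gammaCx j ⋙ Q).obj (I i) ≅ (CxOX.RgammaZ j).obj (E i) := fun i =>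
    asIso ((gammaUnit j).app (I i)) ≪≫ (CxOX.RgammaZ j).mapIso (e i)
  let a₀ : (gammaCx j ⋙ Q).obj J ≅ (CxOX.RgammaZ j).obj (∐ E) :=
    asIso ((gammaUnit j).app J) ≪≫ (CxOX.RgammaZ j).mapIso e₀
  have h1' : IsIso (Sigma.desc fun i => (gammaCx j ⋙ Q).map (g i)) := h1
  refine isIso_desc_of_iso (fun i => (a i).symm) a₀.symm _ (fun i => (gammaCx j ⋙ Q).map (g i)) (fun i => ?_) h1'
  rw [Iso.symm_hom, Iso.symm_hom, Iso.comp_inv_eq, Category.assoc, Iso.eq_inv_comp]
  show ((gammaUnit j).app (I i) ≫ (CxOX.RgammaZ j).map (e i).hom) ≫ _ =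
    (gammaCx j ⋙ Q).map (g i) ≫ (gammaUnit j).app J ≫ (CxOX.RgammaZ j).map e₀.hom
  have h := (gammaUnit j).naturality (g i)
  rw [← Category.assoc ((gammaCx j ⋙ Q).map (g i)), h]
  show _ = ((gammaUnit j).app (I i) ≫ (CxOX.RgammaZ j).map (Q.map (g i))) ≫ _
  rw [hg i]
  simp only [Category.assoc, ← Functor.map_comp, Iso.inv_hom_id, Category.comp_id]

end Groth.Agent.RB70.RgammaCoprod
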