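import Groth.Agent.GSS45.SchemeSS
import Groth.Agent.SpSeq40.Pages
import Groth.Agent.QC70.CohOps
import Groth.Agent.QC70.Closure
import Groth.Agent.Coh69.ProperSupportCoh
import Groth.Agent.Coh69.RpushQCoh
import Groth.Agent.E4O.InfDescent

/-! Coherence of higher direct images along an open immersion followed by a proper morphism. -/

set_option autoImplicit false
set_option backward.isDefEq.respectTransparency.types false
set_option linter.style.haveILetI false
set_option maxHeartbeats 1000000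
set_option synthInstance.maxHeartbeats 200000

universe u

open CategoryTheory CategoryTheory.Limits AlgebraicGeometry Opposite TopologicalSpace ZeroObject

noncomputable section

namespace Groth.Agent.RB70

variable {S : Scheme.{u}} [IsLocallyNoetherian S]

/-- The middle homology of a complex of quasi-coherent modules is quasi-coherent, and coherent if the middle is. -/
theorem isQCoh_homology {c : ComplexShape (ℤ × ℤ)} (K : HomologicalComplex S.Modules c) (pq : ℤ × ℤ)
    (hK : ∀ pq, (K.X pq).IsQuasicoherent) :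
    (K.homology pq).IsQuasicoherent ∧ (Coh.IsCoh (K.X pq) → Coh.IsCoh (K.homology pq)) := by
  haveI := hK
  haveI hz : (K.cycles pq).IsQuasicoherent := by
    haveI := QC70.isQuasicoherent_kernel (K.d pq (c.next pq))
    let e₀ : kernel (K.d pq (c.next pq)) ≅ K.cycles pq :=
      IsLimit.conePointUniqueUpToIso (kernelIsKernel (K.d pq (c.next pq))) (K.cyclesIsKernel pq (c.next pq) rfl)
    exact QC70.isQuasicoherent_of_iso e₀ inferInstance
  haveI := QC70.isQuasicoherent_cokernel (K.toCycles (c.prev pq) pq)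
  let e : cokernel (K.toCycles (c.prev pq) pq) ≅ K.homology pq :=
    IsColimit.coconePointUniqueUpToIso (cokernelIsCokernel _) (K.homologyIsCokernel (c.prev pq) pq rfl)
  refine ⟨QC70.isQuasicoherent_of_iso e inferInstance, fun h => ?_⟩
  haveI := h.2
  haveI := QC70.isFiniteType_of_mono (K.iCycles pq)
  exact QC70.isCoh_of_iso e (QC70.isCoh_cokernel _ (hK _) ⟨hz, inferInstance⟩)

set_option backward.isDefEq.respectTransparency false in
/-- Sections of injective modules extend. -/
theorem restriction_surjective_injective {W : Scheme.{u}} (I : W.Modules) (hI : Injective I) {V V' : W.Opens}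
    (j : V' ⟶ V) : Function.Surjective (I.val.map j.op) :=
  haveI := hI
  SiteMod.restriction_surjective W.ringCatSheaf I j

variable {X : Scheme.{u}} (f : X ⟶ S) [IsProper f] (U : X.Opens) [HasInjectiveResolutions (U : Scheme.{u}).Modules]
  [HasInjectiveResolutions X.Modules]

theorem isCoh_rpush_open_comp (F : (U : Scheme.{u}).Modules) (n : ℕ)
    (hg : ∀ i : ℕ, i ≤ n → Coh.IsCoh ((Coh.Rpush U.ι i).obj F)) (i : ℕ) (hi : i ≤ n) :
    Coh.IsCoh ((Coh.Rpush (U.ι ≫ f) i).obj F) := by
  haveI : IsLocallyNoetherian X := LocallyOfFiniteType.isLocallyNoetherian f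
  let g := U.ι
  haveI : PreservesFiniteLimits (Scheme.Modules.pushforward f) :=
    haveI := (Scheme.Modules.pullbackPushforwardAdjunction f).isRightAdjoint
    inferInstance
  haveI : PreservesFiniteLimits (Scheme.Modules.pushforward g) :=
    haveI := (Scheme.Modules.pullbackPushforwardAdjunction g).isRightAdjoint
    inferInstance
  -- `F` is coherent
  have hF : Coh.IsCoh F := by
    let e : (Scheme.Modules.pullback g).obj ((Coh.Rpush g 0).obj F) ≅ F :=
      ((Scheme.Modules.restrictFunctorIsoPullback g).app _).symm ≪≫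
        (Scheme.Modules.restrictFunctor g).mapIso ((Scheme.Modules.pushforward g).rightDerivedZeroIsoSelf.app F) ≪≫
        asIso ((Scheme.Modules.restrictAdjunction g).counit.app F)
    exact QC70.isCoh_of_iso e (E4O.isCoh_pullback g _ (hg 0 (Nat.zero_le _)))
  haveI := hF.1
  haveI hqg : ∀ q, ((Coh.Rpush g q).obj F).IsQuasicoherent := fun q => Coh69.isQuasicoherent_rpush g F q
  let H : ℤ → S.Modules := fun m => if 0 ≤ m then (Coh.Rpush (g ≫ f) m.toNat).obj F else 0
  let E₂ : ℤ → ℤ → S.Modules := fun p q =>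
    if 0 ≤ p ∧ 0 ≤ q then (Coh.Rpush f p.toNat).obj ((Coh.Rpush g q.toNat).obj F) else 0
  have hneg : ∀ m : ℤ, m < 0 → IsZero (H m) := fun m hm => by
    simp only [H, if_neg (not_le.2 hm)]
    exact isZero_zero _
  have hEz : ∀ p q : ℤ, p < 0 ∨ q < 0 → IsZero (E₂ p q) := fun p q hpq => by
    simp only [E₂, if_neg (show ¬(0 ≤ p ∧ 0 ≤ q) by omega)]
    exact isZero_zero _
  obtain ⟨ss, a, hfin, -, hpage⟩ := GSS45.exists_spectralSequence_comp (Scheme.Modules.pushforward g)
    (Scheme.Modules.pushforward f) (fun I hI q hq => by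
      obtain ⟨k, rfl⟩ := Nat.exists_eq_succ_of_ne_zero hq.ne'
      haveI := hI
      exact GSS45.isZero_Rpush_of_isFlasque f _ (GSS45.isFlasque_toAb_of_surjective _ fun {V V'} j =>
        restriction_surjective_injective I hI ((TopologicalSpace.Opens.map g.base).map j)) k)
    F (H := H) (fun m => ⟨(GSS45.rightDerivedIsoOfIso (Scheme.Modules.pushforwardComp g f) m).app F ≪≫
      eqToIso (show (Coh.Rpush (g ≫ f) m).obj F = H m by simp [H])⟩) hneg (E₂ := E₂) (fun p q => ⟨eqToIso (by simp [E₂])⟩) hEz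
  -- all pages are quasi-coherent, and coherent in low rows
  have key : ∀ r (hr : (2 : ℤ) ≤ r), ∀ pq : ℤ × ℤ, ((ss.page r hr).X pq).IsQuasicoherent ∧
      (pq.2 ≤ n → Coh.IsCoh ((ss.page r hr).X pq)) := by
    intro r hr
    induction r, hr using Int.le_induction with
    | base =>
      rintro ⟨p, q⟩
      obtain ⟨e⟩ := hpage p q
      by_cases hpq : 0 ≤ p ∧ 0 ≤ q
      · have e' : (ss.page 2 le_rfl).X (p, q) ≅ (Coh.Rpush f p.toNat).obj ((Coh.Rpush g q.toNat).obj F) :=
          e ≪≫ eqToIso (by simp [E₂, hpq])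
        haveI := Coh69.isQuasicoherent_rpush f ((Coh.Rpush g q.toNat).obj F) p.toNat
        refine ⟨QC70.isQuasicoherent_of_iso e'.symm inferInstance, fun hq => QC70.isCoh_of_iso e'.symm ?_⟩
        have hq' : q.toNat ≤ n := by
          have : q ≤ (n : ℤ) := hq
          omega
        refine Coh69.isCoh_rpush_of_proper_support f _ (hg _ hq') ?_ _
        haveI := (hg _ hq').2
        exact ⟨QC70.isClosed_support _, inferInstance⟩
      · have hz : IsZero ((ss.page 2 le_rfl).X (p, q)) := (hEz p q (by omega)).of_iso e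
        exact ⟨QC70.isQuasicoherent_of_isZero hz, fun _ => QC70.isCoh_of_isZero hz⟩
    | succ r hr ih =>
      intro pq
      obtain ⟨h1, h2⟩ := isQCoh_homology (ss.page r hr) pq (fun pq => (ih pq).1)
      let e := ss.iso r (r + 1) pq rfl hr
      exact ⟨QC70.isQuasicoherent_of_iso e h1, fun hq => QC70.isCoh_of_iso e (h2 ((ih pq).2 hq))⟩
  -- the filtration
  have hquad : ∀ pq : ℤ × ℤ, pq.1 < 0 ∨ pq.2 < 0 → IsZero ((ss.page 2 le_rfl).X pq) := fun pq h => by
    obtain ⟨e⟩ := hpage pq.1 pq.2
    exact (hEz _ _ h).of_iso e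
  obtain ⟨htop, hbot⟩ := SpSeq40.fil_top_bot a (i : ℤ) 2 le_rfl (hfin _) hquad 0 ((0 : ℤ) + (i + 1 : ℕ)) le_rfl (by push_cast; omega)
  have := (SpSeq40.fil_sum (a.fil (i : ℤ)) (a.anti (i : ℤ)) (fun M : S.Modules => Coh.IsCoh M) (fun _ => (0 : ℕ))
    (fun M hM => ⟨QC70.isCoh_of_isZero hM, rfl⟩) (fun e h => ⟨QC70.isCoh_of_iso e h, rfl⟩)
    (fun T hT h1 h3 => ⟨QC70.isCoh_X₂ T hT h1 h3, rfl⟩) 0 (i + 1) htop hbot (fun p hp => by
      obtain ⟨e⟩ := SpSeq40.nonempty_gr_iso_rk a (i : ℤ) (0 + (p : ℤ))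
      exact QC70.isCoh_of_iso e ((key _ _ _).2 (show (i : ℤ) - (0 + (p : ℤ)) ≤ (n : ℤ) by omega)))).1
  exact QC70.isCoh_of_iso (eqToIso (show H (i : ℤ) = (Coh.Rpush (U.ι ≫ f) i).obj F by simp [H, g])) this

end Groth.Agent.RB70

end
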