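import Groth.Prelude.Def_CohB1
import Groth.Agent.Formal27.Affine
import Groth.Agent.Formal27.Pullback
import Groth.Agent.QCPull72.Closed
import Groth.Agent.An92.FSch.Basic
import Groth.Agent.MP99.Basic

/-! One step `X_k → X_{k+1}` of an adic system of schemes, and coherent modules along it. -/

set_option autoImplicit false
set_option backward.isDefEq.respectTransparency.types false
set_option linter.style.haveILetI false
set_option maxHeartbeats 1000000
set_option synthInstance.maxHeartbeats 200000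

universe u

open CategoryTheory CategoryTheory.Limits AlgebraicGeometry Opposite TopologicalSpace

noncomputable section

namespace Groth.Agent.RB70.Thick

open Formal27 QC70 QCPull72

variable {A : Type u} [CommRing A] (J : Ideal A)

theorem toGlobal_comp_specQuot {X : Scheme.{u}} (k : ℕ)
    (p : X ⟶ Spec (CommRingCat.of (A ⧸ J ^ (k + 1)))) (a : A) :
    Coh.toGlobal (p ≫ CohB1.specQuot J k) a = Coh.toGlobal p (Ideal.Quotient.mk (J ^ (k + 1)) a) := by
  have h := congr($(Scheme.ΓSpecIso_inv_naturality (CommRingCat.ofHom (Ideal.Quotient.mk (J ^ (k + 1))))) a)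
  show (p ≫ Spec.map _).appTop _ = p.appTop _
  rw [Scheme.Hom.comp_appTop]
  exact congrArg (p.appTop.hom ·) h.symm

/-- The structure of a scheme over `Spec A` on a scheme over `Spec (A/J^(k+1))`. -/
abbrev over {X : Scheme.{u}} (k : ℕ) (p : X ⟶ Spec (CommRingCat.of (A ⧸ J ^ (k + 1)))) :
    X.Over (Spec (CommRingCat.of A)) := ⟨p ≫ CohB1.specQuot J k⟩

section Level

variable {X : Scheme.{u}} [X.Over (Spec (CommRingCat.of A))] {k : ℕ}
  {p : X ⟶ Spec (CommRingCat.of (A ⧸ J ^ (k + 1)))}
  (hX : X ↘ Spec (CommRingCat.of A) = p ≫ CohB1.specQuot J k)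

variable {J}

include hX in
theorem gi_eq_zero (V : X.Opens) {a : A} (ha : a ∈ J ^ (k + 1)) : gi A X V a = 0 := by
  show (X.presheaf.map _).hom (Coh.toGlobal _ a) = 0
  rw [hX, toGlobal_comp_specQuot, Ideal.Quotient.eq_zero_iff_mem.mpr ha, map_zero]
  exact map_zero _

include hX in
theorem smulMod_eq_zero (M : X.Modules) {a : A} (ha : a ∈ J ^ (k + 1)) : Formal.smulMod A M a = 0 := by
  refine Scheme.Modules.hom_ext _ _ fun V => ?_
  ext m
  rw [smulMod_app, gi_eq_zero hX V ha, zero_smul]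
  rfl

end Level

variable (k : ℕ) {Z X : Scheme.{u}} {i : Z ⟶ X}
  {pZ : Z ⟶ Spec (CommRingCat.of (A ⧸ J ^ (k + 1)))} {pX : X ⟶ Spec (CommRingCat.of (A ⧸ J ^ (k + 2)))}
  (h : IsPullback i pZ pX (CohB1.specQuotTrans J k))

theorem isClosedImmersion_specQuotTrans : IsClosedImmersion (CohB1.specQuotTrans J k) :=
  IsClosedImmersion.spec_of_surjective _
    (Ideal.Quotient.factor_surjective (Ideal.pow_le_pow_right (I := J) (Nat.le_succ (k + 1))))

theorem surjective_specQuotTrans : Surjective (CohB1.specQuotTrans J k) := by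
  refine ⟨fun x => ?_⟩
  let f := Ideal.Quotient.factor (Ideal.pow_le_pow_right (I := J) (Nat.le_succ (k + 1)))
  have : x ∈ Set.range (PrimeSpectrum.comap f) := by
    rw [range_comap_of_surjective _ f (Ideal.Quotient.factor_surjective _)]
    intro c hc
    obtain ⟨a, rfl⟩ := Ideal.Quotient.mk_surjective c
    have ha : a ∈ J ^ (k + 1) := by
      rw [SetLike.mem_coe, RingHom.mem_ker] at hc
      exact Ideal.Quotient.eq_zero_iff_mem.mp ((Ideal.Quotient.factor_mk _ a).symm.trans hc)
    refine x.2.mem_of_pow_mem 2 ?_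
    have h2 : a ^ 2 ∈ J ^ (k + 2) := Ideal.pow_le_pow_right (show k + 2 ≤ (k + 1) * 2 by omega)
      (pow_mul J (k + 1) 2 ▸ Ideal.pow_mem_pow ha 2)
    rw [← map_pow, Ideal.Quotient.eq_zero_iff_mem.mpr h2]
    exact zero_mem _
  exact this

include h in
theorem isClosedImmersion_i : IsClosedImmersion i :=
  MorphismProperty.of_isPullback h.flip (isClosedImmersion_specQuotTrans J k)

include h in
theorem surjective_i : Surjective i :=
  MorphismProperty.of_isPullback h.flip (surjective_specQuotTrans J k)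

variable [Z.Over (Spec (CommRingCat.of A))] [X.Over (Spec (CommRingCat.of A))]
  (hZ : Z ↘ Spec (CommRingCat.of A) = pZ ≫ CohB1.specQuot J k)
  (hX : X ↘ Spec (CommRingCat.of A) = pX ≫ CohB1.specQuot J (k + 1))

variable {J k}

include h hZ hX in
theorem over_i : i ≫ (X ↘ Spec (CommRingCat.of A)) = Z ↘ Spec (CommRingCat.of A) := by
  rw [hX, hZ, ← Category.assoc, h.w, Category.assoc, CohB1.specQuotTrans_specQuot]

theorem app_gi {Z X : Scheme.{u}} [Z.Over (Spec (CommRingCat.of A))] [X.Over (Spec (CommRingCat.of A))]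
    {i : Z ⟶ X} (hf : i ≫ (X ↘ Spec (CommRingCat.of A)) = Z ↘ Spec (CommRingCat.of A))
    (V : X.Opens) (a : A) : i.app V (gi A X V a) = gi A Z (i ⁻¹ᵁ V) a := by
  show (i.app V).hom ((X.presheaf.map (homOfLE (le_top : V ≤ ⊤)).op).hom (Coh.toGlobal _ a)) =
    (Z.presheaf.map (homOfLE le_top).op).hom (Coh.toGlobal _ a)
  rw [← hf]
  simp only [Coh.toGlobal, RingHom.comp_apply, Scheme.Hom.comp_appTop, CommRingCat.hom_comp]
  exact congr($(i.naturality (homOfLE (le_top : V ≤ ⊤)).op) _)

include h hX in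
theorem ker_ideal_le [IsClosedImmersion i] (V : X.affineOpens) :
    i.ker.ideal V ≤ (J ^ (k + 1)).map (gi A X V.1) := by
  haveI := isClosedImmersion_specQuotTrans J k
  rw [An92.FSch.comap_ker_of_isPullback h, MP99.ideal_comap _ pX ⟨⊤, isAffineOpen_top _⟩ V le_top,
    Ideal.map_le_iff_le_comap]
  intro b hb
  obtain ⟨c, rfl⟩ : ∃ c, (Scheme.ΓSpecIso _).inv c = b :=
    ⟨_, congr($((Scheme.ΓSpecIso _).hom_inv_id) b)⟩
  obtain ⟨a, rfl⟩ := Ideal.Quotient.mk_surjective c
  rw [Scheme.Hom.ker_apply, RingHom.mem_ker] at hb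
  have hn := congr($(Scheme.ΓSpecIso_inv_naturality (CommRingCat.ofHom
    (Ideal.Quotient.factor (Ideal.pow_le_pow_right (I := J) (Nat.le_succ (k + 1)))))) (Ideal.Quotient.mk _ a))
  have ha : a ∈ J ^ (k + 1) := by
    refine Ideal.Quotient.eq_zero_iff_mem.mp ((Ideal.Quotient.factor_mk
      (Ideal.pow_le_pow_right (I := J) (Nat.le_succ (k + 1))) a).symm.trans ?_)
    exact (ConcreteCategory.bijective_of_isIso
      (Scheme.ΓSpecIso (CommRingCat.of (A ⧸ J ^ (k + 1)))).inv).1 ((hn.trans hb).trans (map_zero _).symm)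
  refine Ideal.mem_comap.mpr ?_
  convert Ideal.mem_map_of_mem (gi A X V.1) ha using 1
  show _ = (X.presheaf.map _).hom (Coh.toGlobal _ a)
  rw [hX, toGlobal_comp_specQuot]
  rfl

include h hZ hX in
theorem ker_ideal_eq [IsClosedImmersion i] (V : X.affineOpens) :
    i.ker.ideal V = (J ^ (k + 1)).map (gi A X V.1) := by
  refine le_antisymm (ker_ideal_le h hX V) (Ideal.map_le_iff_le_comap.mpr fun a ha => ?_)
  rw [Ideal.mem_comap, Scheme.Hom.ker_apply, RingHom.mem_ker]
  exact (app_gi (over_i h hZ hX) V.1 a).trans (gi_eq_zero hZ _ ha)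

include h hZ hX in
theorem isLocallyNoetherian_target [IsNoetherianRing A] [IsLocallyNoetherian Z] : IsLocallyNoetherian X := by
  haveI := isClosedImmersion_i J k h
  refine An92.FSch.isLocallyNoetherian_of_thickening i (N := 2) ?_ fun x => ?_
  · refine Scheme.IdealSheafData.ext (funext fun V => ?_)
    simp only [Scheme.IdealSheafData.ideal_pow, Pi.pow_apply, Scheme.IdealSheafData.ideal_bot, Pi.bot_apply]
    rw [ker_ideal_eq h hZ hX, ← Ideal.map_pow, ← pow_mul, eq_bot_iff, Ideal.map_le_iff_le_comap]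
    intro a ha
    rw [Ideal.mem_comap, gi_eq_zero hX _ (Ideal.pow_le_pow_right (show k + 2 ≤ (k + 1) * 2 by omega) ha)]
    exact zero_mem _
  · obtain ⟨_, ⟨U, hU, rfl⟩, hxU, -⟩ :=
      X.isBasis_affineOpens.exists_subset_of_mem_open (Set.mem_univ x) isOpen_univ
    refine ⟨⟨U, hU⟩, hxU, fun V _ => ?_⟩
    rw [ker_ideal_eq h hZ hX]
    exact Ideal.FG.map (IsNoetherian.noetherian _) _

variable {M : X.Modules} {N : Z.Modules} (ψ : (Scheme.Modules.pullback i).obj M ≅ N)

/-- `M → i_* N` for a module `M` restricting to `N`. -/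
def proj : M ⟶ (Scheme.Modules.pushforward i).obj N :=
  pullUnit i M ≫ (Scheme.Modules.pushforward i).map ψ.hom

variable [M.IsQuasicoherent] [IsClosedImmersion i]

theorem epi_proj : Epi (proj ψ) := by
  haveI := epi_pullUnit i M
  exact epi_comp _ _

theorem proj_app_surjective {V : X.Opens} (hV : IsAffineOpen V) : Function.Surjective ((proj ψ).app V) := by
  rw [proj, Scheme.Modules.Hom.comp_app]
  exact (ConcreteCategory.bijective_of_isIso
    (((Scheme.Modules.pushforward i).map ψ.hom).app V)).2.comp (pullUnit_app_surjective i M hV)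

include h hZ hX in
theorem smulMod_proj {a : A} (ha : a ∈ J ^ (k + 1)) : Formal.smulMod A M a ≫ proj ψ = 0 := by
  rw [← smulMod_comp, ← pushforward_map_smulMod i (over_i h hZ hX), smulMod_eq_zero hZ _ ha,
    Functor.map_zero, comp_zero]

include h hZ hX in
theorem proj_app_eq_zero_iff {V : X.Opens} (hV : IsAffineOpen V) (x : Γ(M, V)) :
    (proj ψ).app V x = 0 ↔ x ∈ IM M (J ^ (k + 1)) V := by
  constructor
  · intro hx
    have h0 : (pullUnit i M).app V x = 0 := by
      refine (ConcreteCategory.bijective_of_isIso (((Scheme.Modules.pushforward i).map ψ.hom).app V)).1 ?_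
      rw [map_zero]
      exact hx
    exact Submodule.smul_mono (ker_ideal_le h hX ⟨V, hV⟩) le_rfl (pullUnit_app_eq_zero i M (U := ⟨V, hV⟩) h0)
  · intro hx
    refine IM_induction (p := fun x => (proj ψ).app V x = 0) hx (fun a ha m => ?_) (map_zero _)
      fun x y hx hy => by rw [map_add, hx, hy, add_zero]
    exact congr(Scheme.Modules.Hom.app $(smulMod_proj h hZ hX ψ ha) V m)

include h hZ hX in
theorem kernel_ι_smulMod {a : A} (ha : a ∈ J) : kernel.ι (proj ψ) ≫ Formal.smulMod A M a = 0 := by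
  refine Scheme.Modules.hom_ext _ _ fun W => ?_
  ext x
  refine section_ext M _ 0 fun q hq => ?_
  obtain ⟨_, ⟨U, hU, rfl⟩, hqU, hUW⟩ := X.isBasis_affineOpens.exists_subset_of_mem_open hq W.2
  refine ⟨U, hUW, hqU, ?_⟩
  rw [res_zero]
  refine (app_res _ hUW _).symm.trans ?_
  show (Formal.smulMod A M a).app U ((kernel.ι (proj ψ)).app U (res _ hUW x)) = 0
  have hK : (kernel.ι (proj ψ)).app U (res _ hUW x) ∈ IM M (J ^ (k + 1)) U :=
    (proj_app_eq_zero_iff h hZ hX ψ hU _).mp (congr(Scheme.Modules.Hom.app $(kernel.condition (proj ψ)) U _))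
  refine IM_induction (p := fun y => (Formal.smulMod A M a).app U y = 0) hK (fun b hb m => ?_) (map_zero _)
    fun x y hx hy => by rw [map_add, hx, hy, add_zero]
  rw [smulMod_app, smul_smul, ← map_mul,
    gi_eq_zero hX U (pow_succ' J (k + 1) ▸ Ideal.mul_mem_mul ha hb), zero_smul]

include h hZ hX in
/-- Multiplication by an element of `J` factors through the reduction. -/
theorem exists_mulMap {a : A} (ha : a ∈ J) :
    ∃ m : (Scheme.Modules.pushforward i).obj N ⟶ M, proj ψ ≫ m = Formal.smulMod A M a := by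
  haveI := epi_proj ψ
  let S := ShortComplex.mk (kernel.ι (proj ψ)) (proj ψ) (kernel.condition _)
  haveI : Epi S.g := epi_proj ψ
  have hS : S.Exact := ShortComplex.exact_of_f_is_kernel S (kernelIsKernel _)
  exact ⟨hS.desc _ (kernel_ι_smulMod h hZ hX ψ ha), hS.g_desc _ _⟩

end Groth.Agent.RB70.Thick

end
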