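import Groth.Agent.RB70.ThickStep
import Groth.Agent.RB70.GrSys
import Groth.Agent.GSS45.ClosedHom
import Groth.Agent.QC70.ClosedHomInj
import Groth.Agent.Curves2.LinePair
import Groth.Agent.ZClos93.Flat
import Groth.Agent.S9514

/-! The graded system of an adic system of coherent modules on the closed fibre. -/

set_option autoImplicit false
set_option backward.isDefEq.respectTransparency.types false
set_option linter.style.haveILetI false
set_option maxHeartbeats 1000000
set_option synthInstance.maxHeartbeats 200000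

universe u

open CategoryTheory CategoryTheory.Limits AlgebraicGeometry Opposite TopologicalSpace

noncomputable section

namespace Groth.Agent.RB70.Thick

open Formal27 QC70 QCPull72

variable {A : Type u} [CommRing A] {J : Ideal A} {Xs : ℕ → Scheme.{u}}
  {p : (k : ℕ) → (Xs k ⟶ Spec (CommRingCat.of (A ⧸ J ^ (k + 1))))}
  {i : (k : ℕ) → (Xs k ⟶ Xs (k + 1))}

variable (i) in
/-- The closed fibre inside the `k`-th level. -/
def lev : (k : ℕ) → (Xs 0 ⟶ Xs k)
  | 0 => 𝟙 _
  | k + 1 => lev k ≫ i k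

variable (hcart : ∀ k, IsPullback (i k) (p k) (p (k + 1)) (CohB1.specQuotTrans J k))

include hcart in
theorem isClosedImmersion_lev : ∀ k, IsClosedImmersion (lev i k)
  | 0 => inferInstanceAs (IsClosedImmersion (𝟙 _))
  | k + 1 =>
    haveI := isClosedImmersion_lev k
    haveI := isClosedImmersion_i J k (hcart k)
    inferInstanceAs (IsClosedImmersion (lev i k ≫ i k))

include hcart in
theorem surjective_lev : ∀ k, Surjective (lev i k)
  | 0 => inferInstanceAs (Surjective (𝟙 _))
  | k + 1 =>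
    haveI := surjective_lev k
    haveI := surjective_i J k (hcart k)
    inferInstanceAs (Surjective (lev i k ≫ i k))

variable [∀ k, (Xs k).Over (Spec (CommRingCat.of A))]
  (hover : ∀ k, Xs k ↘ Spec (CommRingCat.of A) = p k ≫ CohB1.specQuot J k)

include hcart hover in
theorem over_lev : ∀ k, lev i k ≫ (Xs k ↘ Spec (CommRingCat.of A)) = Xs 0 ↘ Spec (CommRingCat.of A)
  | 0 => Category.id_comp _
  | k + 1 => by
    rw [show lev i (k + 1) = lev i k ≫ i k from rfl, Category.assoc,
      over_i (hcart k) (hover k) (hover (k + 1))]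
    exact over_lev k

include hcart hover in
theorem isLocallyNoetherian_level [IsNoetherianRing A] [IsLocallyNoetherian (Xs 0)] :
    ∀ k, IsLocallyNoetherian (Xs k)
  | 0 => inferInstance
  | k + 1 =>
    haveI := isLocallyNoetherian_level k
    isLocallyNoetherian_target (hcart k) (hover k) (hover (k + 1))

include hcart hover in
theorem ker_lev_le : ∀ (k : ℕ) [IsClosedImmersion (lev i k)] (V : (Xs k).affineOpens),
    (lev i k).ker.ideal V ≤ J.map (gi A (Xs k) V.1) := by
  intro k
  induction k with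
  | zero =>
    intro _ V b hb
    rw [Scheme.Hom.ker_apply, RingHom.mem_ker] at hb
    rw [show b = 0 from hb]
    exact zero_mem _
  | succ k ih =>
    intro _ V b hb
    haveI := isClosedImmersion_lev hcart k
    haveI := isClosedImmersion_i J k (hcart k)
    rw [Scheme.Hom.ker_apply, RingHom.mem_ker] at hb
    let V' : (Xs k).affineOpens := ⟨i k ⁻¹ᵁ V.1, V.2.preimage (i k)⟩
    have h1 : (i k).app V.1 b ∈ (lev i k).ker.ideal V' := by
      rw [Scheme.Hom.ker_apply, RingHom.mem_ker]
      exact hb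
    have hcomp : ((i k).app V.1).hom.comp (gi A (Xs (k + 1)) V.1) = gi A (Xs k) V'.1 :=
      RingHom.ext fun a => app_gi (over_i (hcart k) (hover k) (hover (k + 1))) V.1 a
    have h2 := ih V' h1
    rw [← hcomp, ← Ideal.map_map] at h2
    have h3 := Ideal.mem_comap.mpr h2
    rw [Ideal.comap_map_of_surjective _ ((i k).app_surjective V.1 V.2), ← RingHom.ker_eq_comap_bot] at h3
    have hle := (ker_ideal_le (hcart k) (hover (k + 1)) V).trans
      (Ideal.map_mono ((Ideal.pow_le_pow_right (show 1 ≤ k + 1 by omega)).trans (pow_one J).le))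
    rw [Scheme.Hom.ker_apply] at hle
    exact SetLike.le_def.mp (sup_le le_rfl hle) h3

variable {F : (k : ℕ) → (Xs k).Modules}
  (ψ : ∀ k, (Scheme.Modules.pullback (i k)).obj (F (k + 1)) ≅ F k)

include hcart hover in
/-- The kernel of one step lives on the closed fibre. -/
theorem exists_kernel_level [IsNoetherianRing A] [IsLocallyNoetherian (Xs 0)] (hF : ∀ k, Coh.IsCoh (F k))
    (k : ℕ) : ∃ (G : (Xs 0).Modules) (ι : (Scheme.Modules.pushforward (lev i (k + 1))).obj G ⟶ F (k + 1))
      (w : ι ≫ proj (ψ k) = 0), Coh.IsCoh G ∧ Nonempty (IsLimit (KernelFork.ofι ι w)) := by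
  haveI : IsClosedImmersion (lev i (k + 1)) := isClosedImmersion_lev hcart (k + 1)
  haveI := isClosedImmersion_i J k (hcart k)
  haveI := isLocallyNoetherian_level hcart hover (k + 1)
  haveI := (hF (k + 1)).1
  let K := kernel (proj (ψ k))
  have hk : GSS45.Descend.IsKilled (lev i (k + 1)) K := by
    intro V b hb s
    refine Submodule.span_induction (p := fun c _ => c • s = 0) ?_ (zero_smul _ s)
      (fun x y _ _ hx hy => by rw [add_smul, hx, hy, add_zero])
      (fun c x _ hx => by rw [smul_eq_mul, mul_smul, hx, smul_zero])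
      (ker_lev_le hcart hover (k + 1) V hb)
    rintro _ ⟨a, ha, rfl⟩
    have h0 : Formal.smulMod A K a = 0 := by
      rw [← cancel_mono (kernel.ι (proj (ψ k))), ← smulMod_comp,
        kernel_ι_smulMod (hcart k) (hover k) (hover (k + 1)) (ψ k) ha, zero_comp]
    exact congr(Scheme.Modules.Hom.app $h0 V.1 s)
  have hK : Coh.IsCoh K := by
    haveI := (hF k).1
    exact (S9514.result (Xs (k + 1)) (hF (k + 1)) (QC70.isCoh_pushforward (i k) (F k) (hF k)) _).1
  let e := GSS45.ClosedHom.pullPushIso (lev i (k + 1)) hk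
  refine ⟨_, e.hom ≫ kernel.ι (proj (ψ k)), by simp, ZClos93.isCoh_pullback _ K hK, ⟨?_⟩⟩
  exact (kernelIsKernel (proj (ψ k))).ofIsoLimit (Fork.ext e.symm (by simp [Fork.ι]))

include hcart hover in
/-- The kernels form a finitely generated commuting system on the closed fibre. -/
theorem exists_system [IsNoetherianRing A] [IsLocallyNoetherian (Xs 0)] (hF : ∀ k, Coh.IsCoh (F k)) :
    ∃ (G : ℕ → (Xs 0).Modules) (r : ℕ) (T : Fin r → ∀ k, G k ⟶ G (k + 1)),
      (∀ k, Coh.IsCoh (G k)) ∧ G 0 = F 0 ∧ (∀ a b k, T a k ≫ T b (k + 1) = T b k ≫ T a (k + 1)) ∧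
      (∀ {κ : Type u} (U : κ → (Xs 0).affineOpens) (k : ℕ), GenAt U fun j => T j k) ∧
      ∀ k, ∃ (ι : (Scheme.Modules.pushforward (lev i (k + 1))).obj (G (k + 1)) ⟶ F (k + 1))
        (w : ι ≫ proj (ψ k) = 0), (ShortComplex.mk ι (proj (ψ k)) w).ShortExact := by
  classical
  haveI hci := isClosedImmersion_lev hcart
  haveI := surjective_lev hcart
  haveI := fun k => isLocallyNoetherian_level hcart hover k
  haveI := fun k => isClosedImmersion_i J k (hcart k)
  haveI : ∀ k, (F k).IsQuasicoherent := fun k => (hF k).1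
  haveI hfull := fun k => GSS45.ClosedHom.full_pushforward (lev i k)
  haveI hfaith := fun k => QC70.faithful_pushforward (lev i k)
  choose G' ι' w' hG' hlim' using exists_kernel_level hcart hover ψ hF
  let G : ℕ → (Xs 0).Modules := fun k => match k with
    | 0 => F 0
    | k + 1 => G' k
  let ι : ∀ k, (Scheme.Modules.pushforward (lev i k)).obj (G k) ⟶ F k := fun k => match k with
    | 0 => (Scheme.Modules.pushforwardId _).hom.app (F 0)
    | k + 1 => ι' k
  haveI hmono : ∀ k, Mono (ι k) := fun k => match k with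
    | 0 => inferInstanceAs (Mono ((Scheme.Modules.pushforwardId _).hom.app (F 0)))
    | k + 1 => mono_of_isLimit_fork (hlim' k).some
  have hlift : ∀ (k : ℕ) {P : (Xs (k + 1)).Modules} (g : P ⟶ F (k + 1)),
      g ≫ proj (ψ k) = 0 → ∃ l, l ≫ ι (k + 1) = g := fun k P g hg =>
    ⟨(hlim' k).some.lift (KernelFork.ofι g hg), Fork.IsLimit.lift_ι (hlim' k).some⟩
  have hsurj : ∀ (k : ℕ) (V : (Xs k).Opens), IsAffineOpen V → ∀ y ∈ IM (F k) (J ^ k) V,
      ∃ c, (ι k).app V c = y := by
    intro k V hV y hy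
    cases k with
    | zero =>
      exact (ConcreteCategory.bijective_of_isIso
        (((Scheme.Modules.pushforwardId (Xs 0)).hom.app (F 0)).app V)).2 y
    | succ k =>
      haveI : Mono (ShortComplex.mk (ι' k) (proj (ψ k)) (w' k)).f := hmono (k + 1)
      exact exists_app_eq_of_exact _ (ShortComplex.exact_of_f_is_kernel
        (ShortComplex.mk (ι' k) (proj (ψ k)) (w' k)) (hlim' k).some) V y
        ((proj_app_eq_zero_iff (hcart k) (hover k) (hover (k + 1)) (ψ k) hV y).mpr hy)
  have hrange : ∀ (k : ℕ) (V : (Xs (k + 1)).Opens), IsAffineOpen V → ∀ c,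
      (ι (k + 1)).app V c ∈ IM (F (k + 1)) (J ^ (k + 1)) V := fun k V hV c =>
    (proj_app_eq_zero_iff (hcart k) (hover k) (hover (k + 1)) (ψ k) hV _).mp
      (congr(Scheme.Modules.Hom.app $(w' k) V c))
  choose m hm using fun (k : ℕ) (a : J) =>
    exists_mulMap (hcart k) (hover k) (hover (k + 1)) (ψ k) a.2
  have hmproj : ∀ k a, m k a ≫ proj (ψ k) = Formal.smulMod A _ (a : A) := fun k a => by
    haveI := epi_proj (ψ k) (i := i k)
    rw [← cancel_epi (proj (ψ k)), ← Category.assoc, hm, ← smulMod_comp]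
  -- the transition map on the closed fibre
  have hT : ∀ (k : ℕ) (a : J), ∃ t : G k ⟶ G (k + 1),
      (Scheme.Modules.pushforward (lev i (k + 1))).map t ≫ ι (k + 1) =
        (Scheme.Modules.pushforwardComp (lev i k) (i k)).inv.app (G k) ≫
          (Scheme.Modules.pushforward (i k)).map (ι k) ≫ m k a := by
    intro k a
    have h0 : Formal.smulMod A ((Scheme.Modules.pushforward (lev i k)).obj (G k)) (a : A) = 0 := by
      rw [← pushforward_map_smulMod (lev i k) (over_lev hcart hover k),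
        smulMod_eq_zero (hover 0) _ (by rw [pow_one]; exact a.2), Functor.map_zero]
    obtain ⟨l, hl⟩ := hlift k ((Scheme.Modules.pushforwardComp (lev i k) (i k)).inv.app (G k) ≫
      (Scheme.Modules.pushforward (i k)).map (ι k) ≫ m k a) (by
        rw [Category.assoc, Category.assoc, hmproj,
          ← pushforward_map_smulMod (i k) (over_i (hcart k) (hover k) (hover (k + 1))), ← Functor.map_comp,
          smulMod_comp, h0, zero_comp, Functor.map_zero, comp_zero])
    exact ⟨(Scheme.Modules.pushforward (lev i (k + 1))).preimage l, by rw [Functor.map_preimage]; exact hl⟩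
  choose t ht using hT
  obtain ⟨r, g, hg⟩ := Submodule.fg_iff_exists_fin_generating_family.mp (IsNoetherian.noetherian J)
  have hgJ : ∀ j, g j ∈ J := fun j => hg ▸ Submodule.subset_span ⟨j, rfl⟩
  refine ⟨G, r, fun j k => t k ⟨g j, hgJ j⟩, ?_, rfl, ?_, ?_, ?_⟩
  · exact fun k => match k with
      | 0 => hF 0
      | k + 1 => hG' k
  · intro a b k
    haveI := hfaith (k + 1 + 1)
    haveI := hmono (k + 1 + 1)
    refine (Scheme.Modules.pushforward (lev i (k + 1 + 1))).map_injective ?_
    rw [← cancel_mono (ι (k + 1 + 1))]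
    haveI := GSS45.ClosedHom.preservesEpimorphisms_pushforward (i (k + 1))
    have hprod : ∀ a b : J, proj (ψ (k + 1)) ≫ (Scheme.Modules.pushforward (i (k + 1))).map (proj (ψ k)) ≫
        (Scheme.Modules.pushforward (i (k + 1))).map (m k a) ≫ m (k + 1) b =
        Formal.smulMod A (F (k + 1 + 1)) ((b : A) * (a : A)) := by
      intro a b
      rw [← Functor.map_comp_assoc, hm k a,
        pushforward_map_smulMod _ (over_i (hcart (k + 1)) (hover (k + 1)) (hover (k + 1 + 1))),
        ← Category.assoc, smulMod_comp, Category.assoc, hm (k + 1) b, smulMod_mul]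
    have two : ∀ a b : J, (Scheme.Modules.pushforward (i (k + 1))).map (m k a) ≫ m (k + 1) b =
        (Scheme.Modules.pushforward (i (k + 1))).map (m k b) ≫ m (k + 1) a := by
      intro a b
      haveI := epi_proj (ψ (k + 1)) (i := i (k + 1))
      haveI := epi_proj (ψ k) (i := i k)
      rw [← cancel_epi (proj (ψ (k + 1)) ≫ (Scheme.Modules.pushforward (i (k + 1))).map (proj (ψ k))),
        Category.assoc, Category.assoc, hprod, hprod, mul_comm]
    have key : ∀ (a b : J) (V : (Xs (k + 1 + 1)).Opens) (s : Γ(G k, lev i (k + 1 + 1) ⁻¹ᵁ V)),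
        (ι (k + 1 + 1)).app V ((t k a ≫ t (k + 1) b).app (lev i (k + 1 + 1) ⁻¹ᵁ V) s) =
          (m (k + 1) b).app V ((m k a).app (i (k + 1) ⁻¹ᵁ V) ((ι k).app (i k ⁻¹ᵁ (i (k + 1) ⁻¹ᵁ V)) s)) := by
      intro a b V s
      refine (congr(Scheme.Modules.Hom.app $(ht (k + 1) b) V
        ((t k a).app (lev i (k + 1 + 1) ⁻¹ᵁ V) s))).trans ?_
      exact congrArg (fun z => (m (k + 1) b).app V z)
        (congr(Scheme.Modules.Hom.app $(ht k a) (i (k + 1) ⁻¹ᵁ V) s))
    refine Scheme.Modules.hom_ext _ _ fun V => ?_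
    ext s
    refine (key _ _ V s).trans (Eq.trans ?_ (key _ _ V s).symm)
    exact congr(Scheme.Modules.Hom.app $(two _ _) V ((ι k).app (i k ⁻¹ᵁ (i (k + 1) ⁻¹ᵁ V)) s))
  · intro κ U k s
    obtain ⟨V, hV⟩ := Curves2.exists_preimage_eq (lev i (k + 1)) (U s).1
    suffices hW : ∀ W : (Xs 0).Opens, lev i (k + 1) ⁻¹ᵁ V = W → IsAffineOpen W →
        (⨆ j, LinearMap.range (E4O.Sep.appL (t k ⟨g j, hgJ j⟩) W)) = ⊤ from hW _ hV (U s).2
    rintro W rfl hWaff
    have hVaff := Curves2.isAffineOpen_of_preimage (lev i (k + 1)) V hWaff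
    refine eq_top_iff.mpr fun c _ => ?_
    let S := ⨆ j, LinearMap.range (E4O.Sep.appL (t k ⟨g j, hgJ j⟩) (lev i (k + 1) ⁻¹ᵁ V))
    let e : Γ(G (k + 1), lev i (k + 1) ⁻¹ᵁ V) → Γ(F (k + 1), V) := fun c => (ι (k + 1)).app V c
    have hadd : ∀ x y, e (x + y) = e x + e y := fun x y => map_add ((ι (k + 1)).app V).hom x y
    suffices h : ∀ y ∈ IM (F (k + 1)) (J ^ (k + 1)) V, ∃ c' ∈ S, e c' = y by
      obtain ⟨c', hc', hcc⟩ := h _ (hrange k V hVaff c)
      haveI := hmono (k + 1)
      rwa [app_injective_of_mono (ι (k + 1)) V hcc] at hc'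
    intro y hy
    have hprod : ∀ a₁ ∈ J, ∀ a₂ ∈ J ^ k, ∀ x : Γ(F (k + 1), V),
        ∃ c' ∈ S, e c' = gi A (Xs (k + 1)) V (a₁ * a₂) • x := by
      intro a₁ ha₁
      rw [← hg] at ha₁
      induction ha₁ using Submodule.span_induction with
      | mem a ha =>
        obtain ⟨j, rfl⟩ := ha
        intro a₂ ha₂ x
        let V' : (Xs k).Opens := i k ⁻¹ᵁ V
        let z := gi A (Xs (k + 1)) V a₂ • x
        have hz : (show Γ(F k, V') from (proj (ψ k)).app V z) ∈ IM (F k) (J ^ k) V' := by
          rw [show (show Γ(F k, V') from (proj (ψ k)).app V z) =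
            gi A (Xs k) V' a₂ • (show Γ(F k, V') from (proj (ψ k)).app V x) from ?_]
          · exact smul_mem_IM ha₂ _
          · refine (Scheme.Modules.Hom.app_smul _ _ _).trans ((QCqs72.pushforward_smul (F k) (i k) _ _).trans ?_)
            exact congrArg (fun r : Γ(Xs k, V') => r • (show Γ(F k, V') from (proj (ψ k)).app V x))
              (app_gi (over_i (hcart k) (hover k) (hover (k + 1))) V a₂)
        obtain ⟨u, hu⟩ := hsurj k V' (hVaff.preimage (i k)) _ hz
        refine ⟨(t k ⟨g j, hgJ j⟩).app _ u, Submodule.mem_iSup_of_mem j ⟨u, rfl⟩, ?_⟩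
        refine (congr(Scheme.Modules.Hom.app $(ht k ⟨g j, hgJ j⟩) V u)).trans ?_
        show (m k ⟨g j, hgJ j⟩).app V ((ι k).app V' u) = _
        rw [hu, map_mul, mul_smul]
        exact congr(Scheme.Modules.Hom.app $(hm k ⟨g j, hgJ j⟩) V z)
      | zero =>
        intro a₂ _ x
        exact ⟨0, zero_mem _, by rw [zero_mul, map_zero, zero_smul]; exact map_zero ((ι (k + 1)).app V).hom⟩
      | add a b _ _ ha hb =>
        intro a₂ ha₂ x
        obtain ⟨c₁, h₁, e₁⟩ := ha a₂ ha₂ x
        obtain ⟨c₂, h₂, e₂⟩ := hb a₂ ha₂ x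
        exact ⟨c₁ + c₂, add_mem h₁ h₂, by rw [hadd, e₁, e₂, add_mul, map_add, add_smul]⟩
      | smul c a _ ha =>
        intro a₂ ha₂ x
        rw [smul_eq_mul, mul_comm c a, mul_assoc]
        exact ha _ (Ideal.mul_mem_left _ c ha₂) x
    refine IM_induction (p := fun y => ∃ c' ∈ S, e c' = y) hy (fun a ha x => ?_)
      ⟨0, zero_mem _, map_zero ((ι (k + 1)).app V).hom⟩ ?_
    · rw [pow_succ'] at ha
      refine Submodule.mul_induction_on ha (fun a₁ h₁ a₂ h₂ => hprod a₁ h₁ a₂ h₂ x) ?_
      rintro a b ⟨c₁, h₁, e₁⟩ ⟨c₂, h₂, e₂⟩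
      exact ⟨c₁ + c₂, add_mem h₁ h₂, by rw [hadd, e₁, e₂, map_add, add_smul]⟩
    · rintro x y ⟨c₁, h₁, e₁⟩ ⟨c₂, h₂, e₂⟩
      exact ⟨c₁ + c₂, add_mem h₁ h₂, by rw [hadd, e₁, e₂]⟩
  · intro k
    haveI : Mono (ShortComplex.mk (ι' k) (proj (ψ k)) (w' k)).f := hmono (k + 1)
    haveI : Epi (ShortComplex.mk (ι' k) (proj (ψ k)) (w' k)).g := epi_proj (ψ k)
    have hx : (ShortComplex.mk (ι' k) (proj (ψ k)) (w' k)).Exact :=
      ShortComplex.exact_of_f_is_kernel _ (hlim' k).some
    exact ⟨ι' k, w' k, { exact := hx }⟩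

end Groth.Agent.RB70.Thick

end
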