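import Groth.Agent.Stein58.ProperModelBasic
import Groth.Agent.Stein58.PushforwardStructure
import Groth.Agent.Stein58.FibreBound
import Groth.Agent.FBase64.ProperNhd.Dvr
import Groth.Agent.E4O.DvrDom
import Groth.Agent.S7803
import Groth.Prelude.Def_ega3

/-! Geometrically connected fibres of universally open proper morphisms with radicially closed function fields. -/

set_option autoImplicit false
set_option synthInstance.maxHeartbeats 200000
set_option maxHeartbeats 1000000
set_option linter.style.haveILetI false
set_option backward.isDefEq.respectTransparency.types false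

noncomputable section

universe u

open CategoryTheory Limits AlgebraicGeometry TopologicalSpace
open Groth.Agent.Stein58 (coord coord_comp coord_ne_zero_iff SpecMap_coord preimage_eq_top_of_mem)

namespace Groth.Agent.RB70

variable {X Y : Scheme.{u}}

/-- Geometric connectedness passes through a surjective first factor. -/
theorem geometricallyConnected_of_comp_surjective {X' : Scheme.{u}} (a : X' ⟶ X) (f : X ⟶ Y) [Surjective a]
    [GeometricallyConnected (a ≫ f)] : GeometricallyConnected f := by
  refine ⟨geometrically_iff_of_isClosedUnderIsomorphisms.mpr fun K _ y => ?_⟩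
  let r : pullback (a ≫ f) y ⟶ pullback f y := pullback.map _ y f y a (𝟙 _) (𝟙 _) (by simp) (by simp)
  haveI : Surjective r := MorphismProperty.of_isPullback (Stein58.isPullback_map_fst y a rfl).flip ‹Surjective a›
  haveI : ConnectedSpace ↥(pullback (a ≫ f) y) :=
    GeometricallyConnected.geometrically_connectedSpace (f := a ≫ f) _ _ _ (IsPullback.of_hasPullback _ y)
  exact r.surjective.connectedSpace r.continuous

/-- A surjective closed immersion in front does not affect geometric connectedness. -/
theorem geometricallyConnected_comp_closedImmersion {X' : Scheme.{u}} (a : X' ⟶ X) (f : X ⟶ Y) [Surjective a]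
    [IsClosedImmersion a] [GeometricallyConnected f] : GeometricallyConnected (a ≫ f) := by
  refine ⟨geometrically_iff_of_isClosedUnderIsomorphisms.mpr fun K _ y => ?_⟩
  let r : pullback (a ≫ f) y ⟶ pullback f y := pullback.map _ y f y a (𝟙 _) (𝟙 _) (by simp) (by simp)
  have hr := (Stein58.isPullback_map_fst y a (rfl : a ≫ f = a ≫ f)).flip
  haveI : Surjective r := MorphismProperty.of_isPullback hr ‹Surjective a›
  haveI : IsClosedImmersion r := MorphismProperty.of_isPullback hr ‹IsClosedImmersion a›
  haveI : ConnectedSpace ↥(pullback f y) :=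
    GeometricallyConnected.geometrically_connectedSpace (f := f) _ _ _ (IsPullback.of_hasPullback _ y)
  let e := r.isEmbedding.toHomeomorphOfSurjective r.surjective
  exact e.symm.surjective.connectedSpace e.symm.continuous

/-- Geometric connectedness after any base change. -/
theorem geometricallyConnected_snd_comp (f : X ⟶ Y) {S T : Scheme.{u}} (t : S ⟶ Y) (m : T ⟶ S)
    (h : GeometricallyConnected (pullback.snd f t)) : GeometricallyConnected (pullback.snd f (m ≫ t)) := by
  haveI := h
  haveI : GeometricallyConnected (pullback.snd (pullback.snd f t) m) := inferInstance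
  rw [← pullbackLeftPullbackSndIso_inv_snd_snd f t m]
  exact (MorphismProperty.cancel_left_of_respectsIso @GeometricallyConnected _ _).2 inferInstance

/-- Geometric connectedness of a fibre may be tested after one extension of the residue field. -/
theorem geometricallyConnected_fibre_of_point (f : X ⟶ Y) {k : Type u} [Field k]
    (t : Spec (CommRingCat.of k) ⟶ Y) {s : Y} (hs : t (IsLocalRing.closedPoint k) = s)
    (h : GeometricallyConnected (pullback.snd f t)) : GeometricallyConnected (f.fiberToSpecResidueField s) := by
  obtain ⟨⟨x, φ⟩, rfl⟩ := (Scheme.SpecToEquivOfField k Y).symm.surjective t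
  have hx : x = s := by
    have h2 := congrArg Sigma.fst ((Scheme.SpecToEquivOfField k Y).apply_symm_apply ⟨x, φ⟩)
    exact h2.symm.trans hs
  subst hx
  refine ⟨geometrically_iff_of_isClosedUnderIsomorphisms.mpr fun K _ y => ?_⟩
  let v : Spec (CommRingCat.of k) ⟶ Spec (Y.residueField x) := Spec.map φ
  let j := Y.fromSpecResidueField x
  obtain ⟨p, -, -⟩ := Scheme.Pullback.exists_preimage_pullback (f := v) (g := y) (IsLocalRing.closedPoint k)
    (IsLocalRing.closedPoint K) (Subsingleton.elim _ _)
  let Z := pullback v y
  let L := Z.residueField p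
  let l : Spec (CommRingCat.of L) ⟶ Z := Z.fromSpecResidueField p
  let a := l ≫ pullback.fst v y
  let b := l ≫ pullback.snd v y
  haveI hL : ConnectedSpace ↥(pullback (pullback.snd f (v ≫ j)) a) :=
    GeometricallyConnected.geometrically_connectedSpace (f := pullback.snd f (v ≫ j)) (self := h) _ _ _
      (IsPullback.of_hasPullback _ a)
  let e : pullback (pullback.snd f (v ≫ j)) a ≅ pullback (pullback.snd (f.fiberToSpecResidueField x) y) b :=
    pullbackLeftPullbackSndIso f (v ≫ j) a ≪≫
      pullback.congrHom rfl (show a ≫ v ≫ j = (b ≫ y) ≫ j by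
        simp only [a, b, Category.assoc, pullback.condition_assoc]) ≪≫
      (pullbackLeftPullbackSndIso f j (b ≫ y)).symm ≪≫
      (pullbackLeftPullbackSndIso (f.fiberToSpecResidueField x) y b).symm
  haveI : ConnectedSpace ↥(pullback (pullback.snd (f.fiberToSpecResidueField x) y) b) :=
    e.hom.homeomorph.connectedSpace_iff.1 hL
  haveI : Surjective b := ⟨fun z => ⟨IsLocalRing.closedPoint L, Subsingleton.elim _ _⟩⟩
  haveI : Surjective (pullback.fst (pullback.snd (f.fiberToSpecResidueField x) y) b) :=
    MorphismProperty.pullback_fst _ _ inferInstance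
  exact (pullback.fst (pullback.snd (f.fiberToSpecResidueField x) y) b).surjective.connectedSpace
    (Scheme.Hom.continuous _)

/-- Coordinates of the composite of a point with a morphism. -/
theorem coord_app {W W' : Scheme.{u}} {R : Type u} [CommRing R] (w : Spec (CommRingCat.of R) ⟶ W) (k : W ⟶ W')
    {t : Spec (CommRingCat.of R) ⟶ W'} (e : w ≫ k = t) {U : W'.Opens} (h : w ⁻¹ᵁ (k ⁻¹ᵁ U) = ⊤)
    (h' : t ⁻¹ᵁ U = ⊤) (a : Γ(W', U)) : coord w h (k.app U a) = coord t h' a := by
  subst e
  rw [k.app_eq_appLE]
  exact (coord_comp w k le_rfl h a).symm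

variable [IsIntegral X] [IsIntegral Y]

/-- The generic fibre is geometrically connected when the algebraic closure of the function field of the base
is radicial. -/
theorem geometricallyConnected_generic_of_radicial (f : X ⟶ Y) [IsProper f]
    (hdom : f.base (genericPoint X) ⤳ genericPoint Y)
    (hrad : ∀ x : X.functionField,
      (∃ q : Polynomial Y.functionField, q ≠ 0 ∧
        Polynomial.eval₂ (CohIII.stalkToFunctionField f (genericPoint Y) hdom) x q = 0) →
      ∃ e : ℕ, x ^ (ringExpChar X.functionField ^ e) ∈
        Set.range (CohIII.stalkToFunctionField f (genericPoint Y) hdom)) :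
    GeometricallyConnected (f.fiberToSpecResidueField (genericPoint Y)) := by
  classical
  haveI := Stein58.geometricallyConnected_toNormalization f
  haveI : IsDominant f := ⟨fun z => ((specializes_iff_mem_closure.1
    (hdom.trans ((genericPoint_spec Y).specializes trivial)))) |> closure_mono (by
      rintro _ rfl; exact ⟨_, rfl⟩)⟩
  haveI : Surjective f := ⟨fun s => by
    have h := f.denseRange.closure_range
    rw [f.isClosedMap.isClosed_range.closure_eq] at h
    exact h.ge trivial⟩
  haveI : Surjective (f.toNormalization ≫ f.fromNormalization) := by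
    rw [Scheme.Hom.toNormalization_fromNormalization]; infer_instance
  haveI : Surjective f.fromNormalization := Surjective.of_comp f.toNormalization _
  let g := Y.fromSpecResidueField (genericPoint Y)
  let r : pullback f g ⟶ pullback f.fromNormalization g :=
    pullback.map f g f.fromNormalization g f.toNormalization (𝟙 _) (𝟙 _) (by simp) (by simp)
  have hr : IsPullback r (pullback.fst f g) (pullback.fst f.fromNormalization g) f.toNormalization :=
    Stein58.isPullback_map_fst g _ f.toNormalization_fromNormalization
  haveI : GeometricallyConnected r := MorphismProperty.of_isPullback hr.flip ‹GeometricallyConnected f.toNormalization›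
  have hrg : r ≫ pullback.snd f.fromNormalization g = pullback.snd f g :=
    (pullback.lift_snd _ _ _).trans (Category.comp_id _)
  haveI : Surjective (pullback.snd f.fromNormalization g) := MorphismProperty.pullback_snd _ _ inferInstance
  suffices hui : UniversallyInjective (pullback.snd f.fromNormalization g) by
    show GeometricallyConnected (pullback.snd f g)
    rw [← hrg]
    exact Stein58.geometricallyConnected_comp_univInjective r _
  suffices h : ∀ (K : Type u) [Field K], Function.Injective
      (fun p : Spec (CommRingCat.of K) ⟶ pullback f.fromNormalization g => p ≫ pullback.snd f.fromNormalization g) from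
    ((tfae_universallyInjective _).out 0 1).2 h
  intro K _ p₁ p₂ hp
  refine pullback.hom_ext ?_ hp
  let φ := CohIII.stalkToFunctionField f (genericPoint Y) hdom
  -- an affine neighbourhood of the generic point
  obtain ⟨_, ⟨U, hU, rfl⟩, hηU, -⟩ :=
    Y.isBasis_affineOpens.exists_subset_of_mem_open (Set.mem_univ (genericPoint Y)) isOpen_univ
  let W := f.fromNormalization ⁻¹ᵁ U
  have hW : IsAffineOpen W := hU.preimage f.fromNormalization
  let P := f.toNormalization ⁻¹ᵁ W
  have hξ : genericPoint X ∈ P := by
    show f.fromNormalization (f.toNormalization (genericPoint X)) ∈ U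
    rw [← Scheme.Hom.comp_apply, f.toNormalization_fromNormalization]
    exact hdom.mem_open U.2 hηU
  let gY := Y.presheaf.germ U (genericPoint Y) hηU
  let gX := X.presheaf.germ P (genericPoint X) hξ
  let i := (f.fromNormalization.app U).hom
  let j := (f.toNormalization.app W).hom
  have hcompat : ∀ a, φ (gY a) = gX (j (i a)) := fun a => by
    show f.stalkMap (genericPoint X) (Y.presheaf.stalkSpecializes hdom (gY a)) = _
    rw [TopCat.Presheaf.germ_stalkSpecializes_apply]
    refine (Scheme.Hom.germ_stalkMap_apply f U (genericPoint X) (hdom.mem_open U.2 hηU) a).trans ?_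
    exact congrArg (fun m : Γ(Y, U) ⟶ X.presheaf.stalk (genericPoint X) => m a)
      (Stein58.app_germ_of_eq f.toNormalization_fromNormalization.symm U (genericPoint X) (hdom.mem_open U.2 hηU) hξ)
  haveI hiso : IsIso (f.toNormalization.app W) := Stein58.isIso_toNormalization_app f W
  have hj : Function.Injective j := (ConcreteCategory.bijective_of_isIso (f.toNormalization.app W)).1
  have hgX : Function.Injective gX := germ_injective_of_isIntegral _ _ hξ
  haveI : Nonempty U := ⟨⟨_, hηU⟩⟩
  haveI : IsFractionRing Γ(Y, U) Y.functionField := functionField_isFractionRing_of_isAffineOpen Y U hU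
  have hint : i.IsIntegral := IsIntegralHom.isIntegral_app f.fromNormalization U hU
  obtain ⟨q, hq⟩ := ExpChar.exists X.functionField
  rw [ringExpChar.eq X.functionField q] at hrad
  -- every function on the normalization is radicial over the base
  have key : ∀ b : Γ(f.normalization, W), ∃ (n : ℕ) (s a : Γ(Y, U)), gY s ≠ 0 ∧ b ^ q ^ n * i s = i a := by
    intro b
    obtain ⟨P₀, hP₀, hb⟩ := hint b
    have h1 : Polynomial.eval₂ φ (gX (j b)) (P₀.map gY.hom) = 0 := by
      rw [Polynomial.eval₂_map, show φ.comp gY.hom = gX.hom.comp (j.comp i) from RingHom.ext hcompat,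
        ← Polynomial.hom_eval₂, ← Polynomial.hom_eval₂, hb, map_zero, map_zero]
    obtain ⟨n, c, hc⟩ := hrad _ ⟨P₀.map gY.hom, (hP₀.map _).ne_zero, h1⟩
    obtain ⟨a, s, hs, hcs⟩ := IsFractionRing.div_surjective Γ(Y, U) c
    have hs0 : gY s ≠ 0 := fun h0 => nonZeroDivisors.ne_zero hs (germ_injective_of_isIntegral _ _ hηU (h0.trans (map_zero _).symm))
    refine ⟨n, s, a, hs0, hj (hgX ?_)⟩
    rw [map_mul, map_mul, map_pow, map_pow, ← hcompat, ← hcompat, ← hc, ← map_mul]
    refine congrArg φ ?_
    rw [← hcs]
    exact div_mul_cancel₀ _ hs0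
  -- coordinates of the two points
  let w₁ := p₁ ≫ pullback.fst f.fromNormalization g
  let w₂ := p₂ ≫ pullback.fst f.fromNormalization g
  let m := p₁ ≫ pullback.snd f.fromNormalization g
  have hw₁ : w₁ ≫ f.fromNormalization = m ≫ g := by simp [w₁, m, pullback.condition]
  have hw₂ : w₂ ≫ f.fromNormalization = m ≫ g := by
    simp only [w₂, Category.assoc, pullback.condition]
    exact (congrArg (· ≫ g) (show p₂ ≫ pullback.snd f.fromNormalization g = m from hp.symm)).trans (Category.assoc _ _ _)
  have hg : ∀ z, g z = genericPoint Y := Scheme.fromSpecResidueField_apply _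
  have hmg : (m ≫ g) (IsLocalRing.closedPoint K) = genericPoint Y := by
    rw [Scheme.Hom.comp_apply]
    exact hg _
  have hpre : ∀ w : Spec (CommRingCat.of K) ⟶ f.normalization, w ≫ f.fromNormalization = m ≫ g → w ⁻¹ᵁ W = ⊤ := by
    intro w hw
    refine preimage_eq_top_of_mem w ?_
    show f.fromNormalization (w (IsLocalRing.closedPoint K)) ∈ U
    rw [← Scheme.Hom.comp_apply, hw, hmg]
    exact hηU
  have ht : (m ≫ g) ⁻¹ᵁ U = ⊤ := preimage_eq_top_of_mem _ (by rw [hmg]; exact hηU)
  have hcoord : ∀ (w : Spec (CommRingCat.of K) ⟶ f.normalization) (hw : w ≫ f.fromNormalization = m ≫ g) (a : Γ(Y, U)),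
      coord w (hpre w hw) (i a) = coord (m ≫ g) ht a := by
    intro w hw a
    exact coord_app w f.fromNormalization hw (hpre w hw) ht a
  haveI : ExpChar K q := by
    haveI : ExpChar Y.functionField q := RingHom.expChar φ φ.injective q
    let ψ : Y.functionField →+* K := (Spec.preimage m).hom.comp (Y.residue (genericPoint Y)).hom
    exact expChar_of_injective_ringHom ψ.injective q
  have hσ : coord w₁ (hpre w₁ hw₁) = coord w₂ (hpre w₂ hw₂) := by
    refine RingHom.ext fun b => ?_
    obtain ⟨n, s, a, hs, hsa⟩ := key b
    have hτ : coord (m ≫ g) ht s ≠ 0 := by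
      rw [coord_ne_zero_iff, hmg, Scheme.mem_basicOpen _ _ _ hηU]
      exact isUnit_iff_ne_zero.2 hs
    have e₁ := congrArg (coord w₁ (hpre w₁ hw₁)) hsa
    have e₂ := congrArg (coord w₂ (hpre w₂ hw₂)) hsa
    rw [map_mul, map_pow, hcoord w₁ hw₁, hcoord w₁ hw₁] at e₁
    rw [map_mul, map_pow, hcoord w₂ hw₂, hcoord w₂ hw₂] at e₂
    exact iterateFrobenius_inj K q n (mul_right_cancel₀ hτ (e₁.trans e₂.symm))
  show w₁ = w₂
  rw [← SpecMap_coord w₁ hW (hpre w₁ hw₁), ← SpecMap_coord w₂ hW (hpre w₂ hw₂), hσ]

/-- Geometric connectedness of the fibres of a universally open morphism. -/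
theorem geometricallyConnected_fibre_of_univOpen [IsLocallyNoetherian Y] (f : X ⟶ Y) [IsProper f]
    (hdom : f.base (genericPoint X) ⤳ genericPoint Y)
    (hopen : ∀ (Y' : Scheme.{u}) (g : Y' ⟶ Y), IrreducibleSpace ↥Y' → IsLocallyNoetherian Y' →
      IsDominant g → ∀ Z ∈ irreducibleComponents ↥(pullback f g), Dense ((pullback.snd f g).base '' Z))
    (hη : GeometricallyConnected (f.fiberToSpecResidueField (genericPoint Y)))
    (y : Y) : GeometricallyConnected (f.fiberToSpecResidueField y) := by
  classical
  have hgy : genericPoint Y ⤳ y := (genericPoint_spec Y).specializes trivial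
  by_cases hR : IsField (Y.presheaf.stalk y)
  · letI := hR.toField
    obtain ⟨a, ha⟩ := (Scheme.range_fromSpecStalk (X := Y) (x := y)).ge hgy
    rw [show y = genericPoint Y by
      rw [← ha, Subsingleton.elim (α := PrimeSpectrum (Y.presheaf.stalk y)) a (IsLocalRing.closedPoint _),
        Scheme.fromSpecStalk_closedPoint]]
    exact hη
  let K := Y.functionField
  letI : Algebra (Y.presheaf.stalk y) K := (Y.presheaf.stalkSpecializes hgy).hom.toAlgebra
  haveI : IsFractionRing (Y.presheaf.stalk y) K := inferInstance
  haveI : IsScalarTower (Y.presheaf.stalk y) K K := .of_algebraMap_eq fun _ => rfl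
  obtain ⟨V, hV, hle, hlt⟩ := E4O.exists_dvr_dominating hR K K ⟨∅, Subsingleton.elim _ _⟩
  haveI := hV
  let α : Y.presheaf.stalk y →+* V := (algebraMap (Y.presheaf.stalk y) K).codRestrict V.toSubring hle
  haveI : IsLocalHom α := ⟨fun a ha => by
    by_contra hna
    have h1 := hlt a ((IsLocalRing.mem_maximalIdeal a).2 hna)
    exact ((V.valuation_lt_one_iff (α a)).2 h1 : _) ha⟩
  let t : Spec (CommRingCat.of V) ⟶ Y := Spec.map (CommRingCat.ofHom α) ≫ Y.fromSpecStalk y
  let tK : Spec (CommRingCat.of K) ⟶ Spec (CommRingCat.of V) :=
    Spec.map (CommRingCat.ofHom (V.subtype : V →+* K))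
  have htK : tK ≫ t = Y.fromSpecStalk (genericPoint Y) := by
    rw [← Scheme.SpecMap_stalkSpecializes_fromSpecStalk hgy, ← Category.assoc, ← Spec.map_comp]
    rfl
  have hcp : t (IsLocalRing.closedPoint V) = y := by
    show Y.fromSpecStalk y (Spec.map (CommRingCat.ofHom α) (IsLocalRing.closedPoint V)) = y
    rw [show Spec.map (CommRingCat.ofHom α) (IsLocalRing.closedPoint V) = IsLocalRing.closedPoint _ from
      IsLocalRing.comap_closedPoint α, Scheme.fromSpecStalk_closedPoint]
  have hgen : tK (IsLocalRing.closedPoint K) = genericPoint (Spec (CommRingCat.of V)) := by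
    rw [genericPoint_eq_bot_of_affine]
    refine PrimeSpectrum.ext ?_
    show Ideal.comap (V.subtype : V →+* K) (IsLocalRing.maximalIdeal K) = ⊥
    rw [IsLocalRing.maximalIdeal_eq_bot]
    exact (RingHom.injective_iff_ker_eq_bot _).1 Subtype.val_injective
  haveI hdt : IsDominant t := by
    refine ⟨fun z => closure_mono (t := Set.range t) (Set.singleton_subset_iff.2 (Set.mem_range.2 ⟨tK (IsLocalRing.closedPoint K), ?_⟩))
      (specializes_iff_mem_closure.1 ((genericPoint_spec Y).specializes trivial))⟩
    show (tK ≫ t) (IsLocalRing.closedPoint K) = genericPoint Y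
    rw [htK]
    exact Scheme.fromSpecStalk_closedPoint
  let η' := genericPoint (Spec (CommRingCat.of V))
  let p := pullback.snd f t
  haveI : IsProper p := MorphismProperty.pullback_snd _ _ inferInstance
  -- the generic fibre of the base change
  let e := pullbackLeftPullbackSndIso f t tK
  let P := pullback p tK
  let q : P ⟶ X := pullback.fst p tK ≫ pullback.fst f t
  haveI : IsPreimmersion (pullback.fst f (tK ≫ t)) := by
    haveI : IsPreimmersion (tK ≫ t) := by rw [htK]; infer_instance
    exact MorphismProperty.pullback_fst _ _ inferInstance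
  have hq : q = e.hom ≫ pullback.fst f (tK ≫ t) := (pullbackLeftPullbackSndIso_hom_fst f t tK).symm
  have hqi : Topology.IsEmbedding q := by
    rw [hq]
    exact (e.hom ≫ pullback.fst f (tK ≫ t)).isEmbedding
  have hfξ : f (genericPoint X) = genericPoint Y :=
    (hdom.antisymm ((genericPoint_spec Y).specializes trivial)).eq
  obtain ⟨p₁, hp₁, -⟩ := Scheme.Pullback.exists_preimage_pullback (f := f) (g := tK ≫ t) (genericPoint X)
    (IsLocalRing.closedPoint K) (by rw [hfξ, htK]; exact Scheme.fromSpecStalk_closedPoint.symm)
  let p₀ : P := e.inv p₁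
  have hp₀ : q p₀ = genericPoint X := by
    rw [hq]
    show (e.inv ≫ e.hom ≫ pullback.fst f (tK ≫ t)) p₁ = _
    rw [Iso.inv_hom_id_assoc]
    exact hp₁
  let x₀ := pullback.fst p tK p₀
  have hover : ∀ x, p x = η' → x₀ ⤳ x := by
    intro x hx
    obtain ⟨z, hz, -⟩ := Scheme.Pullback.exists_preimage_pullback (f := p) (g := tK) x (IsLocalRing.closedPoint K)
      (hx.trans hgen.symm)
    rw [← hz]
    refine (hqi.isInducing.specializes_iff.1 ?_).map (pullback.fst p tK).continuous
    rw [hp₀]
    exact (genericPoint_spec X).specializes trivial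
  have hall : ∀ x, x₀ ⤳ x := by
    intro x
    let Z := irreducibleComponent x
    have hZ : Z ∈ irreducibleComponents ↥(pullback f t) := irreducibleComponent_mem_irreducibleComponents x
    have hd := hopen (Spec (CommRingCat.of V)) t inferInstance inferInstance inferInstance Z hZ
    have hcl : IsClosed (p '' Z) := p.isClosedMap _ isClosed_irreducibleComponent
    obtain ⟨z, hz, hze⟩ : η' ∈ p '' Z := by
      rw [← hcl.closure_eq, hd.closure_eq]; trivial
    let hirr : IsIrreducible Z := isIrreducible_irreducibleComponent
    have hgenZ := hirr.isGenericPoint_genericPoint isClosed_irreducibleComponent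
    have hp : p hirr.genericPoint = η' :=
      ((hze ▸ (hgenZ.specializes hz).map p.continuous : p hirr.genericPoint ⤳ η').antisymm ((genericPoint_spec _).specializes trivial)).eq
    exact (hover _ hp).trans (hgenZ.specializes mem_irreducibleComponent)
  -- reduce the base change
  let I := Scheme.IdealSheafData.vanishingIdeal (⊤ : TopologicalSpace.Closeds ↥(pullback f t))
  haveI : AlgebraicGeometry.IsReduced I.subscheme := SchBasics.isReduced_vanishingIdeal_subscheme _
  haveI : Surjective I.subschemeι := ⟨fun w => by
    have : w ∈ Set.range I.subschemeι := by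
      rw [Scheme.IdealSheafData.range_subschemeι, Scheme.IdealSheafData.coe_support_vanishingIdeal]
      trivial
    exact this⟩
  obtain ⟨z₀, hz₀⟩ := I.subschemeι.surjective x₀
  haveI : IrreducibleSpace I.subscheme := by
    have hall' : ∀ z, z₀ ⤳ z := fun z =>
      I.subschemeι.isEmbedding.isInducing.specializes_iff.mp (hz₀ ▸ hall (I.subschemeι z))
    have : IsIrreducible (Set.univ : Set I.subscheme) := by
      have e : closure {z₀} = (Set.univ : Set I.subscheme) :=
        Set.eq_univ_of_forall fun z => (hall' z).mem_closure
      rw [← e]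
      exact isIrreducible_singleton.closure
    exact { isPreirreducible_univ := this.2, toNonempty := ⟨z₀⟩ }
  haveI : IsIntegral I.subscheme := isIntegral_of_irreducibleSpace_of_isReduced _
  let p' := I.subschemeι ≫ p
  haveI : IsProper p' := inferInstanceAs (IsProper (_ ≫ _))
  have hx₀ : p x₀ = η' := by
    show (pullback.fst p tK ≫ p) p₀ = η'
    rw [pullback.condition, Scheme.Hom.comp_apply,
      Subsingleton.elim (α := PrimeSpectrum K) (pullback.snd p tK p₀) (IsLocalRing.closedPoint K)]
    exact hgen
  haveI : IsDominant p' := ⟨fun z => closure_mono (t := Set.range p') (Set.singleton_subset_iff.2 (Set.mem_range.2 ⟨z₀, by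
      show p (I.subschemeι z₀) = η'
      rw [hz₀, hx₀]⟩)) (specializes_iff_mem_closure.1 ((genericPoint_spec _).specializes trivial))⟩
  -- its generic fibre
  have hpK : GeometricallyConnected (pullback.snd p tK) := by
    haveI : IsIso (Y.residue (genericPoint Y)) :=
      (ConcreteCategory.isIso_iff_bijective _).2
        ⟨(Y.residue (genericPoint Y)).hom.injective, Y.residue_surjective _⟩
    have h1 : GeometricallyConnected (pullback.snd f (Y.fromSpecStalk (genericPoint Y))) := by
      have : Y.fromSpecStalk (genericPoint Y) =
          inv (Spec.map (Y.residue (genericPoint Y))) ≫ Y.fromSpecResidueField (genericPoint Y) := by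
        rw [Scheme.fromSpecResidueField, IsIso.inv_hom_id_assoc]
      rw [this]
      exact geometricallyConnected_snd_comp f _ _ hη
    rw [← htK] at h1
    rw [show pullback.snd p tK = e.hom ≫ pullback.snd f (tK ≫ t) from (pullbackLeftPullbackSndIso_hom_snd f t tK).symm]
    exact (MorphismProperty.cancel_left_of_respectsIso @GeometricallyConnected _ _).2 h1
  have hp'K : GeometricallyConnected (pullback.snd p' tK) := by
    haveI := hpK
    let i := pullback.map p' tK p tK I.subschemeι (𝟙 _) (𝟙 _) (by simp [p']) (by simp)
    have hi : i ≫ pullback.snd p tK = pullback.snd p' tK := (pullback.lift_snd _ _ _).trans (Category.comp_id _)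
    have hip := (Stein58.isPullback_map_fst tK I.subschemeι (rfl : I.subschemeι ≫ p = p')).flip
    haveI : IsClosedImmersion i := MorphismProperty.of_isPullback hip (inferInstance : IsClosedImmersion I.subschemeι)
    haveI : Surjective i := MorphismProperty.of_isPullback hip ‹Surjective I.subschemeι›
    rw [← hi]
    exact geometricallyConnected_comp_closedImmersion i _
  haveI : GeometricallyConnected p' := S7803.result p'
    (FBase64.ProperNhd.isGeomUnibranch_stalk V) (geometricallyConnected_fibre_of_point p' tK hgen hp'K)
  haveI : GeometricallyConnected p := geometricallyConnected_of_comp_surjective I.subschemeι p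
  let res : Spec (CommRingCat.of (IsLocalRing.ResidueField V)) ⟶ Spec (CommRingCat.of V) :=
    Spec.map (CommRingCat.ofHom (IsLocalRing.residue V))
  refine geometricallyConnected_fibre_of_point f (res ≫ t) ?_ (geometricallyConnected_snd_comp f t res inferInstance)
  show t (res (IsLocalRing.closedPoint (IsLocalRing.ResidueField V))) = y
  rw [show res (IsLocalRing.closedPoint (IsLocalRing.ResidueField V)) = IsLocalRing.closedPoint V from
    IsLocalRing.comap_closedPoint (IsLocalRing.residue V), hcp]

end Groth.Agent.RB70
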