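import Groth.Agent.DCX42.KInjPush
import Groth.Agent.DCK91.LpullComp
import Groth.Agent.Mod48.KFlatColim
import Groth.Agent.DerComp18.AwayHom
import Groth.Agent.Var76.Frames
import Groth.Prelude.Def_DCoh2
import Mathlib.Algebra.Homology.HomotopyCategory.MappingCone

/-!
# Direct images of K-injective complexes are acyclic for global sections
-/

set_option autoImplicit false
set_option linter.style.haveILetI false
set_option backward.isDefEq.respectTransparency.types false
set_option maxHeartbeats 1000000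

noncomputable section

universe u

open CategoryTheory CategoryTheory.Limits CategoryTheory.Pretriangulated DerivedCategory AlgebraicGeometry Opposite
open scoped ZeroObject

attribute [local instance] HasDerivedCategory.standard

namespace Groth.Agent.RB70.WeakKInj

variable {X Y : Scheme.{u}}

/-- Homotopy classes of maps out of K-flat complexes with flat terms into `M` are maps in `D(Y)`. -/
def IsWeakKInj (M : CochainComplex Y.Modules ℤ) : Prop :=
  ∀ P, DCK91.KFFh Y P → Function.Bijective (Qh.map :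
    (P ⟶ (HomotopyCategory.quotient _ _).obj M) → (Qh.obj P ⟶ Qh.obj ((HomotopyCategory.quotient _ _).obj M)))

theorem isWeakKInj_of_iso {M M' : CochainComplex Y.Modules ℤ} (e : M ≅ M') (h : IsWeakKInj M) :
    IsWeakKInj M' := by
  intro P hP
  let q := (HomotopyCategory.quotient Y.Modules (ComplexShape.up ℤ)).mapIso e
  refine ⟨fun a b hab => ?_, fun b => ?_⟩
  · refine (cancel_mono q.inv).1 ((h P hP).1 ?_)
    rw [Functor.map_comp, Functor.map_comp, hab]
  · obtain ⟨a, ha⟩ := (h P hP).2 (b ≫ Qh.map q.inv)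
    refine ⟨a ≫ q.hom, ?_⟩
    rw [Functor.map_comp, ha, Category.assoc, ← Functor.map_comp, q.inv_hom_id]
    exact (congrArg (b ≫ ·) (Qh.map_id _)).trans (Category.comp_id b)

/-- The pullback of a quasi-isomorphism between K-flat complexes with flat terms. -/
theorem isIso_Qh_pull (g : X ⟶ Y) {P P' : HomotopyCategory Y.Modules (ComplexShape.up ℤ)} (s : P' ⟶ P)
    (hP : DCK91.KFFh Y P) (hP' : DCK91.KFFh Y P') (hs : IsIso (Qh.map s)) :
    IsIso (Qh.map (((Scheme.Modules.pullback g).mapHomotopyCategory (ComplexShape.up ℤ)).map s)) := by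
  haveI := DCK91.hasLpull g
  let c := (DCoh.pullKh g).totalLeftDerivedCounit DerivedCategory.Qh
    (HomotopyCategory.quasiIso Y.Modules (ComplexShape.up ℤ))
  haveI := DCK91.isIso_pullCounit g P hP
  haveI := DCK91.isIso_pullCounit g P' hP'
  have h := c.naturality s
  have : (DCoh.pullKh g).map s = inv (c.app P') ≫ (Qh ⋙ DCoh.Lpull g).map s ≫ c.app P :=
    (IsIso.eq_inv_comp _).2 h.symm
  change IsIso ((DCoh.pullKh g).map s)
  rw [this]
  haveI : IsIso ((Qh ⋙ DCoh.Lpull g).map s) := inferInstanceAs (IsIso ((DCoh.Lpull g).map (Qh.map s)))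
  infer_instance

/-- Direct images of K-injective complexes. -/
theorem isWeakKInj_push (g : X ⟶ Y) (B : CochainComplex X.Modules ℤ) [B.IsKInjective] :
    IsWeakKInj (((Scheme.Modules.pushforward g).mapHomologicalComplex (ComplexShape.up ℤ)).obj B) := by
  let pb := (Scheme.Modules.pullback g).mapHomotopyCategory (ComplexShape.up ℤ)
  let adj := Mod48.adjHomotopy (Scheme.Modules.pullbackPushforwardAdjunction g)
  let eM := ((Scheme.Modules.pushforward g).mapHomotopyCategoryFactors (ComplexShape.up ℤ)).app B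
  let H : ∀ P, (P ⟶ (HomotopyCategory.quotient _ _).obj
      (((Scheme.Modules.pushforward g).mapHomologicalComplex (ComplexShape.up ℤ)).obj B)) ≃
      (pb.obj P ⟶ (HomotopyCategory.quotient _ _).obj B) := fun P =>
    eM.symm.homToEquiv.trans (adj.homEquiv P _).symm
  have hnat : ∀ {P P'} (s : P' ⟶ P) φ, H P' (s ≫ φ) = pb.map s ≫ H P φ := fun s φ => by
    simp only [H, Equiv.trans_apply, Iso.homToEquiv_apply, Category.assoc]
    exact adj.homEquiv_naturality_left_symm _ _
  intro P hP
  have hbij : ∀ Z, Function.Bijective (Qh.map :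
      (Z ⟶ (HomotopyCategory.quotient X.Modules _).obj B) → _) :=
    fun Z => CochainComplex.IsKInjective.Qh_map_bijective Z B
  -- denominators can be cleared
  have clear_den : ∀ {P'} (s : P' ⟶ P), DCK91.KFFh Y P' → IsIso (Qh.map s) →
      ∀ r : P' ⟶ (HomotopyCategory.quotient _ _).obj
        (((Scheme.Modules.pushforward g).mapHomologicalComplex (ComplexShape.up ℤ)).obj B),
        ∃ φ, s ≫ φ = r := fun {P'} s hP' hs r => by
    haveI := isIso_Qh_pull g s hP hP' hs
    obtain ⟨ψ, hψ⟩ := (hbij (pb.obj P)).2 (inv (Qh.map (pb.map s)) ≫ Qh.map (H P' r))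
    refine ⟨(H P).symm ψ, (H P').injective ((hbij _).1 ?_)⟩
    rw [hnat, Equiv.apply_symm_apply, Functor.map_comp, hψ, IsIso.hom_inv_id_assoc]
  refine ⟨fun a b hab => ?_, fun a => ?_⟩
  · obtain ⟨P₁, s₁, hs₁, heq⟩ :=
      (MorphismProperty.map_eq_iff_precomp Qh (HomotopyCategory.quasiIso Y.Modules (ComplexShape.up ℤ)) a b).1 hab
    obtain ⟨P₂, q, hP₂, hq⟩ := DCK91.hasRes_KFFh Y P₁
    haveI := Localization.inverts Qh (HomotopyCategory.quasiIso Y.Modules (ComplexShape.up ℤ)) s₁ hs₁
    haveI := Localization.inverts Qh (HomotopyCategory.quasiIso Y.Modules (ComplexShape.up ℤ)) q hq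
    haveI : IsIso (Qh.map (q ≫ s₁)) := by rw [Functor.map_comp]; infer_instance
    haveI := isIso_Qh_pull g (q ≫ s₁) hP hP₂ inferInstance
    refine (H P).injective ((hbij _).1 ?_)
    rw [← cancel_epi (Qh.map (pb.map (q ≫ s₁))), ← Functor.map_comp, ← Functor.map_comp, ← hnat, ← hnat,
      Category.assoc, Category.assoc, heq]
  · obtain ⟨φ, hφ⟩ := Localization.exists_rightFraction Qh
      (HomotopyCategory.quasiIso Y.Modules (ComplexShape.up ℤ)) a
    obtain ⟨P₂, q, hP₂, hq⟩ := DCK91.hasRes_KFFh Y φ.X'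
    haveI := Localization.inverts Qh (HomotopyCategory.quasiIso Y.Modules (ComplexShape.up ℤ)) φ.s φ.hs
    haveI := Localization.inverts Qh (HomotopyCategory.quasiIso Y.Modules (ComplexShape.up ℤ)) q hq
    haveI : IsIso (Qh.map (q ≫ φ.s)) := by rw [Functor.map_comp]; infer_instance
    obtain ⟨ψ, hψ⟩ := clear_den (q ≫ φ.s) hP₂ inferInstance (q ≫ φ.f)
    refine ⟨ψ, ?_⟩
    rw [← cancel_epi (Qh.map (q ≫ φ.s)), ← Functor.map_comp, hψ, hφ, Functor.map_comp, Functor.map_comp,
      Category.assoc, MorphismProperty.RightFraction.map_s_comp_map]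

/-- The structure sheaf in any degree is K-flat with flat terms. -/
theorem kffh_unit (k : ℤ) : DCK91.KFFh Y ((HomotopyCategory.quotient _ _).obj
    ((HomologicalComplex.single Y.Modules (ComplexShape.up ℤ) k).obj (Coh.structureModule Y))) := by
  refine ⟨_, rfl, Mod48.isKFlat_single_shift (O := Y.sheaf) DerComp18.isFlat_unit' k, fun i => ?_⟩
  by_cases hi : i = k
  · subst hi
    exact Mod48.isFlat_of_iso (HomologicalComplex.singleObjXSelf (ComplexShape.up ℤ) i (Coh.structureModule Y)).symm
      DerComp18.isFlat_unit'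
  · exact Mod48.isFlat_of_isZero (HomologicalComplex.isZero_single_obj_X _ _ _ _ hi)

/-- Maps out of the structure sheaf into the cone vanish. -/
theorem hom_cone_eq_zero {M J : CochainComplex Y.Modules ℤ} (f : M ⟶ J) [QuasiIso f] [J.IsKInjective]
    (hM : IsWeakKInj M) (k : ℤ)
    (φ : (HomotopyCategory.quotient _ _).obj
      ((HomologicalComplex.single Y.Modules (ComplexShape.up ℤ) k).obj (Coh.structureModule Y)) ⟶
        (HomotopyCategory.quotient _ _).obj (CochainComplex.mappingCone f)) : φ = 0 := by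
  let q := HomotopyCategory.quotient Y.Modules (ComplexShape.up ℤ)
  let T := CochainComplex.mappingCone.triangleh f
  have hT : T ∈ distTriang _ := HomotopyCategory.mappingCone_triangleh_distinguished f
  haveI : IsIso (Qh.map (q.map f)) := by
    haveI : IsIso (Q.map f) := by rwa [DerivedCategory.isIso_Q_map_iff_quasiIso]
    exact (NatIso.isIso_map_iff (quotientCompQhIso Y.Modules).symm f).1 inferInstance
  have hQT := Qh.map_distinguished T hT
  haveI : IsIso (Qh.mapTriangle.obj T).mor₁ := inferInstanceAs (IsIso (Qh.map (q.map f)))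
  have hz : IsZero (Qh.mapTriangle.obj T).obj₃ :=
    (Triangle.isZero₃_iff_isIso₁ _ hQT).2 inferInstance
  let S := q.obj ((HomologicalComplex.single Y.Modules (ComplexShape.up ℤ) k).obj (Coh.structureModule Y))
  let φ' : S ⟶ T.obj₃ := φ
  have hQ : Qh.map φ' = 0 := hz.eq_of_tgt _ _
  let x : S ⟶ (q.obj M)⟦(1 : ℤ)⟧ := φ' ≫ T.mor₃
  have hx : Qh.map x = 0 := (Qh.map_comp φ' T.mor₃).trans (by rw [hQ]; exact zero_comp)
  have h0 : x = 0 := by
    let sh := shiftFunctor (HomotopyCategory Y.Modules (ComplexShape.up ℤ)) (-1 : ℤ)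
    let e := (shiftFunctorCompIsoId (HomotopyCategory Y.Modules (ComplexShape.up ℤ)) (1 : ℤ) (-1) (by omega)).app (q.obj M)
    let i : S⟦(-1 : ℤ)⟧ ≅
        q.obj ((HomologicalComplex.single Y.Modules (ComplexShape.up ℤ) (k + 1)).obj (Coh.structureModule Y)) :=
      ((q.commShiftIso (-1 : ℤ)).app _).symm ≪≫ q.mapIso
        (((CochainComplex.singleFunctors Y.Modules).shiftIso (-1) (k + 1) k (by omega)).app _)
    have hsx : Qh.map (sh.map x) = 0 := by
      rw [← cancel_mono ((Qh.commShiftIso (-1 : ℤ)).hom.app _), zero_comp]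
      refine ((Qh.commShiftIso (-1 : ℤ)).hom.naturality x).trans ?_
      rw [Functor.comp_map, hx, Functor.map_zero, comp_zero]
    have h2 : i.inv ≫ sh.map x ≫ e.hom = 0 := (hM _ (kffh_unit (k + 1))).1
      ((Qh.map_comp _ _).trans ((congrArg (_ ≫ ·) ((Qh.map_comp _ _).trans (by rw [hsx]; exact zero_comp))).trans
        (comp_zero.trans (Qh.map_zero _ _).symm)))
    refine sh.map_injective ?_
    rw [← cancel_mono e.hom, ← cancel_epi i.inv, h2, Functor.map_zero]
    simp
  obtain ⟨ψ, hψ⟩ := Triangle.coyoneda_exact₃ T hT φ' h0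
  let ψ' : S ⟶ q.obj J := ψ
  obtain ⟨a, ha⟩ := (hM _ (kffh_unit k)).2 (Qh.map ψ' ≫ inv (Qh.map (q.map f)))
  have : ψ' = a ≫ q.map f := by
    refine (CochainComplex.IsKInjective.Qh_map_bijective _ J).1 ?_
    exact ((Qh.map_comp _ _).trans ((congrArg (· ≫ Qh.map (q.map f)) ha).trans
      ((Category.assoc _ _ _).trans ((congrArg (_ ≫ ·) (IsIso.inv_hom_id _)).trans (Category.comp_id _))))).symm
  show φ' = 0
  refine hψ.trans ((congrArg (fun z : S ⟶ T.obj₂ => z ≫ T.mor₂) this).trans ?_)
  exact (Category.assoc a T.mor₁ T.mor₂).trans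
    ((congrArg (a ≫ ·) (comp_distTriang_mor_zero₁₂ T hT)).trans comp_zero)

/-- Global sections of a complex without maps from the structure sheaf are exact. -/
theorem exactAt_gamma (C : CochainComplex Y.Modules ℤ)
    (h : ∀ (k : ℤ) (φ : (HomotopyCategory.quotient _ _).obj
      ((HomologicalComplex.single Y.Modules (ComplexShape.up ℤ) k).obj (Coh.structureModule Y)) ⟶
        (HomotopyCategory.quotient _ _).obj C), φ = 0) (k : ℤ) :
    (((DCoh.gammaAb Y).mapHomologicalComplex (ComplexShape.up ℤ)).obj C).ExactAt k := by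
  rw [HomologicalComplex.exactAt_iff' _ (k - 1) k (k + 1) (by simp) (by simp), ShortComplex.ab_exact_iff]
  intro (s : Γ(C.X k, ⊤)) (hs : (C.d k (k + 1)).app ⊤ s = 0)
  let x := Var76.Frames.ofSection (C.X k) s
  have hx : ∀ l, (ComplexShape.up ℤ).Rel k l → x ≫ C.d k l = 0 := by
    intro l hl
    obtain rfl : k + 1 = l := hl
    refine (SheafOfModules.unitHomEquiv _).injective (Subtype.ext (funext fun U => ?_))
    show (C.d k (k + 1)).app U.unop (x.app U.unop (1 : Γ(Y, U.unop))) = (0 : Γ(C.X (k + 1), U.unop))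
    rw [show x.app U.unop (1 : Γ(Y, U.unop)) = _ from Var76.Frames.val_ofSection (C.X k) s U.unop]
    show (C.d k (k + 1)).app U.unop (QC70.res (C.X k) le_top s) = 0
    rw [QC70.app_res, hs]
    exact map_zero _
  have hnull := h k ((HomotopyCategory.quotient _ _).map (HomologicalComplex.mkHomFromSingle x hx))
  rw [← Functor.map_zero (HomotopyCategory.quotient Y.Modules (ComplexShape.up ℤ))
    ((HomologicalComplex.single Y.Modules (ComplexShape.up ℤ) k).obj (Coh.structureModule Y)) C] at hnull
  let hh := HomotopyCategory.homotopyOfEq _ _ hnull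
  have hc := hh.comm k
  rw [HomologicalComplex.mkHomFromSingle_f, dNext_eq _ (show (ComplexShape.up ℤ).Rel k (k + 1) from rfl),
    prevD_eq _ (show (ComplexShape.up ℤ).Rel (k - 1) k by simp), HomologicalComplex.single_obj_d] at hc
  simp only [zero_comp, zero_add, HomologicalComplex.zero_f, add_zero] at hc
  rw [← Iso.eq_inv_comp, ← Category.assoc] at hc
  refine ⟨((HomologicalComplex.singleObjXSelf (ComplexShape.up ℤ) k (Coh.structureModule Y)).inv ≫
    hh.hom k (k - 1)).app ⊤ (1 : Γ(Y, ⊤)), ?_⟩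
  show (C.d (k - 1) k).app ⊤ _ = s
  refine (congrArg (fun a : Coh.structureModule Y ⟶ C.X k => a.app ⊤ (1 : Γ(Y, ⊤))) hc).symm.trans ?_
  exact (Var76.Frames.val_ofSection (C.X k) s ⊤).trans (QC70.res_self _)

/-- The comparison `Γ(M) ⟶ RΓ(M)` is invertible for weakly K-injective `M`. -/
theorem isIso_unit_RGamma [DCoh.HasRΓ Y] (M : CochainComplex Y.Modules ℤ) (hM : IsWeakKInj M) :
    IsIso (((DCoh.gammaKh Y).totalRightDerivedUnit DerivedCategory.Qh
      (HomotopyCategory.quasiIso Y.Modules (ComplexShape.up ℤ))).app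
      ((HomotopyCategory.quotient Y.Modules (ComplexShape.up ℤ)).obj M)) := by
  obtain ⟨J, f, hJ, hf, -⟩ := CohDer42.exists_kinjective_resolution M
  let q := HomotopyCategory.quotient Y.Modules (ComplexShape.up ℤ)
  let α := (DCoh.gammaKh Y).totalRightDerivedUnit DerivedCategory.Qh
    (HomotopyCategory.quasiIso Y.Modules (ComplexShape.up ℤ))
  haveI : IsIso (α.app (q.obj J)) := Mod48.isIso_unit_of_kInjective _ _ CohDer42.RdAdj.enoughKInj J hJ
  haveI : IsIso (Qh.map (q.map f)) := by
    haveI : IsIso (Q.map f) := by rwa [DerivedCategory.isIso_Q_map_iff_quasiIso]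
    exact (NatIso.isIso_map_iff (quotientCompQhIso Y.Modules).symm f).1 inferInstance
  let G := (DCoh.gammaAb Y).mapHomologicalComplex (ComplexShape.up ℤ)
  have hG : IsIso (Q.map (G.map f)) := by
    let T := Q.mapTriangle.obj (CochainComplex.mappingCone.triangle (G.map f))
    have hT : T ∈ distTriang _ := by
      rw [DerivedCategory.mem_distTriang_iff]
      exact ⟨_, _, G.map f, ⟨Iso.refl _⟩⟩
    refine (Triangle.isZero₃_iff_isIso₁ T hT).1 ?_
    haveI : QuasiIso (0 : CochainComplex.mappingCone (G.map f) ⟶ 0) := by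
      rw [quasiIso_iff]
      intro i
      rw [quasiIsoAt_iff_exactAt]
      · exact HomologicalComplex.exactAt_iff_isZero_homology _ _ |>.2
          ((HomologicalComplex.homologyFunctor _ _ i).map_isZero (isZero_zero _))
      · exact (exactAt_gamma _ (hom_cone_eq_zero f hM) i).of_iso
          (CochainComplex.mappingCone.mapHomologicalComplexIso f (DCoh.gammaAb Y))
    haveI : IsIso (Q.map (0 : CochainComplex.mappingCone (G.map f) ⟶ 0)) := by
      rw [DerivedCategory.isIso_Q_map_iff_quasiIso]; infer_instance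
    exact (Q.map_isZero (isZero_zero _)).of_iso (@asIso _ _ _ _ (Q.map (0 : CochainComplex.mappingCone (G.map f) ⟶ 0)) this)
  haveI : IsIso ((DCoh.gammaKh Y).map (q.map f)) := by
    haveI : IsIso (Qh.map ((HomotopyCategory.quotient _ _).map (G.map f))) :=
      (NatIso.isIso_map_iff (quotientCompQhIso AddCommGrpCat.{u}).symm (G.map f)).1 hG
    exact (NatIso.isIso_map_iff (Functor.isoWhiskerRight
      ((DCoh.gammaAb Y).mapHomotopyCategoryFactors (ComplexShape.up ℤ)).symm Qh) f).1 this
  have h := α.naturality (q.map f)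
  haveI : IsIso ((DCoh.RΓ Y).map (Qh.map (q.map f))) := inferInstance
  haveI : IsIso (α.app (q.obj M) ≫ (DCoh.RΓ Y).map (Qh.map (q.map f))) :=
    (congrArg IsIso h).mp IsIso.comp_isIso
  exact IsIso.of_isIso_comp_right (α.app (q.obj M)) ((DCoh.RΓ Y).map (Qh.map (q.map f)))

/-- Direct images of K-injective complexes, restricted to an open, are acyclic for global sections. -/
theorem isIso_unit_push (f : X ⟶ Y) (B : CochainComplex X.Modules ℤ)
    [B.IsKInjective] (U : Y.Opens) [DCoh.HasRΓ (U : Scheme.{u})] :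
    IsIso (((DCoh.gammaKh (U : Scheme.{u})).totalRightDerivedUnit DerivedCategory.Qh
      (HomotopyCategory.quasiIso (U : Scheme.{u}).Modules (ComplexShape.up ℤ))).app
      ((HomotopyCategory.quotient (U : Scheme.{u}).Modules (ComplexShape.up ℤ)).obj
        ((DCoh.restrictCx U).obj (((Scheme.Modules.pushforward f).mapHomologicalComplex (ComplexShape.up ℤ)).obj B)))) := by
  haveI := DCX42.isKInjective_restrict (f ⁻¹ᵁ U).ι B inferInstance
  refine isIso_unit_RGamma _ (isWeakKInj_of_iso ?_ (isWeakKInj_push (f ∣_ U) ((DCX42.resCx (f ⁻¹ᵁ U).ι).obj B)))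
  exact ((NatIso.mapHomologicalComplex (GSS45.RelExt.pushRestrictIso f U) (ComplexShape.up ℤ)).app B).symm

end Groth.Agent.RB70.WeakKInj
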